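import Mathlib
import Cfsg.Agent.Lib.Small.Generation.ThreeUnipotent
import Cfsg.Prelude.Def_LieTypeDatum

/-!
`PSL_n` over a field: the projection, automorphisms induced by matrices, field automorphisms and
inverse-transpose, their relations, and their identification with the predicates of the definitions.
-/

set_option autoImplicit false
set_option linter.unusedSectionVars false

namespace Cfsg.Agent.Small.PSLn

open Matrix Cfsg.Agent.Small.Generation

variable {n : ℕ} {F : Type*} [Field F]

local notation "SLn" => Matrix.SpecialLinearGroup (Fin n) F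
local notation "Pn" => Matrix.ProjectiveSpecialLinearGroup (Fin n) F

/-- The projection `SL_n → PSL_n`. -/
def pr : SLn →* Pn := QuotientGroup.mk' (Subgroup.center SLn)

theorem pr_surjective : Function.Surjective (pr : SLn → Pn) := QuotientGroup.mk'_surjective _

theorem pr_apply (A : SLn) : pr A = QuotientGroup.mk A := rfl

theorem scalar_eq_smul (r : F) :
    Matrix.scalar (Fin n) r = r • (1 : Matrix (Fin n) (Fin n) F) := by
  rw [Matrix.scalar_apply, Matrix.smul_one_eq_diagonal]

theorem pr_eq_iff (A B : SLn) : pr A = pr B ↔ ∃ ε : F, ε ^ n = 1 ∧ A.1 = ε • B.1 := by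
  rw [pr, eq_comm, QuotientGroup.mk'_eq_mk']
  constructor
  · rintro ⟨z, hz, rfl⟩
    obtain ⟨r, hr, hzr⟩ := Matrix.SpecialLinearGroup.mem_center_iff.mp hz
    refine ⟨r, by simpa using hr, ?_⟩
    rw [Matrix.SpecialLinearGroup.coe_mul, ← hzr, scalar_eq_smul, Matrix.mul_smul, Matrix.mul_one]
  · rintro ⟨ε, hε, h⟩
    have hdet : (ε • (1 : Matrix (Fin n) (Fin n) F)).det = 1 := by simp [hε]
    refine ⟨⟨ε • 1, hdet⟩, ?_, ?_⟩
    · exact Matrix.SpecialLinearGroup.mem_center_iff.mpr ⟨ε, by simpa using hε, scalar_eq_smul ε⟩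
    · apply Subtype.ext
      change B.1 * (ε • 1) = A.1
      rw [h, Matrix.mul_smul, Matrix.mul_one]

/-- Scalar multiples of square-zero unipotent matrices are equal only trivially. -/
theorem unipotent_smul_eq [NeZero n] {N N' : Matrix (Fin n) (Fin n) F} (hN : N * N = 0)
    (hN' : N' * N' = 0) {ε : F} (h : 1 + N = ε • (1 + N')) : ε = 1 := by
  by_contra hne
  have h1 : N = (ε - 1) • (1 : Matrix (Fin n) (Fin n) F) + ε • N' := by
    rw [sub_smul, one_smul, sub_add_eq_add_sub, ← smul_add, ← h, add_sub_cancel_left]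
  have h2 : ((ε - 1) * (ε - 1)) • (1 : Matrix (Fin n) (Fin n) F) +
      (2 * ε * (ε - 1)) • N' = 0 := by
    rw [← hN, h1]
    simp only [add_mul, mul_add, Matrix.smul_mul, Matrix.mul_smul, smul_smul, Matrix.mul_one,
      Matrix.one_mul, hN', smul_zero, add_zero]
    module
  have h3 : ((ε - 1) * (ε - 1)) • N' = 0 := by
    have := congrArg (· * N') h2
    simpa [add_mul, Matrix.smul_mul, hN'] using this
  have hsq : (ε - 1) * (ε - 1) ≠ 0 := mul_ne_zero (sub_ne_zero.mpr hne) (sub_ne_zero.mpr hne)
  rw [smul_eq_zero, or_iff_right hsq] at h3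
  rw [h3, smul_zero, add_zero] at h2
  have := congrFun (congrFun h2 0) 0
  rw [Matrix.smul_apply, Matrix.one_apply_eq, Matrix.zero_apply, smul_eq_mul, mul_one] at this
  exact hsq this

/-! ### Automorphisms -/

/-- Conjugation by an invertible matrix. -/
def conjSL : GL (Fin n) F →* MulAut SLn where
  toFun g :=
    { toFun := fun A => ⟨g.val * A.1 * g⁻¹.val, by
        rw [Matrix.det_mul_right_comm, ← Units.val_mul, mul_inv_cancel, Units.val_one, Matrix.one_mul, A.2]⟩
      invFun := fun A => ⟨g⁻¹.val * A.1 * g.val, by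
        rw [Matrix.det_mul_right_comm, ← Units.val_mul, inv_mul_cancel, Units.val_one, Matrix.one_mul, A.2]⟩
      left_inv := fun A => by
        apply Subtype.ext
        change g⁻¹.val * (g.val * A.1 * g⁻¹.val) * g.val = A.1
        rw [← mul_assoc, ← mul_assoc, Units.inv_mul, one_mul, mul_assoc, Units.inv_mul, mul_one]
      right_inv := fun A => by
        apply Subtype.ext
        change g.val * (g⁻¹.val * A.1 * g.val) * g⁻¹.val = A.1
        rw [← mul_assoc, ← mul_assoc, Units.mul_inv, one_mul, mul_assoc, Units.mul_inv, mul_one]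
      map_mul' := fun A B => by
        apply Subtype.ext
        change g.val * (A.1 * B.1) * g⁻¹.val = g.val * A.1 * g⁻¹.val * (g.val * B.1 * g⁻¹.val)
        simp only [mul_assoc, Units.inv_mul_cancel_left] }
  map_one' := by
    apply MulEquiv.ext
    intro A
    apply Subtype.ext
    change (1 : GL (Fin n) F).val * A.1 * (1 : GL (Fin n) F)⁻¹.val = A.1
    simp
  map_mul' g h := by
    apply MulEquiv.ext
    intro A
    apply Subtype.ext
    change (g * h).val * A.1 * (g * h)⁻¹.val = g.val * (h.val * A.1 * h⁻¹.val) * g⁻¹.val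
    rw [_root_.mul_inv_rev, Units.val_mul, Units.val_mul]
    simp only [mul_assoc]

theorem conjSL_val (g : GL (Fin n) F) (A : SLn) :
    (conjSL g A).1 = g.val * A.1 * g⁻¹.val := rfl

/-- A field automorphism acting on entries. -/
def fieldSL : (F ≃+* F) →* MulAut SLn where
  toFun σ :=
    { toFun := Matrix.SpecialLinearGroup.map (σ : F →+* F)
      invFun := Matrix.SpecialLinearGroup.map (σ.symm : F →+* F)
      left_inv := fun A => by ext i j; simp
      right_inv := fun A => by ext i j; simp
      map_mul' := map_mul _ }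
  map_one' := by ext A i j; rfl
  map_mul' σ τ := by ext A i j; rfl

theorem fieldSL_val (σ : F ≃+* F) (A : SLn) : (fieldSL σ A).1 = A.1.map σ := rfl

/-- Inverse-transpose. -/
def invTSL : MulAut SLn where
  toFun A := A⁻¹.transpose
  invFun A := A⁻¹.transpose
  left_inv A := by
    apply Subtype.ext
    simp [Matrix.SpecialLinearGroup.coe_transpose, Matrix.SpecialLinearGroup.coe_inv,
      Matrix.adjugate_transpose]
    rw [← Matrix.SpecialLinearGroup.coe_inv, ← Matrix.SpecialLinearGroup.coe_inv, inv_inv]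
  right_inv A := by
    apply Subtype.ext
    simp [Matrix.SpecialLinearGroup.coe_transpose, Matrix.SpecialLinearGroup.coe_inv,
      Matrix.adjugate_transpose]
    rw [← Matrix.SpecialLinearGroup.coe_inv, ← Matrix.SpecialLinearGroup.coe_inv, inv_inv]
  map_mul' A B := by
    apply Subtype.ext
    simp [Matrix.SpecialLinearGroup.coe_transpose, Matrix.transpose_mul]

theorem invTSL_val (A : SLn) : (invTSL A).1 = (A⁻¹).1.transpose := rfl

/-- Automorphisms of `SL_n` descend to `PSL_n`. -/
noncomputable def descend : MulAut SLn →* MulAut Pn where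
  toFun e := QuotientGroup.congr _ _ e
    (Subgroup.characteristic_iff_map_eq.mp inferInstance e)
  map_one' := by
    ext g
    obtain ⟨A, rfl⟩ := pr_surjective g
    rfl
  map_mul' e e' := by
    ext g
    obtain ⟨A, rfl⟩ := pr_surjective g
    rfl

/-- Conjugation by `GL_n` on `PSL_n`. -/
noncomputable def conjP : GL (Fin n) F →* MulAut Pn := descend.comp conjSL

/-- Field automorphisms of `PSL_n`. -/
noncomputable def fieldP : (F ≃+* F) →* MulAut Pn := descend.comp fieldSL

/-- Inverse-transpose on `PSL_n`. -/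
noncomputable def itP : MulAut Pn := descend invTSL

theorem conjP_apply (g : GL (Fin n) F) (A : SLn) : conjP g (pr A) = pr (conjSL g A) := rfl
theorem fieldP_apply (σ : F ≃+* F) (A : SLn) : fieldP σ (pr A) = pr (fieldSL σ A) := rfl
theorem itP_apply (A : SLn) : (itP : MulAut Pn) (pr A) = pr (invTSL A) := rfl

theorem itP_sq : (itP : MulAut Pn) * itP = 1 := by
  rw [itP, ← map_mul, show (invTSL : MulAut SLn) * invTSL = 1 from
    MulEquiv.ext fun A => invTSL.left_inv A, map_one]

theorem conjP_toGL (A : SLn) :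
    conjP (Matrix.SpecialLinearGroup.toGL A) = MulAut.conj (pr A) := by
  ext g
  obtain ⟨B, rfl⟩ := pr_surjective g
  rw [conjP_apply, MulAut.conj_apply, ← map_inv, ← map_mul, ← map_mul]
  congr 1

/-- Field automorphism applied to `GL_n`. -/
def glField (σ : F ≃+* F) : GL (Fin n) F →* GL (Fin n) F :=
  Units.map (RingHom.mapMatrix (σ : F →+* F)).toMonoidHom

theorem glField_val (σ : F ≃+* F) (g : GL (Fin n) F) : (glField σ g).val = g.val.map σ := rfl

/-- Inverse-transpose on `GL_n`. -/
def glIt : GL (Fin n) F →* GL (Fin n) F where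
  toFun g := ⟨g⁻¹.val.transpose, g.val.transpose,
    by rw [← Matrix.transpose_mul, Units.mul_inv, Matrix.transpose_one],
    by rw [← Matrix.transpose_mul, Units.inv_mul, Matrix.transpose_one]⟩
  map_one' := by apply Units.ext; simp
  map_mul' g h := by
    apply Units.ext
    change (g * h)⁻¹.val.transpose = g⁻¹.val.transpose * h⁻¹.val.transpose
    rw [_root_.mul_inv_rev, Units.val_mul, Matrix.transpose_mul]

theorem glIt_val (g : GL (Fin n) F) : (glIt g).val = g⁻¹.val.transpose := rfl
theorem glIt_inv_val (g : GL (Fin n) F) : (glIt g)⁻¹.val = g.val.transpose := rfl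

theorem fieldP_conjP (σ : F ≃+* F) (g : GL (Fin n) F) :
    fieldP σ * conjP g = conjP (glField σ g) * fieldP σ := by
  ext x
  obtain ⟨A, rfl⟩ := pr_surjective x
  rw [MulAut.mul_apply, MulAut.mul_apply, conjP_apply, fieldP_apply, fieldP_apply, conjP_apply]
  congr 1
  apply Subtype.ext
  change (σ : F →+* F).mapMatrix (g.val * A.1 * g⁻¹.val) = _
  rw [map_mul, map_mul]
  rfl

theorem itP_conjP (g : GL (Fin n) F) : itP * conjP g = conjP (glIt g) * itP := by
  ext x
  obtain ⟨A, rfl⟩ := pr_surjective x
  rw [MulAut.mul_apply, MulAut.mul_apply, conjP_apply, itP_apply, itP_apply, conjP_apply]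
  congr 1
  apply Subtype.ext
  rw [invTSL_val, ← map_inv (conjSL g), conjSL_val, conjSL_val, invTSL_val, glIt_val, glIt_inv_val,
    Matrix.transpose_mul, Matrix.transpose_mul, mul_assoc]

theorem itP_fieldP (σ : F ≃+* F) : (itP : MulAut Pn) * fieldP σ = fieldP σ * itP := by
  rw [itP, fieldP, MonoidHom.comp_apply, ← map_mul, ← map_mul]
  congr 1
  ext A i j
  rw [MulAut.mul_apply, MulAut.mul_apply, invTSL_val, ← map_inv (fieldSL σ), fieldSL_val,
    fieldSL_val, invTSL_val]
  rfl

/-- A matrix inducing the trivial automorphism is scalar. -/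
theorem scalar_of_conjP_eq_one [NeZero n] {g : GL (Fin n) F} (h : conjP g = 1) :
    ∃ c : F, g.val = c • (1 : Matrix (Fin n) (Fin n) F) := by
  obtain ⟨c, hc⟩ : g.val ∈ Set.range (Matrix.scalar (Fin n)) := by
    rw [Matrix.mem_range_scalar_iff_commute_single]
    intro i j hij
    set S := Matrix.single i j (1 : F) with hS
    have hSS : S * S = 0 := by simp [hS, Ne.symm hij]
    have h1 := DFunLike.congr_fun h (pr (Matrix.SpecialLinearGroup.transvection hij (1 : F)))
    rw [conjP_apply, MulAut.one_apply, pr_eq_iff] at h1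
    obtain ⟨ε, -, h1⟩ := h1
    rw [conjSL_val, Matrix.SpecialLinearGroup.transvection_coe, ← hS, mul_add, mul_one, add_mul,
      Units.mul_inv] at h1
    have hN : g.val * S * g⁻¹.val * (g.val * S * g⁻¹.val) = 0 := by
      simp only [mul_assoc, Units.inv_mul_cancel_left]
      rw [← mul_assoc S, hSS, zero_mul, mul_zero]
    have hε := unipotent_smul_eq hN hSS h1
    rw [hε, one_smul, add_right_inj] at h1
    have h2 := congrArg (· * g.val) h1
    simp only [mul_assoc, Units.inv_mul, mul_one] at h2
    exact h2.symm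
  exact ⟨c, by rw [← hc, scalar_eq_smul]⟩

theorem conjP_of_scalar {g : GL (Fin n) F} {c : F} (h : g.val = c • (1 : Matrix (Fin n) (Fin n) F)) :
    conjP g = 1 := by
  ext x
  obtain ⟨A, rfl⟩ := pr_surjective x
  rw [conjP_apply, MulAut.one_apply]
  congr 1
  apply Subtype.ext
  rw [conjSL_val, h, Matrix.smul_mul, Matrix.one_mul]
  have h2 : A.1 * (c • g⁻¹.val) = A.1 := by
    rw [show c • g⁻¹.val = g.val * g⁻¹.val by rw [h, Matrix.smul_mul, Matrix.one_mul],
      Units.mul_inv, Matrix.mul_one]
  rw [Matrix.mul_smul] at h2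
  rw [Matrix.smul_mul, h2]

/-! ### The predicates -/

theorem induced_iff (g : GL (Fin n) F) (σ : F ≃+* F) (β : MulAut Pn) :
    Cfsg.IsInducedBySemilinearPSL g σ β ↔ β = conjP g * fieldP σ := by
  constructor
  · intro h
    ext x
    obtain ⟨A, rfl⟩ := pr_surjective x
    exact h A (conjSL g (fieldSL σ A)) rfl
  · rintro rfl s s' hs
    change pr (conjSL g (fieldSL σ s)) = pr s'
    congr 1
    exact Subtype.ext hs.symm

theorem innerDiag_iff (β : MulAut Pn) :
    Cfsg.IsInnerDiagonalAutPSL β ↔ ∃ g, β = conjP g := by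
  constructor
  · rintro ⟨g, h⟩
    refine ⟨g, ?_⟩
    ext x
    obtain ⟨A, rfl⟩ := pr_surjective x
    exact h A (conjSL g A) rfl
  · rintro ⟨g, rfl⟩
    refine ⟨g, fun s s' hs => ?_⟩
    change pr (conjSL g s) = pr s'
    congr 1
    exact Subtype.ext hs.symm

theorem stdField_iff (σ : F ≃+* F) (β : MulAut Pn) :
    Cfsg.IsStdFieldAutPSL σ β ↔ β = fieldP σ := by
  constructor
  · intro h
    ext x
    obtain ⟨A, rfl⟩ := pr_surjective x
    exact h A (fieldSL σ A) rfl
  · rintro rfl s s' hs
    change pr (fieldSL σ s) = pr s'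
    congr 1
    exact Subtype.ext hs.symm

theorem invT_iff (β : MulAut Pn) : Cfsg.IsInverseTransposeAutPSL β ↔ β = itP := by
  constructor
  · intro h
    ext x
    obtain ⟨A, rfl⟩ := pr_surjective x
    exact h A (invTSL A) rfl
  · rintro rfl s s' hs
    change pr (invTSL s) = pr s'
    congr 1
    exact Subtype.ext hs.symm

theorem inndiag_eq : Cfsg.inndiagPSL n F = (conjP (n := n) (F := F)).range := by
  apply le_antisymm
  · rw [Cfsg.inndiagPSL, Cfsg.autSubgroupOf, Subgroup.closure_le]
    intro β hβ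
    obtain ⟨g, rfl⟩ := (innerDiag_iff β).mp hβ
    exact ⟨g, rfl⟩
  · rintro _ ⟨g, rfl⟩
    exact Subgroup.subset_closure ((innerDiag_iff _).mpr ⟨g, rfl⟩)

end Cfsg.Agent.Small.PSLn
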