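import Mathlib
import Cfsg.Agent.Lib.Small.PSLn.Basic

/-!
Transvections in `PSL_n`, `n ≥ 3`: when two of them commute, when their product is again one, and
the effect of the standard automorphisms.
-/

set_option autoImplicit false
set_option linter.unusedSectionVars false

namespace Cfsg.Agent.Small.PSLn

open Matrix Cfsg.Agent.Small.Generation
open scoped commutatorElement

variable {n : ℕ} {F : Type*} [Field F]

local notation "SLn" => Matrix.SpecialLinearGroup (Fin n) F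
local notation "Pn" => Matrix.ProjectiveSpecialLinearGroup (Fin n) F

open scoped _root_.Classical in
/-- The image in `PSL_n` of the transvection `1 + a φ`. -/
noncomputable def TT (a φ : Fin n → F) : Pn := if h : φ ⬝ᵥ a = 0 then pr (tE a φ h) else 1

theorem TT_of {a φ : Fin n → F} (h : φ ⬝ᵥ a = 0) : TT a φ = pr (tE a φ h) := dif_pos h

/-- A nontrivial transvection of `PSL_n`. -/
def IsTr (x : Pn) : Prop :=
  ∃ a φ : Fin n → F, a ≠ 0 ∧ φ ≠ 0 ∧ φ ⬝ᵥ a = 0 ∧ x = TT a φ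

/-- The root element `1 + t E_ij`. -/
noncomputable def xx (i j : Fin n) (t : F) : Pn :=
  TT (t • (Pi.single i 1 : Fin n → F)) (Pi.single j 1)

theorem xx_perp {i j : Fin n} (hij : i ≠ j) (t : F) :
    (Pi.single j 1 : Fin n → F) ⬝ᵥ (t • Pi.single i 1) = 0 := by
  simp [Ne.symm hij]

theorem single_one_ne_zero (i : Fin n) : (Pi.single i 1 : Fin n → F) ≠ 0 := fun h => by
  have := congrFun h i
  simp at this

theorem tE_eq_transvection {i j : Fin n} (hij : i ≠ j) (t : F) :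
    tE (t • Pi.single i 1) (Pi.single j 1) (xx_perp hij t) =
      (Matrix.SpecialLinearGroup.transvection hij t : SLn) := by
  apply Subtype.ext
  rw [Matrix.SpecialLinearGroup.transvection_coe]
  change tv _ _ = _
  apply ext_mulVec
  intro x
  rw [tv_mulVec, Matrix.add_mulVec, Matrix.one_mulVec, Matrix.single_mulVec]
  funext k
  rcases eq_or_ne k i with rfl | hk
  · simp; ring
  · simp [hk]

theorem xx_eq {i j : Fin n} (hij : i ≠ j) (t : F) :
    xx i j t = pr (Matrix.SpecialLinearGroup.transvection hij t : SLn) := by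
  rw [xx, TT_of (xx_perp hij t), tE_eq_transvection hij t]

theorem vecMulVec_sq {a φ : Fin n → F} (h : φ ⬝ᵥ a = 0) :
    Matrix.vecMulVec a φ * Matrix.vecMulVec a φ = 0 := by
  rw [Matrix.vecMulVec_mul_vecMulVec, h, zero_smul, Matrix.vecMulVec_zero]

theorem vecMulVec_inj [NeZero n] {a φ b ψ : Fin n → F} (h₁ : φ ⬝ᵥ a = 0) (h₂ : ψ ⬝ᵥ b = 0)
    (h : TT a φ = TT b ψ) : Matrix.vecMulVec a φ = Matrix.vecMulVec b ψ := by
  rw [TT_of h₁, TT_of h₂, pr_eq_iff] at h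
  obtain ⟨ε, -, h⟩ := h
  change tv a φ = ε • tv b ψ at h
  rw [tv, tv] at h
  have hε := unipotent_smul_eq (vecMulVec_sq h₁) (vecMulVec_sq h₂) h
  rw [hε, one_smul] at h
  exact add_left_cancel h

theorem TT_zero (φ : Fin n → F) : TT (0 : Fin n → F) φ = 1 := by
  rw [TT_of (dotProduct_zero φ), show tE (0 : Fin n → F) φ (dotProduct_zero φ) = 1 from
    Subtype.ext (by change tv 0 φ = 1; simp [tv]), map_one]

theorem TT_eq_one [NeZero n] {a φ : Fin n → F} (h : φ ⬝ᵥ a = 0) (h1 : TT a φ = 1) :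
    a = 0 ∨ φ = 0 := by
  rw [← TT_zero φ] at h1
  have h2 := vecMulVec_inj h (dotProduct_zero φ) h1
  rw [Matrix.zero_vecMulVec] at h2
  by_contra hc
  rw [not_or] at hc
  obtain ⟨i, hi⟩ := Function.ne_iff.mp hc.1
  obtain ⟨j, hj⟩ := Function.ne_iff.mp hc.2
  have := congrFun (congrFun h2 i) j
  rw [Matrix.vecMulVec_apply, Matrix.zero_apply] at this
  exact mul_ne_zero hi hj this

theorem TT_smul (k : F) (a φ : Fin n → F) (h : φ ⬝ᵥ a = 0) :
    TT (k • a) φ = TT a (k • φ) := by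
  rw [TT_of (show φ ⬝ᵥ (k • a) = 0 by rw [dotProduct_smul, h, smul_zero]),
    TT_of (show (k • φ) ⬝ᵥ a = 0 by rw [smul_dotProduct, h, smul_zero])]
  congr 1
  exact Subtype.ext (tv_smul k a φ)

theorem TT_mul_axis {a c φ : Fin n → F} (ha : φ ⬝ᵥ a = 0) (hc : φ ⬝ᵥ c = 0) :
    TT a φ * TT c φ = TT (a + c) φ := by
  rw [TT_of ha, TT_of hc, TT_of (show φ ⬝ᵥ (a + c) = 0 by rw [dotProduct_add, ha, hc, add_zero]),
    ← map_mul]
  congr 1
  exact Subtype.ext (tv_add_left a c φ hc)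

theorem tv_add_right (a φ ψ : Fin n → F) (h : φ ⬝ᵥ a = 0) :
    tv a φ * tv a ψ = tv a (φ + ψ) := by
  apply ext_mulVec
  intro x
  rw [← Matrix.mulVec_mulVec, tv_mulVec, tv_mulVec, tv_mulVec, dotProduct_add, dotProduct_smul, h,
    smul_zero, add_zero, add_dotProduct]
  module

theorem TT_mul_centre {a φ ψ : Fin n → F} (ha : φ ⬝ᵥ a = 0) (hc : ψ ⬝ᵥ a = 0) :
    TT a φ * TT a ψ = TT a (φ + ψ) := by
  rw [TT_of ha, TT_of hc, TT_of (show (φ + ψ) ⬝ᵥ a = 0 by rw [add_dotProduct, ha, hc, add_zero]),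
    ← map_mul]
  congr 1
  exact Subtype.ext (tv_add_right a φ ψ ha)

theorem exists_smul_of_ker {φ ψ : Fin n → F} (h : ∀ x, φ ⬝ᵥ x = 0 → ψ ⬝ᵥ x = 0) :
    ∃ k : F, ψ = k • φ := by
  by_cases h0 : φ = 0
  · refine ⟨0, funext fun i => ?_⟩
    simpa [h0] using h (Pi.single i 1) (by simp [h0])
  obtain ⟨j, hj⟩ : ∃ j, φ j ≠ 0 := Function.ne_iff.mp h0
  refine ⟨ψ j / φ j, funext fun i => ?_⟩
  have := h (Pi.single i 1 - (φ i / φ j) • Pi.single j 1) (by
    rw [dotProduct_sub, dotProduct_smul, dotProduct_single, dotProduct_single]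
    simp only [mul_one, smul_eq_mul]
    field_simp
    ring)
  rw [dotProduct_sub, dotProduct_smul, dotProduct_single, dotProduct_single] at this
  simp only [mul_one, smul_eq_mul, sub_eq_zero] at this
  rw [Pi.smul_apply, smul_eq_mul, this]
  ring

theorem mulVec_tv_pair (a φ b ψ x : Fin n → F) :
    (tv a φ * tv b ψ) *ᵥ x = x + (φ ⬝ᵥ x) • a + (ψ ⬝ᵥ x) • b + ((ψ ⬝ᵥ x) * (φ ⬝ᵥ b)) • a := by
  rw [← Matrix.mulVec_mulVec, tv_mulVec, tv_mulVec, dotProduct_add, dotProduct_smul, smul_eq_mul]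
  module

/-- Two transvections commute exactly when each centre lies on the other axis. -/
theorem commute_iff (hn : 3 ≤ n) {a φ b ψ : Fin n → F} (ha : a ≠ 0) (hφ : φ ≠ 0) (hb : b ≠ 0)
    (hψ : ψ ≠ 0) (h₁ : φ ⬝ᵥ a = 0) (h₂ : ψ ⬝ᵥ b = 0) :
    Commute (TT a φ) (TT b ψ) ↔ φ ⬝ᵥ b = 0 ∧ ψ ⬝ᵥ a = 0 := by
  constructor
  · intro h
    rw [TT_of h₁, TT_of h₂, Commute, SemiconjBy, ← map_mul, ← map_mul, pr_eq_iff] at h
    obtain ⟨ε, -, h⟩ := h
    change tv a φ * tv b ψ = ε • (tv b ψ * tv a φ) at h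
    have happ : ∀ x, x + (φ ⬝ᵥ x) • a + (ψ ⬝ᵥ x) • b + ((ψ ⬝ᵥ x) * (φ ⬝ᵥ b)) • a =
        ε • (x + (ψ ⬝ᵥ x) • b + (φ ⬝ᵥ x) • a + ((φ ⬝ᵥ x) * (ψ ⬝ᵥ a)) • b) := fun x => by
      rw [← mulVec_tv_pair, ← mulVec_tv_pair, h, Matrix.smul_mulVec]
    obtain ⟨x, hx0, hxφ, hxψ⟩ : ∃ x : Fin n → F, x ≠ 0 ∧ φ ⬝ᵥ x = 0 ∧ ψ ⬝ᵥ x = 0 := by
      let f : (Fin n → F) →ₗ[F] F × F :=
        { toFun := fun x => (φ ⬝ᵥ x, ψ ⬝ᵥ x)
          map_add' := fun x y => by simp [dotProduct_add]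
          map_smul' := fun c x => by simp [dotProduct_smul] }
      have hker : LinearMap.ker f ≠ ⊥ := fun hbot => by
        have := LinearMap.finrank_le_finrank_of_injective (LinearMap.ker_eq_bot.mp hbot)
        rw [Module.finrank_fin_fun, Module.finrank_prod, Module.finrank_self] at this
        omega
      obtain ⟨x, hx, hx0⟩ := Submodule.exists_mem_ne_zero_of_ne_bot hker
      exact ⟨x, hx0, congrArg Prod.fst hx, congrArg Prod.snd hx⟩
    have hε : ε = 1 := by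
      have := happ x
      simp only [hxφ, hxψ, zero_smul, zero_mul, add_zero] at this
      obtain ⟨i, hi⟩ := Function.ne_iff.mp hx0
      have h' := congrFun this i
      rw [Pi.smul_apply, smul_eq_mul] at h'
      exact (mul_eq_right₀ hi).mp h'.symm
    have key : ∀ x, ((ψ ⬝ᵥ x) * (φ ⬝ᵥ b)) • a = ((φ ⬝ᵥ x) * (ψ ⬝ᵥ a)) • b := fun x => by
      have := happ x
      rw [hε, one_smul, add_right_comm x ((ψ ⬝ᵥ x) • b)] at this
      exact add_left_cancel this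
    have hφb : φ ⬝ᵥ b = 0 := by
      by_contra hne
      obtain ⟨j, hj⟩ : ∃ j, ψ j ≠ 0 := Function.ne_iff.mp hψ
      have := key (Pi.single j 1)
      simp only [dotProduct_single, mul_one] at this
      have h' := congrArg (φ ⬝ᵥ ·) this
      simp only [dotProduct_smul, h₁, smul_eq_mul, mul_zero] at h'
      rcases mul_eq_zero.mp h'.symm with h'' | h''
      · rw [h'', zero_smul, smul_eq_zero] at this
        exact this.elim (mul_ne_zero hj hne) ha
      · exact hne h''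
    refine ⟨hφb, ?_⟩
    obtain ⟨j, hj⟩ : ∃ j, φ j ≠ 0 := Function.ne_iff.mp hφ
    have := key (Pi.single j 1)
    simp only [dotProduct_single, mul_one, hφb, mul_zero, zero_smul] at this
    rcases smul_eq_zero.mp this.symm with h' | h'
    · exact (mul_eq_zero.mp h').resolve_left hj
    · exact absurd h' hb
  · rintro ⟨hb', ha'⟩
    rw [TT_of h₁, TT_of h₂, Commute, SemiconjBy, ← map_mul, ← map_mul]
    congr 1
    apply Subtype.ext
    change tv a φ * tv b ψ = tv b ψ * tv a φ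
    apply ext_mulVec
    intro x
    rw [mulVec_tv_pair, mulVec_tv_pair, hb', ha']
    module

/-- Commuting transvections whose product is a transvection share a centre or an axis. -/
theorem parallel_of_mul [NeZero n] {a φ b ψ : Fin n → F} (ha : a ≠ 0) (hφ : φ ≠ 0)
    (h₁ : φ ⬝ᵥ a = 0) (h₂ : ψ ⬝ᵥ b = 0) (hb' : φ ⬝ᵥ b = 0) (ha' : ψ ⬝ᵥ a = 0)
    (h : IsTr (TT a φ * TT b ψ) ∨ TT a φ * TT b ψ = 1) :
    (∃ k : F, b = k • a) ∨ (∃ k : F, ψ = k • φ) := by
  obtain ⟨c, χ, hcχ, hprod⟩ : ∃ c χ : Fin n → F, χ ⬝ᵥ c = 0 ∧ TT a φ * TT b ψ = TT c χ := by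
    rcases h with ⟨c, χ, -, -, h3, h4⟩ | h
    · exact ⟨c, χ, h3, h4⟩
    · exact ⟨0, φ, dotProduct_zero φ, by rw [h, TT_zero]⟩
  have hN : tv a φ * tv b ψ = 1 + (Matrix.vecMulVec a φ + Matrix.vecMulVec b ψ) := by
    apply ext_mulVec
    intro x
    rw [mulVec_tv_pair, hb', Matrix.add_mulVec, Matrix.one_mulVec, Matrix.add_mulVec,
      Matrix.vecMulVec_mulVec, Matrix.vecMulVec_mulVec]
    simp only [op_smul_eq_smul, mul_zero, zero_smul, add_zero]
    abel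
  rw [TT_of h₁, TT_of h₂, TT_of hcχ, ← map_mul, pr_eq_iff] at hprod
  obtain ⟨ε, -, hprod⟩ := hprod
  change tv a φ * tv b ψ = ε • tv c χ at hprod
  rw [hN, tv] at hprod
  have hsq : (Matrix.vecMulVec a φ + Matrix.vecMulVec b ψ) *
      (Matrix.vecMulVec a φ + Matrix.vecMulVec b ψ) = 0 := by
    simp [mul_add, add_mul, Matrix.vecMulVec_mul_vecMulVec, h₁, h₂, hb', ha']
  rw [unipotent_smul_eq hsq (vecMulVec_sq hcχ) hprod, one_smul, add_right_inj] at hprod
  have happ : ∀ x, (φ ⬝ᵥ x) • a + (ψ ⬝ᵥ x) • b = (χ ⬝ᵥ x) • c := fun x => by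
    have := congrArg (· *ᵥ x) hprod
    simpa [Matrix.add_mulVec, Matrix.vecMulVec_mulVec, op_smul_eq_smul] using this
  by_cases h1 : ∀ x, φ ⬝ᵥ x = 0 → ψ ⬝ᵥ x = 0
  · exact Or.inr (exists_smul_of_ker h1)
  by_cases h2 : ∀ x, ψ ⬝ᵥ x = 0 → φ ⬝ᵥ x = 0
  · obtain ⟨k, hk⟩ := exists_smul_of_ker h2
    have hk0 : k ≠ 0 := fun h0 => hφ (by rw [hk, h0, zero_smul])
    exact Or.inr ⟨k⁻¹, by rw [hk, smul_smul, inv_mul_cancel₀ hk0, one_smul]⟩
  push Not at h1 h2
  obtain ⟨x, hx1, hx2⟩ := h1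
  obtain ⟨y, hy1, hy2⟩ := h2
  left
  have ex := happ x
  have ey := happ y
  rw [hx1, zero_smul, zero_add] at ex
  rw [hy1, zero_smul, add_zero] at ey
  have hχy : χ ⬝ᵥ y ≠ 0 := fun h0 => by
    rw [h0, zero_smul, smul_eq_zero] at ey
    exact ey.elim hy2 ha
  refine ⟨(χ ⬝ᵥ x) * (φ ⬝ᵥ y) / ((ψ ⬝ᵥ x) * (χ ⬝ᵥ y)), ?_⟩
  have : ((ψ ⬝ᵥ x) * (χ ⬝ᵥ y)) • b = ((χ ⬝ᵥ x) * (φ ⬝ᵥ y)) • a := by
    rw [mul_comm (ψ ⬝ᵥ x), mul_smul, ex, smul_comm, ← ey, smul_smul]
  rw [div_eq_inv_mul, mul_smul, ← this, smul_smul, inv_mul_cancel₀ (mul_ne_zero hx2 hχy), one_smul]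

theorem conjP_TT {g : GL (Fin n) F} {a φ : Fin n → F} (h : φ ⬝ᵥ a = 0) :
    conjP g (TT a φ) = TT (g.val *ᵥ a) (φ ᵥ* g⁻¹.val) := by
  have h' : (φ ᵥ* g⁻¹.val) ⬝ᵥ (g.val *ᵥ a) = 0 := by
    rw [← Matrix.dotProduct_mulVec, Matrix.mulVec_mulVec, Units.inv_mul, Matrix.one_mulVec, h]
  rw [TT_of h, TT_of h', conjP_apply]
  congr 1
  apply Subtype.ext
  rw [conjSL_val]
  change g.val * tv a φ * g⁻¹.val = tv _ _
  rw [tv, tv, mul_add, mul_one, add_mul, Units.mul_inv, Matrix.mul_vecMulVec, Matrix.vecMulVec_mul]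

theorem conjP_isTr {g : GL (Fin n) F} {x : Pn} (h : IsTr x) : IsTr (conjP g x) := by
  obtain ⟨a, φ, ha, hφ, hp, rfl⟩ := h
  rw [conjP_TT hp]
  refine ⟨_, _, fun h => ha ?_, fun h => hφ ?_, ?_, rfl⟩
  · have := congrArg (g⁻¹.val *ᵥ ·) h
    simpa [Matrix.mulVec_mulVec] using this
  · have := congrArg (· ᵥ* g.val) h
    simpa [Matrix.vecMul_vecMul] using this
  · rw [← Matrix.dotProduct_mulVec, Matrix.mulVec_mulVec, Units.inv_mul, Matrix.one_mulVec, hp]

theorem itP_xx {i j : Fin n} (hij : i ≠ j) (t : F) :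
    (itP : MulAut Pn) (xx i j t) = xx j i (-t) := by
  rw [xx_eq hij, xx_eq (Ne.symm hij), itP_apply]
  congr 1
  apply Subtype.ext
  rw [invTSL_val, Matrix.SpecialLinearGroup.transvection_inv,
    Matrix.SpecialLinearGroup.transvection_coe, Matrix.SpecialLinearGroup.transvection_coe,
    Matrix.transpose_add, Matrix.transpose_one, Matrix.transpose_single]

theorem fieldP_xx (σ : F ≃+* F) {i j : Fin n} (hij : i ≠ j) (t : F) :
    fieldP σ (xx i j t) = xx i j (σ t) := by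
  rw [xx_eq hij, xx_eq hij, fieldP_apply]
  congr 1
  apply Subtype.ext
  rw [fieldSL_val, Matrix.SpecialLinearGroup.transvection_coe,
    Matrix.SpecialLinearGroup.transvection_coe, Matrix.map_add σ (map_add σ),
    Matrix.map_one σ (map_zero σ) (map_one σ), Matrix.map_single]

theorem xx_zero (i j : Fin n) : xx i j (0 : F) = 1 := by rw [xx, zero_smul, TT_zero]

theorem xx_add {i j : Fin n} (hij : i ≠ j) (s t : F) :
    xx i j (s + t) = xx i j s * xx i j t := by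
  rw [xx, xx, xx, TT_mul_axis (xx_perp hij s) (xx_perp hij t), add_smul]

theorem xx_inj [NeZero n] {i j : Fin n} (hij : i ≠ j) {s t : F} (h : xx i j s = xx i j t) :
    s = t := by
  have := congrFun (congrFun (vecMulVec_inj (xx_perp hij s) (xx_perp hij t) h) i) j
  simpa [Matrix.vecMulVec_apply] using this

theorem xx_commutator {i j k : Fin n} (hij : i ≠ j) (hjk : j ≠ k) (hik : i ≠ k) (a b : F) :
    ⁅xx i j a, xx j k b⁆ = xx i k (a * b) := by
  rw [xx_eq hij, xx_eq hjk, xx_eq hik, ← map_commutatorElement,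
    Cfsg.Agent.Classical.sl_transvection_commutator hik hij hjk]

theorem aut_ext (hn : 2 ≤ n) {α β : MulAut Pn}
    (h : ∀ i j : Fin n, i ≠ j → ∀ t : F, α (xx i j t) = β (xx i j t)) : α = β := by
  have : Nontrivial (Fin n) := Fin.nontrivial_iff_two_le.mpr hn
  have heq : α.toMonoidHom.comp (pr : SLn →* Pn) = β.toMonoidHom.comp pr := by
    refine MonoidHom.eq_of_eqOn_dense Cfsg.Agent.Classical.sl_closure_transvections ?_
    rintro _ ⟨i, j, hij, c, rfl⟩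
    change α (pr _) = β (pr _)
    rw [← xx_eq hij]
    exact h i j hij c
  ext x
  obtain ⟨A, rfl⟩ := pr_surjective x
  exact DFunLike.congr_fun heq A

end Cfsg.Agent.Small.PSLn
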