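import Mathlib
import Cfsg.Agent.Lib.Small.PSLn.Transvection
import Cfsg.Agent.Lib.Small.Flags.Count

/-!
The unitriangular Sylow subgroup of `PSL_n(q)`, its centre, and the consequence that every
automorphism carries root elements to transvections.
-/

set_option autoImplicit false
set_option linter.unusedSectionVars false

namespace Cfsg.Agent.Small.PSLn

open Matrix Cfsg.Agent.Small.Generation

variable {n : ℕ} {F : Type*} [Field F]

local notation "SLn" => Matrix.SpecialLinearGroup (Fin n) F
local notation "Pn" => Matrix.ProjectiveSpecialLinearGroup (Fin n) F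

/-- Upper unitriangular matrices. -/
def IsUT (A : Matrix (Fin n) (Fin n) F) : Prop :=
  (∀ i, A i i = 1) ∧ ∀ i j, j < i → A i j = 0

theorem IsUT.mul {A B : Matrix (Fin n) (Fin n) F} (hA : IsUT A) (hB : IsUT B) : IsUT (A * B) := by
  constructor
  · intro i
    rw [Matrix.mul_apply, Finset.sum_eq_single i, hA.1, hB.1, one_mul]
    · intro k _ hk
      rcases lt_or_gt_of_ne hk with h | h
      · rw [hA.2 i k h, zero_mul]
      · rw [hB.2 k i h, mul_zero]
    · simp
  · intro i j hji
    rw [Matrix.mul_apply]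
    refine Finset.sum_eq_zero fun k _ => ?_
    rcases lt_or_ge k i with h | h
    · rw [hA.2 i k h, zero_mul]
    · rw [hB.2 k j (lt_of_lt_of_le hji h), mul_zero]

variable [Fintype F]

/-- The upper unitriangular group inside `SL_n`. -/
def UTg (n : ℕ) (F : Type*) [Field F] [Fintype F] :
    Subgroup (Matrix.SpecialLinearGroup (Fin n) F) :=
  let M : Submonoid (Matrix.SpecialLinearGroup (Fin n) F) :=
    { carrier := {A | IsUT A.1}
      one_mem' := ⟨fun i => Matrix.one_apply_eq i, fun i j h => Matrix.one_apply_ne (ne_of_gt h)⟩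
      mul_mem' := fun ha hb => IsUT.mul ha hb }
  { M with
    inv_mem' := fun {A} hA => by
      classical
      obtain ⟨k, hk⟩ : ∃ k : ℕ, A⁻¹ = A ^ k :=
        ⟨orderOf A - 1, inv_eq_of_mul_eq_one_right (by
          rw [← pow_succ', Nat.sub_add_cancel (orderOf_pos A), pow_orderOf_eq_one])⟩
      rw [hk]
      exact M.pow_mem hA k }

theorem mem_UTg {A : SLn} : A ∈ UTg n F ↔ IsUT A.1 := Iff.rfl

theorem card_lt_pairs : Nat.card {p : Fin n × Fin n // p.1 < p.2} = n.choose 2 := by
  classical
  let S : Finset (Fin n × Fin n) := Finset.univ.filter fun p => p.1 < p.2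
  let T : Finset (Fin n × Fin n) := Finset.univ.filter fun p => p.2 < p.1
  have h1 : S.card = T.card := Finset.card_bij' (fun p _ => p.swap) (fun p _ => p.swap)
    (fun p hp => by simpa [S, T] using hp) (fun p hp => by simpa [S, T] using hp)
    (fun p _ => Prod.swap_swap p) (fun p _ => Prod.swap_swap p)
  have h2 : (Finset.univ : Finset (Fin n)).offDiag = S ∪ T := by
    ext p
    simp only [Finset.mem_offDiag, Finset.mem_union, Finset.mem_univ, true_and, S, T,
      Finset.mem_filter]
    exact ne_iff_lt_or_gt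
  have h3 := congrArg Finset.card h2
  rw [Finset.offDiag_card, Finset.card_univ, Fintype.card_fin, Finset.card_union_of_disjoint,
    ← h1] at h3
  · rw [Nat.card_eq_fintype_card, Fintype.card_subtype, Nat.choose_two_right, Nat.mul_sub, mul_one,
      h3]
    change S.card = _
    omega
  · exact Finset.disjoint_left.mpr fun p hS hT => by
      simp only [S, T, Finset.mem_filter, Finset.mem_univ, true_and] at hS hT
      exact lt_asymm hS hT

theorem card_UTg : Nat.card (UTg n F) = Fintype.card F ^ n.choose 2 := by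
  classical
  let E : (UTg n F) ≃ ({p : Fin n × Fin n // p.1 < p.2} → F) :=
    { toFun := fun A p => A.1.1 p.1.1 p.1.2
      invFun := fun f =>
        let M : Matrix (Fin n) (Fin n) F := fun i j =>
          if i = j then 1 else if h : i < j then f ⟨(i, j), h⟩ else 0
        have hM : IsUT M := ⟨fun i => if_pos rfl, fun i j h => by
          simp only [M, if_neg (ne_of_gt h), dif_neg (lt_asymm h)]⟩
        ⟨⟨M, by
          rw [Matrix.det_of_isUpperTriangular (fun i j h => hM.2 i j h)]
          exact Finset.prod_eq_one fun i _ => hM.1 i⟩, hM⟩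
      left_inv := fun A => by
        apply Subtype.ext
        apply Subtype.ext
        funext i j
        simp only
        split_ifs with h1 h2
        · rw [h1]; exact (A.2.1 j).symm
        · rfl
        · exact (A.2.2 i j (lt_of_le_of_ne (not_lt.mp h2) (Ne.symm h1))).symm
      right_inv := fun f => by
        funext p
        simp only
        rw [if_neg (ne_of_lt p.2), dif_pos p.2] }
  rw [Nat.card_congr E, Nat.card_fun, card_lt_pairs, Nat.card_eq_fintype_card]

theorem pr_injOn_UT [NeZero n] {A B : SLn} (hA : IsUT A.1) (hB : IsUT B.1) (h : pr A = pr B) :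
    A = B := by
  obtain ⟨ε, -, h⟩ := (pr_eq_iff A B).mp h
  have h0 := congrFun (congrFun h 0) 0
  rw [Matrix.smul_apply, hA.1, hB.1, smul_eq_mul, mul_one] at h0
  apply Subtype.ext
  rw [h, ← h0, one_smul]

/-- The unitriangular subgroup of `PSL_n`. -/
def U (n : ℕ) (F : Type*) [Field F] [Fintype F] :
    Subgroup (Matrix.ProjectiveSpecialLinearGroup (Fin n) F) :=
  (UTg n F).map pr

theorem card_U [NeZero n] : Nat.card (U n F) = Fintype.card F ^ n.choose 2 := by
  rw [← card_UTg]
  refine (Nat.card_congr (Equiv.ofBijective (fun A : UTg n F => (⟨pr A.1, A.1, A.2, rfl⟩ : U n F))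
    ⟨fun A B h => Subtype.ext (pr_injOn_UT A.2 B.2 (congrArg Subtype.val h)), ?_⟩)).symm
  rintro ⟨_, A, hA, rfl⟩
  exact ⟨⟨A, hA⟩, rfl⟩

theorem isPGroup_U [NeZero n] {p f : ℕ} (hF : Fintype.card F = p ^ f) :
    IsPGroup p (U n F) := by
  refine IsPGroup.of_card (n := f * n.choose 2) ?_
  rw [card_U, hF, ← pow_mul]

theorem not_dvd_index [NeZero n] {p f : ℕ} [Fact p.Prime] (hf : 1 ≤ f)
    (hF : Fintype.card F = p ^ f) : ¬ p ∣ (U n F).index := by
  classical
  set q := Fintype.card F with hq
  have : Finite Pn := Finite.of_surjective _ pr_surjective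
  have hP : Nat.card Pn * Nat.card (Subgroup.center SLn) = Nat.card SLn :=
    (Subgroup.card_eq_card_quotient_mul_card_subgroup _).symm
  have hSL : Nat.card SLn * (q - 1) = Nat.card (GL (Fin n) F) := by
    let d : GL (Fin n) F →* Fˣ := Matrix.GeneralLinearGroup.det
    have hsurj : Function.Surjective d := fun u => by
      refine ⟨Matrix.GeneralLinearGroup.mkOfDetNeZero
        (Matrix.diagonal (Function.update 1 0 (u : F))) ?_, ?_⟩
      · rw [Matrix.det_diagonal, Finset.prod_update_of_mem (Finset.mem_univ _)]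
        simp
      · apply Units.ext
        simp [d, Matrix.GeneralLinearGroup.val_det_apply, Matrix.GeneralLinearGroup.mkOfDetNeZero,
          Finset.prod_update_of_mem]
    rw [Subgroup.card_eq_card_quotient_mul_card_subgroup d.ker,
      Nat.card_congr (QuotientGroup.quotientKerEquivOfSurjective d hsurj).toEquiv, Nat.card_units,
      Nat.card_eq_fintype_card (α := F), ← hq, mul_comm (q - 1)]
    congr 1
    exact Nat.card_congr (Equiv.ofBijective
      (fun A : SLn => (⟨Matrix.SpecialLinearGroup.toGL A, Units.ext A.2⟩ : d.ker))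
      ⟨fun A B h => Matrix.SpecialLinearGroup.toGL_injective (congrArg Subtype.val h),
        fun g => ⟨⟨g.1.val, congrArg Units.val g.2⟩, Subtype.ext (Units.ext rfl)⟩⟩)
  have hGL := Flags.card_GL_type (F := F) (Fin n)
  rw [Fintype.card_fin, ← hq] at hGL
  have hU := Subgroup.card_mul_index (U n F)
  rw [card_U, ← hq] at hU
  rw [← hSL, ← hP, ← hU] at hGL
  have hpos : 0 < q ^ n.choose 2 := pow_pos Fintype.card_pos _
  have hidx : (U n F).index ∣ (q - 1) ^ n * Flags.qFact q n := by
    refine ⟨Nat.card (Subgroup.center SLn) * (q - 1), ?_⟩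
    apply Nat.eq_of_mul_eq_mul_left hpos
    rw [← mul_assoc (q ^ n.choose 2) ((q - 1) ^ n), ← hGL]
    ring
  intro h
  have hp : p.Prime := Fact.out
  have hpq : p ∣ q := hF ▸ dvd_pow_self p (by omega)
  rcases hp.dvd_mul.mp (h.trans hidx) with h1 | h1
  · have h2 := hp.dvd_of_dvd_pow h1
    have h3 := Nat.dvd_sub hpq h2
    rw [Nat.sub_sub_self (show 1 ≤ q from Fintype.card_pos)] at h3
    exact hp.one_lt.ne' (Nat.dvd_one.mp h3)
  · obtain ⟨j, -, hj⟩ := (Prime.dvd_finsetProd_iff (Nat.prime_iff.mp hp) _).mp h1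
    rw [Flags.qInt, Finset.sum_range_succ'] at hj
    simp only [pow_zero] at hj
    have h3 : p ∣ ∑ k ∈ Finset.range j, q ^ (k + 1) :=
      Finset.dvd_sum fun k _ => dvd_pow hpq (Nat.succ_ne_zero k)
    exact hp.one_lt.ne' (Nat.dvd_one.mp ((Nat.dvd_add_right h3).mp hj))

/-- The unitriangular subgroup as a Sylow subgroup. -/
noncomputable def sylU [NeZero n] {p f : ℕ} [Fact p.Prime] (hf : 1 ≤ f)
    (hF : Fintype.card F = p ^ f) : Sylow p Pn :=
  (isPGroup_U hF).toSylow (not_dvd_index hf hF)

theorem xx_mem_U [NeZero n] {i j : Fin n} (hij : i < j) (t : F) : xx i j t ∈ U n F := by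
  rw [xx_eq (ne_of_lt hij)]
  refine ⟨_, ⟨fun k => ?_, fun k l hlk => ?_⟩, rfl⟩ <;>
    rw [Matrix.SpecialLinearGroup.transvection_coe, Matrix.add_apply, Matrix.single_apply]
  · rw [Matrix.one_apply_eq, if_neg fun h => ne_of_lt hij (h.1.trans h.2.symm), add_zero]
  · rw [Matrix.one_apply_ne (ne_of_gt hlk), if_neg fun h => ?_, add_zero]
    rw [← h.1, ← h.2] at hlk
    exact lt_asymm hij hlk

/-- The centre of the unitriangular group is the root group of the highest root. -/
theorem central_U_iff (hn : 2 ≤ n) (x : Pn) :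
    (x ∈ U n F ∧ ∀ y ∈ U n F, Commute x y) ↔
      ∃ t : F, x = xx (⟨0, by omega⟩ : Fin n) ⟨n - 1, by omega⟩ t := by
  have : NeZero n := ⟨by omega⟩
  set i0 : Fin n := ⟨0, by omega⟩ with hi0
  set L : Fin n := ⟨n - 1, by omega⟩ with hL
  have hiL : i0 < L := by simp only [i0, L, Fin.lt_def]; omega
  constructor
  · rintro ⟨⟨A, hA, rfl⟩, hc⟩
    have key : ∀ k l : Fin n, k < l → Commute A.1 (Matrix.single k l (1 : F)) := by
      intro k l hkl
      have h1 := hc _ (xx_mem_U hkl 1)
      rw [xx_eq (ne_of_lt hkl), Commute, SemiconjBy, ← map_mul, ← map_mul, pr_eq_iff] at h1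
      obtain ⟨ε, -, h1⟩ := h1
      rw [Matrix.SpecialLinearGroup.coe_mul, Matrix.SpecialLinearGroup.coe_mul,
        Matrix.SpecialLinearGroup.transvection_coe] at h1
      have h2 := congrFun (congrFun h1 k) k
      have hd : ∀ M : Matrix (Fin n) (Fin n) F, (∀ i, M i i = 1) →
          (∀ i j, j < i → M i j = 0) → (M * Matrix.single k l (1 : F)) k k = 0 ∧
            (Matrix.single k l (1 : F) * M) k k = 0 := fun M h3 h4 => by
        constructor
        · simp [Matrix.mul_single_apply_of_ne _ _ _ _ _ (ne_of_lt hkl)]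
        · simp [h4 l k hkl]
      obtain ⟨d1, d2⟩ := hd A.1 hA.1 hA.2
      simp only [mul_add, add_mul, mul_one, one_mul, Matrix.add_apply, Matrix.smul_apply, d1, d2,
        hA.1, add_zero, smul_eq_mul] at h2
      rw [← h2, one_smul, mul_add, add_mul, mul_one, one_mul, add_right_inj] at h1
      exact h1
    refine ⟨A.1 i0 L, ?_⟩
    rw [xx_eq (ne_of_lt hiL)]
    congr 1
    apply Subtype.ext
    rw [Matrix.SpecialLinearGroup.transvection_coe]
    ext a b
    rw [Matrix.add_apply, Matrix.single_apply]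
    rcases eq_or_ne a b with rfl | hab
    · rw [hA.1, Matrix.one_apply_eq, if_neg fun h => ne_of_lt hiL (h.1.trans h.2.symm), add_zero]
    rw [Matrix.one_apply_ne hab, zero_add]
    by_cases hb : b = L
    · subst hb
      by_cases ha : a = i0
      · rw [ha, if_pos ⟨rfl, rfl⟩]
      · rw [if_neg fun h => ha h.1.symm]
        have h0a : i0 < a := lt_of_le_of_ne (Fin.le_def.mpr (Nat.zero_le _)) (Ne.symm ha)
        have := congrFun (congrFun (key i0 a h0a) i0) L
        rw [Matrix.mul_single_apply_of_ne _ _ _ _ _ (Ne.symm hab), Matrix.single_mul_apply_same,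
          one_mul] at this
        exact this.symm
    · rw [if_neg fun h => hb h.2.symm]
      have hbL : b < L := lt_of_le_of_ne (Fin.le_def.mpr (by simp only [L]; omega)) hb
      have := congrFun (congrFun (key b L hbL) a) L
      rw [Matrix.mul_single_apply_same, Matrix.single_mul_apply_of_ne _ _ _ _ _ hab, mul_one] at this
      exact this
  · rintro ⟨t, rfl⟩
    refine ⟨xx_mem_U hiL t, ?_⟩
    rintro _ ⟨B, hB, rfl⟩
    rw [xx_eq (ne_of_lt hiL)]
    change pr _ * pr B = pr B * pr _
    rw [← map_mul, ← map_mul]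
    congr 1
    apply Subtype.ext
    rw [Matrix.SpecialLinearGroup.coe_mul, Matrix.SpecialLinearGroup.coe_mul,
      Matrix.SpecialLinearGroup.transvection_coe, mul_add, add_mul, mul_one, one_mul]
    congr 1
    ext a b
    have hfirst : ∀ a, B.1 a i0 = if a = i0 then 1 else 0 := fun a => by
      split_ifs with h
      · rw [h]; exact hB.1 i0
      · exact hB.2 a i0 (lt_of_le_of_ne (Fin.le_def.mpr (Nat.zero_le _)) (Ne.symm h))
    have hlast : ∀ b, B.1 L b = if b = L then 1 else 0 := fun b => by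
      split_ifs with h
      · rw [h]; exact hB.1 L
      · exact hB.2 L b (lt_of_le_of_ne (Fin.le_def.mpr (by simp only [L]; omega)) h)
    rw [Matrix.mul_apply, Matrix.mul_apply, Finset.sum_eq_single L, Finset.sum_eq_single i0,
      hfirst, hlast, Matrix.single_apply, Matrix.single_apply]
    · simp only [eq_comm (a := a), eq_comm (a := b), and_true, true_and]
      split_ifs <;> simp
    · intro k _ hk
      rw [Matrix.single_apply, if_neg fun h => hk h.1.symm, mul_zero]
    · simp
    · intro k _ hk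
      rw [Matrix.single_apply, if_neg fun h => hk h.2.symm, zero_mul]
    · simp

theorem exists_conj_root (hn : 2 ≤ n) {i j : Fin n} (hij : i ≠ j) (t : F) :
    ∃ (g : Pn) (s : F), xx i j t =
      g * xx (⟨0, by omega⟩ : Fin n) ⟨n - 1, by omega⟩ s * g⁻¹ := by
  classical
  have : NeZero n := ⟨by omega⟩
  set i0 : Fin n := ⟨0, by omega⟩ with hi0
  set L : Fin n := ⟨n - 1, by omega⟩ with hL
  have hiL : i0 ≠ L := Fin.ne_of_val_ne (by simp only [i0, L]; omega)
  let π : Equiv.Perm (Fin n) := Equiv.swap L (Equiv.swap i0 i j) * Equiv.swap i0 i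
  have hπi : π i = i0 := by
    rw [Equiv.Perm.mul_apply, Equiv.swap_apply_right]
    exact Equiv.swap_apply_of_ne_of_ne hiL (fun h => hij ((Equiv.swap i0 i).injective (by
      rw [Equiv.swap_apply_right]; exact h)))
  have hπj : π j = L := by rw [Equiv.Perm.mul_apply, Equiv.swap_apply_right]
  let d : Fin n → F := Function.update 1 i0 ((Equiv.Perm.sign π : ℤ) : F)
  have hdet : (π.permMatrix F * Matrix.diagonal d).det = 1 := by
    rw [Matrix.det_mul, Matrix.det_permutation, Matrix.det_diagonal,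
      Finset.prod_update_of_mem (Finset.mem_univ _)]
    simp [← Int.cast_mul, Int.units_coe_mul_self]
  let A : SLn := ⟨_, hdet⟩
  have hd : ∀ k, d k ≠ 0 := fun k => by
    simp only [d, Function.update_apply]
    split_ifs
    · exact left_ne_zero_of_mul_eq_one (show ((Equiv.Perm.sign π : ℤ) : F) * _ = 1 by
        rw [← Int.cast_mul, Int.units_coe_mul_self, Int.cast_one])
    · exact one_ne_zero
  refine ⟨pr A, t * d L / d i0, ?_⟩
  have hs : (Pi.single L 1 : Fin n → F) ⬝ᵥ ((t * d L / d i0) • Pi.single i0 1) = 0 :=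
    xx_perp hiL _
  have hAi : A.1 *ᵥ (Pi.single i0 1 : Fin n → F) = d i0 • Pi.single i 1 := by
    funext k
    change ((π.permMatrix F * Matrix.diagonal d) *ᵥ _) k = _
    rw [← Matrix.mulVec_mulVec, Matrix.permMatrix_mulVec]
    rcases eq_or_ne k i with rfl | hk
    · simp [hπi]
    · have : π k ≠ i0 := fun h => hk (π.injective (h.trans hπi.symm))
      simp [this, hk]
  have hAL : (Pi.single j 1 : Fin n → F) ᵥ* A.1 = d L • Pi.single L 1 := by
    apply dotProduct_eq
    intro x
    rw [← Matrix.dotProduct_mulVec]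
    change _ ⬝ᵥ ((π.permMatrix F * Matrix.diagonal d) *ᵥ x) = _
    rw [← Matrix.mulVec_mulVec, Matrix.permMatrix_mulVec]
    simp [Matrix.mulVec_diagonal, hπj]
  rw [← MulAut.conj_apply, ← conjP_toGL, xx, xx, conjP_TT hs,
    show (Matrix.SpecialLinearGroup.toGL A).val = A.1 from rfl, Matrix.mulVec_smul, hAi]
  have hinv : (Pi.single L 1 : Fin n → F) ᵥ*
      (Matrix.SpecialLinearGroup.toGL A)⁻¹.val = (d L)⁻¹ • Pi.single j 1 := by
    have h1 := congrArg (· ᵥ* (Matrix.SpecialLinearGroup.toGL A)⁻¹.val) hAL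
    simp only [Matrix.vecMul_vecMul, Matrix.smul_vecMul] at h1
    rw [show A.1 = (Matrix.SpecialLinearGroup.toGL A).val from rfl, Units.mul_inv,
      Matrix.vecMul_one] at h1
    rw [h1, smul_smul, inv_mul_cancel₀ (hd L), one_smul]
  rw [hinv, smul_smul, div_mul_cancel₀ _ (hd i0), ← TT_smul _ _ _ (xx_perp hij _), smul_smul,
    mul_comm ((d L)⁻¹), mul_assoc, mul_inv_cancel₀ (hd L), mul_one]

/-- Automorphisms carry root elements to transvections. -/
theorem aut_isTr (hn : 2 ≤ n) (α : MulAut Pn) {i j : Fin n} (hij : i ≠ j) {t : F} (ht : t ≠ 0) :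
    IsTr (α (xx i j t)) := by
  classical
  have : NeZero n := ⟨by omega⟩
  have hP : Finite Pn := Finite.of_surjective _ pr_surjective
  obtain ⟨p, hp⟩ := CharP.exists F
  obtain ⟨f, hprime, hF⟩ := FiniteField.card F p
  have : Fact p.Prime := ⟨hprime⟩
  let S₀ : Sylow p Pn := sylU f.pos hF
  have hS₀ : (S₀ : Subgroup Pn) = U n F := IsPGroup.toSylow_coe _ _
  have hcard : Nat.card ((U n F).map α.toMonoidHom) = Nat.card (U n F) :=
    (Nat.card_congr ((U n F).equivMapOfInjective α.toMonoidHom α.injective).toEquiv).symm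
  have hindex : ((U n F).map α.toMonoidHom).index = (U n F).index :=
    Subgroup.index_map_equiv _ α
  let S₁ : Sylow p Pn := ((isPGroup_U hF).map α.toMonoidHom).toSylow
    (by rw [hindex]; exact not_dvd_index f.pos hF)
  obtain ⟨g, hg⟩ := MulAction.exists_smul_eq Pn S₁ S₀
  have hmap : ∀ y, y ∈ U n F ↔ g * α (α.symm (g⁻¹ * y * g)) * g⁻¹ ∈ U n F := fun y => by
    simp [mul_assoc]
  have hiff : ∀ z, z ∈ U n F ↔ g * α z * g⁻¹ ∈ U n F := by
    intro z
    have h1 : g * α z * g⁻¹ ∈ (S₀ : Subgroup Pn) ↔ α z ∈ (S₁ : Subgroup Pn) := by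
      rw [← hg, Sylow.coe_subgroup_smul]
      exact Subgroup.smul_mem_pointwise_smul_iff (a := MulAut.conj g)
    rw [hS₀] at h1
    rw [h1, show (S₁ : Subgroup Pn) = (U n F).map α.toMonoidHom from IsPGroup.toSylow_coe _ _]
    exact (Subgroup.mem_map_equiv.trans (by rw [α.symm_apply_apply])).symm
  obtain ⟨k, s, hk⟩ := exists_conj_root hn hij t
  set i0 : Fin n := ⟨0, by omega⟩ with hi0
  set L : Fin n := ⟨n - 1, by omega⟩ with hL
  have hiL : i0 ≠ L := Fin.ne_of_val_ne (by simp only [i0, L]; omega)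
  obtain ⟨hz, hzc⟩ := (central_U_iff hn _).mpr ⟨s, rfl⟩
  obtain ⟨u, hu⟩ := (central_U_iff hn (g * α (xx i0 L s) * g⁻¹)).mp ⟨(hiff _).mp hz, fun y hy => by
    obtain ⟨z, rfl⟩ : ∃ z, g * α z * g⁻¹ = y := ⟨α.symm (g⁻¹ * y * g), by simp [mul_assoc]⟩
    have := (hzc z ((hiff z).mpr hy)).map α
    exact this.map (MulAut.conj g)⟩
  have hα : α (xx i j t) = (α k * g⁻¹) * xx i0 L u * (α k * g⁻¹)⁻¹ := by
    rw [hk, map_mul, map_mul, map_inv, ← hu]
    group
  have hu0 : u ≠ 0 := fun h0 => ht (xx_inj hij (α.injective (by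
    rw [hα, h0, xx_zero, xx_zero, map_one]; group)))
  obtain ⟨B, hB⟩ := pr_surjective (α k * g⁻¹)
  rw [hα, ← hB, ← MulAut.conj_apply, ← conjP_toGL]
  refine conjP_isTr ⟨u • Pi.single i0 1, Pi.single L 1, smul_ne_zero hu0 (single_one_ne_zero _),
    single_one_ne_zero _, xx_perp hiL _, rfl⟩

end Cfsg.Agent.Small.PSLn
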