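import Mathlib
import Cfsg.Agent.Lib.Small.PSLn.Sylow

/-!
Every automorphism of `PSL_n(q)`, `n ≥ 3`, is a conjugation by an invertible matrix, a field
automorphism and possibly inverse-transpose; the components are unique.
-/

set_option autoImplicit false
set_option linter.unusedSectionVars false

namespace Cfsg.Agent.Small.PSLn

open Matrix Cfsg.Agent.Small.Generation
open scoped commutatorElement

variable {n : ℕ} {F : Type*} [Field F]

local notation "SLn" => Matrix.SpecialLinearGroup (Fin n) F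
local notation "Pn" => Matrix.ProjectiveSpecialLinearGroup (Fin n) F

theorem ne_third (hn : 3 ≤ n) (a b : Fin n) : ∃ c, c ≠ a ∧ c ≠ b := by
  obtain ⟨c, -, hc⟩ := Finset.exists_mem_notMem_of_card_lt_card
    (s := ({a, b} : Finset (Fin n))) (t := Finset.univ)
    (lt_of_le_of_lt Finset.card_le_two (by rw [Finset.card_univ, Fintype.card_fin]; omega))
  exact ⟨c, fun h => hc (by simp [h]), fun h => hc (by simp [h])⟩

/-- In a family where any two members share one of two equivalence-like features, all share one. -/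
theorem clique {ι : Type*} (C A : ι → ι → Prop) (_hCs : ∀ x y, C x y → C y x)
    (hAs : ∀ x y, A x y → A y x) (hCt : ∀ x y z, C x y → C y z → C x z)
    (hAt : ∀ x y z, A x y → A y z → A x z) (h : ∀ x y, C x y ∨ A x y) :
    (∀ x y, C x y) ∨ (∀ x y, A x y) := by
  by_cases hall : ∀ x y, C x y
  · exact Or.inl hall
  right
  push Not at hall
  obtain ⟨x₀, y₀, hne⟩ := hall
  have h0 : A x₀ y₀ := (h x₀ y₀).resolve_left hne
  have key : ∀ z, A x₀ z := by
    intro z
    rcases h x₀ z with h1 | h1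
    · rcases h z y₀ with h2 | h2
      · exact absurd (hCt _ _ _ h1 h2) hne
      · exact hAt _ _ _ h0 (hAs _ _ h2)
    · exact h1
  exact fun x y => hAt _ _ _ (hAs _ _ (key x)) (key y)

/-- A root element index. -/
abbrev Root (n : ℕ) (F : Type*) [Field F] : Type _ :=
  {x : Fin n × Fin n × F // x.1 ≠ x.2.1 ∧ x.2.2 ≠ 0}

theorem exists_centre_axis [Fintype F] (hn : 3 ≤ n) (α : MulAut Pn) :
    ∃ (c d : Fin n → Fin n → F) (β : MulAut Pn), (β = 1 ∨ β = itP) ∧
      ∀ i j : Fin n, i ≠ j → ∀ t : F, t ≠ 0 → ∃ s : F, s ≠ 0 ∧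
        d j ⬝ᵥ c i = 0 ∧ c i ≠ 0 ∧ d j ≠ 0 ∧ (α * β) (xx i j t) = TT (s • c i) (d j) := by
  classical
  have : NeZero n := ⟨by omega⟩
  -- representatives of the images
  have hrep : ∀ r : Root n F, ∃ a φ : Fin n → F, a ≠ 0 ∧ φ ≠ 0 ∧ φ ⬝ᵥ a = 0 ∧
      α (xx r.1.1 r.1.2.1 r.1.2.2) = TT a φ := fun r => aut_isTr (by omega) α r.2.1 r.2.2
  choose a φ ha hφ hperp himg using hrep
  -- criterion for a common feature
  have hcol : ∀ r s : Root n F,
      Commute (xx r.1.1 r.1.2.1 r.1.2.2 : Pn) (xx s.1.1 s.1.2.1 s.1.2.2) →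
      (IsTr (α (xx r.1.1 r.1.2.1 r.1.2.2 * xx s.1.1 s.1.2.1 s.1.2.2)) ∨
        α (xx r.1.1 r.1.2.1 r.1.2.2 * xx s.1.1 s.1.2.1 s.1.2.2) = 1) →
      (∃ k : F, a s = k • a r) ∨ (∃ k : F, φ s = k • φ r) := by
    intro r s hc hp
    have hc' : Commute (TT (a r) (φ r)) (TT (a s) (φ s)) := by
      rw [← himg, ← himg]; exact hc.map α
    obtain ⟨h1, h2⟩ := (commute_iff hn (ha r) (hφ r) (ha s) (hφ s) (hperp r) (hperp s)).mp hc'
    rw [map_mul, himg, himg] at hp
    exact parallel_of_mul (ha r) (hφ r) (hperp r) (hperp s) h1 h2 hp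
  have hsymm : ∀ (v : Root n F → Fin n → F), (∀ r, v r ≠ 0) → ∀ r s,
      (∃ k : F, v s = k • v r) → ∃ k : F, v r = k • v s := fun v hv r s ⟨k, hk⟩ =>
    have hk0 : k ≠ 0 := fun h => hv s (by rw [hk, h, zero_smul])
    ⟨k⁻¹, by rw [hk, smul_smul, inv_mul_cancel₀ hk0, one_smul]⟩
  have htrans : ∀ (v : Root n F → Fin n → F) r s u,
      (∃ k : F, v s = k • v r) → (∃ k : F, v u = k • v s) → ∃ k : F, v u = k • v r :=
    fun v r s u ⟨k, hk⟩ ⟨l, hl⟩ => ⟨l * k, by rw [hl, hk, smul_smul]⟩
  -- rows and columns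
  let Row : Fin n → Root n F → Prop := fun i r => r.1.1 = i
  let Col : Fin n → Root n F → Prop := fun j r => r.1.2.1 = j
  let Cp : (Root n F → Prop) → Prop := fun P => ∀ r s, P r → P s → ∃ k : F, a s = k • a r
  let Ap : (Root n F → Prop) → Prop := fun P => ∀ r s, P r → P s → ∃ k : F, φ s = k • φ r
  have hclique : ∀ P : Root n F → Prop, (∀ r s, P r → P s → (∃ k : F, a s = k • a r) ∨
      (∃ k : F, φ s = k • φ r)) → Cp P ∨ Ap P := by
    intro P hP
    rcases clique (ι := {r // P r}) (fun r s => ∃ k : F, a s.1 = k • a r.1)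
      (fun r s => ∃ k : F, φ s.1 = k • φ r.1) (fun r s => hsymm a ha r.1 s.1)
      (fun r s => hsymm φ hφ r.1 s.1) (fun r s u => htrans a r.1 s.1 u.1)
      (fun r s u => htrans φ r.1 s.1 u.1) (fun r s => hP r.1 s.1 r.2 s.2) with h | h
    · exact Or.inl fun r s hr hs => h ⟨r, hr⟩ ⟨s, hs⟩
    · exact Or.inr fun r s hr hs => h ⟨r, hr⟩ ⟨s, hs⟩
  have hone : ∀ r : Root n F, α (xx r.1.1 r.1.2.1 r.1.2.2) = TT (a r) (φ r) := himg
  have hrow : ∀ i, Cp (Row i) ∨ Ap (Row i) := by
    intro i
    refine hclique _ ?_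
    rintro ⟨⟨i', j, t⟩, hij, ht⟩ ⟨⟨i'', l, u⟩, hil, hu⟩ (rfl : i' = i) (rfl : i'' = i')
    dsimp only at hij hil ht hu
    refine hcol _ _ ?_ ?_ <;> dsimp only
    · rw [xx, xx, commute_iff hn (smul_ne_zero ht (single_one_ne_zero _)) (single_one_ne_zero _)
        (smul_ne_zero hu (single_one_ne_zero _)) (single_one_ne_zero _) (xx_perp hij t) (xx_perp hil u)]
      exact ⟨xx_perp hij u, xx_perp hil t⟩
    · rcases eq_or_ne j l with rfl | hjl
      · rw [← xx_add hij]
        rcases eq_or_ne (t + u) 0 with h0 | h0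
        · right; rw [h0, xx_zero, map_one]
        · left; exact aut_isTr (by omega) α hij h0
      · left
        let A : SLn := Matrix.SpecialLinearGroup.transvection hjl (-(u / t))
        have h1 : xx i'' j t * xx i'' l u = MulAut.conj (pr A) (xx i'' j t) := by
          have e1 : (Matrix.SpecialLinearGroup.toGL A).val *ᵥ (Pi.single i'' 1 : Fin n → F) =
              Pi.single i'' 1 := by
            change A.1 *ᵥ _ = _
            rw [Matrix.SpecialLinearGroup.transvection_coe, Matrix.add_mulVec, Matrix.one_mulVec,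
              Matrix.single_mulVec]
            simp [Ne.symm hil]
          have e2 : (Pi.single j 1 : Fin n → F) ᵥ* (Matrix.SpecialLinearGroup.toGL A)⁻¹.val =
              Pi.single j 1 + (u / t) • Pi.single l 1 := by
            change _ ᵥ* (A⁻¹).1 = _
            rw [Matrix.SpecialLinearGroup.transvection_inv,
              Matrix.SpecialLinearGroup.transvection_coe, neg_neg, Matrix.vecMul_add,
              Matrix.vecMul_one]
            congr 1
            funext k
            simp [Matrix.single_apply, Pi.single_apply, eq_comm]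
          rw [← conjP_toGL, xx, xx, conjP_TT (xx_perp hij t), Matrix.mulVec_smul, e1, e2,
            ← mul_div_cancel₀ u ht, mul_smul, smul_comm t, TT_smul (u / t) _ _ (xx_perp hil t),
            TT_mul_centre (xx_perp hij t) (by rw [smul_dotProduct, xx_perp hil t, smul_zero])]
          congr 3
          field_simp
        rw [h1, MulAut.conj_apply, map_mul, map_mul, map_inv]
        obtain ⟨B, hB⟩ := pr_surjective (α (pr A))
        rw [← hB, ← MulAut.conj_apply, ← conjP_toGL]
        exact conjP_isTr (aut_isTr (by omega) α hij ht)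
  have hcolq : ∀ j, Cp (Col j) ∨ Ap (Col j) := by
    intro j
    refine hclique _ ?_
    rintro ⟨⟨i, j', t⟩, hij, ht⟩ ⟨⟨k, j'', u⟩, hkj, hu⟩ (rfl : j' = j) (rfl : j'' = j')
    dsimp only at hij hkj ht hu
    refine hcol _ _ ?_ ?_ <;> dsimp only
    · rw [xx, xx, commute_iff hn (smul_ne_zero ht (single_one_ne_zero _)) (single_one_ne_zero _)
        (smul_ne_zero hu (single_one_ne_zero _)) (single_one_ne_zero _) (xx_perp hij t) (xx_perp hkj u)]
      exact ⟨xx_perp hkj u, xx_perp hij t⟩
    · rcases eq_or_ne i k with rfl | hik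
      · rw [← xx_add hij]
        rcases eq_or_ne (t + u) 0 with h0 | h0
        · right; rw [h0, xx_zero, map_one]
        · left; exact aut_isTr (by omega) α hij h0
      · left
        let A : SLn := Matrix.SpecialLinearGroup.transvection (Ne.symm hik) (u / t)
        have h1 : xx i j'' t * xx k j'' u = MulAut.conj (pr A) (xx i j'' t) := by
          have e1 : (Matrix.SpecialLinearGroup.toGL A).val *ᵥ (Pi.single i 1 : Fin n → F) =
              Pi.single i 1 + (u / t) • Pi.single k 1 := by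
            change A.1 *ᵥ _ = _
            rw [Matrix.SpecialLinearGroup.transvection_coe, Matrix.add_mulVec, Matrix.one_mulVec,
              Matrix.single_mulVec]
            congr 1
            funext m
            simp [Pi.single_apply, Function.update_apply]
          have e2 : (Pi.single j'' 1 : Fin n → F) ᵥ* (Matrix.SpecialLinearGroup.toGL A)⁻¹.val =
              Pi.single j'' 1 := by
            change _ ᵥ* (A⁻¹).1 = _
            rw [Matrix.SpecialLinearGroup.transvection_inv,
              Matrix.SpecialLinearGroup.transvection_coe, Matrix.vecMul_add, Matrix.vecMul_one]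
            conv_rhs => rw [← add_zero (Pi.single j'' 1 : Fin n → F)]
            congr 1
            funext m
            simp [hkj]
          rw [← conjP_toGL, xx, xx, conjP_TT (xx_perp hij t), Matrix.mulVec_smul, e1, e2,
            TT_mul_axis (xx_perp hij t) (xx_perp hkj u), smul_add, smul_smul, mul_div_cancel₀ u ht]
        rw [h1, MulAut.conj_apply, map_mul, map_mul, map_inv]
        obtain ⟨B, hB⟩ := pr_surjective (α (pr A))
        rw [← hB, ← MulAut.conj_apply, ← conjP_toGL]
        exact conjP_isTr (aut_isTr (by omega) α hij ht)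
  -- a row and a column cannot have the same type
  have hexcl : ∀ i j, i ≠ j → ¬(Cp (Row i) ∧ Cp (Col j)) ∧ ¬(Ap (Row i) ∧ Ap (Col j)) := by
    intro i j hij
    obtain ⟨k, hki, hkj⟩ := ne_third hn i j
    let r1 : Root n F := ⟨(i, j, 1), hij, one_ne_zero⟩
    let r2 : Root n F := ⟨(i, k, 1), Ne.symm hki, one_ne_zero⟩
    let r3 : Root n F := ⟨(k, j, 1), hkj, one_ne_zero⟩
    have hnc : ¬ (φ r3 ⬝ᵥ a r2 = 0 ∧ φ r2 ⬝ᵥ a r3 = 0) := by
      intro hh
      have h1 : Commute (α (xx k j (1 : F))) (α (xx i k 1)) := by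
        rw [hone r3, hone r2]
        exact (commute_iff hn (ha r3) (hφ r3) (ha r2) (hφ r2) (hperp r3) (hperp r2)).mpr hh
      have h2 := h1.map α.symm
      rw [α.symm_apply_apply, α.symm_apply_apply, xx, xx, one_smul, one_smul,
        commute_iff hn (single_one_ne_zero _) (single_one_ne_zero _) (single_one_ne_zero _)
          (single_one_ne_zero _) (by simp [hkj]) (by simp [hki])] at h2
      simp at h2
    constructor
    · rintro ⟨hr, hc⟩
      obtain ⟨k1, hk1⟩ := htrans a r2 r1 r3 (hr r2 r1 rfl rfl) (hc r1 r3 rfl rfl)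
      obtain ⟨k2, hk2⟩ := hsymm a ha r2 r3 ⟨k1, hk1⟩
      refine hnc ⟨?_, ?_⟩
      · rw [hk2, dotProduct_smul, hperp, smul_zero]
      · rw [hk1, dotProduct_smul, hperp, smul_zero]
    · rintro ⟨hr, hc⟩
      obtain ⟨k1, hk1⟩ := htrans φ r2 r1 r3 (hr r2 r1 rfl rfl) (hc r1 r3 rfl rfl)
      obtain ⟨k2, hk2⟩ := hsymm φ hφ r2 r3 ⟨k1, hk1⟩
      refine hnc ⟨?_, ?_⟩
      · rw [hk1, smul_dotProduct, hperp, smul_zero]
      · rw [hk2, smul_dotProduct, hperp, smul_zero]
  have hCA : ∀ i j, i ≠ j → Cp (Row i) → Ap (Col j) := fun i j hij h =>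
    (hcolq j).resolve_left fun h' => (hexcl i j hij).1 ⟨h, h'⟩
  have hAC : ∀ i j, i ≠ j → Ap (Row i) → Cp (Col j) := fun i j hij h =>
    (hcolq j).resolve_right fun h' => (hexcl i j hij).2 ⟨h, h'⟩
  let i0 : Fin n := ⟨0, by omega⟩
  let i1 : Fin n := ⟨1, by omega⟩
  have hi01 : i0 ≠ i1 := Fin.ne_of_val_ne (by simp [i0, i1])
  let other : Fin n → Fin n := fun i => if i = i0 then i1 else i0
  have hother : ∀ i, other i ≠ i := fun i => by
    simp only [other]
    split_ifs with h
    · rw [h]; exact Ne.symm hi01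
    · exact Ne.symm h
  have hsplit : ∀ {x : Root n F}, α (xx x.1.1 x.1.2.1 x.1.2.2) = TT (a x) (φ x) := @fun x => hone x
  rcases hrow i0 with h0 | h0
  · -- all rows share centres
    have hR : ∀ i, Cp (Row i) := by
      intro i
      rcases hrow i with h | h
      · exact h
      exfalso
      obtain ⟨j, hj0, hji⟩ := ne_third hn i0 i
      exact (hexcl i0 j (Ne.symm hj0)).1 ⟨h0, hAC i j (Ne.symm hji) h⟩
    have hC : ∀ j, Ap (Col j) := fun j => hCA _ j (hother j) (hR _)
    refine ⟨fun i => a ⟨(i, other i, 1), Ne.symm (hother i), one_ne_zero⟩,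
      fun j => φ ⟨(other j, j, 1), hother j, one_ne_zero⟩, 1, Or.inl rfl, fun i j hij t ht => ?_⟩
    let r : Root n F := ⟨(i, j, t), hij, ht⟩
    let ri : Root n F := ⟨(i, other i, 1), Ne.symm (hother i), one_ne_zero⟩
    let rj : Root n F := ⟨(other j, j, 1), hother j, one_ne_zero⟩
    obtain ⟨k, hk⟩ := hR i ri r rfl rfl
    obtain ⟨l, hl⟩ := hC j rj r rfl rfl
    have hk0 : k ≠ 0 := fun h => ha r (by rw [hk, h, zero_smul])
    have hl0 : l ≠ 0 := fun h => hφ r (by rw [hl, h, zero_smul])
    have hp : φ rj ⬝ᵥ a ri = 0 := by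
      have := hperp r
      rw [hk, hl, dotProduct_smul, smul_dotProduct, smul_eq_mul, smul_eq_mul] at this
      simpa [hk0, hl0] using this
    refine ⟨k * l, mul_ne_zero hk0 hl0, hp, ha ri, hφ rj, ?_⟩
    rw [mul_one]
    change α (xx r.1.1 r.1.2.1 r.1.2.2) = _
    rw [hsplit, hk, hl, mul_comm k l, mul_smul, ← TT_smul]
    rw [dotProduct_smul, hp, smul_zero]
  · -- all rows share axes: compose with inverse-transpose
    have hR : ∀ i, Ap (Row i) := by
      intro i
      rcases hrow i with h | h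
      swap
      · exact h
      exfalso
      obtain ⟨j, hj0, hji⟩ := ne_third hn i0 i
      exact (hexcl i j (Ne.symm hji)).1 ⟨h, hAC i0 j (Ne.symm hj0) h0⟩
    have hC : ∀ j, Cp (Col j) := fun j => hAC _ j (hother j) (hR _)
    refine ⟨fun i => a ⟨(other i, i, 1), hother i, one_ne_zero⟩,
      fun j => φ ⟨(j, other j, 1), Ne.symm (hother j), one_ne_zero⟩, itP, Or.inr rfl,
      fun i j hij t ht => ?_⟩
    let r : Root n F := ⟨(j, i, -t), Ne.symm hij, neg_ne_zero.mpr ht⟩
    let ri : Root n F := ⟨(other i, i, 1), hother i, one_ne_zero⟩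
    let rj : Root n F := ⟨(j, other j, 1), Ne.symm (hother j), one_ne_zero⟩
    obtain ⟨k, hk⟩ := hC i ri r rfl rfl
    obtain ⟨l, hl⟩ := hR j rj r rfl rfl
    have hk0 : k ≠ 0 := fun h => ha r (by rw [hk, h, zero_smul])
    have hl0 : l ≠ 0 := fun h => hφ r (by rw [hl, h, zero_smul])
    have hp : φ rj ⬝ᵥ a ri = 0 := by
      have := hperp r
      rw [hk, hl, dotProduct_smul, smul_dotProduct, smul_eq_mul, smul_eq_mul] at this
      simpa [hk0, hl0] using this
    refine ⟨k * l, mul_ne_zero hk0 hl0, hp, ha ri, hφ rj, ?_⟩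
    rw [MulAut.mul_apply, itP_xx hij]
    change α (xx r.1.1 r.1.2.1 r.1.2.2) = _
    rw [hsplit, hk, hl, mul_comm k l, mul_smul, ← TT_smul]
    rw [dotProduct_smul, hp, smul_zero]

theorem of_centre_axis [Fintype F] (hn : 3 ≤ n) (α : MulAut Pn) (c d : Fin n → Fin n → F)
    (h : ∀ i j : Fin n, i ≠ j → ∀ t : F, t ≠ 0 → ∃ s : F, s ≠ 0 ∧
      d j ⬝ᵥ c i = 0 ∧ c i ≠ 0 ∧ d j ≠ 0 ∧ α (xx i j t) = TT (s • c i) (d j)) :
    ∃ (g : GL (Fin n) F) (σ : F ≃+* F), α = conjP g * fieldP σ := by
  classical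
  have : NeZero n := ⟨by omega⟩
  choose s hs hperp hc hd himg using h
  set μ : Fin n → F := fun i => d i ⬝ᵥ c i with hμdef
  have hμ : ∀ i, μ i ≠ 0 := by
    intro i hi
    obtain ⟨j, hji, -⟩ := ne_third hn i i
    obtain ⟨k, hki, hkj⟩ := ne_third hn i j
    have h1 := himg i j (Ne.symm hji) 1 one_ne_zero
    have h2 := himg k i hki 1 one_ne_zero
    have hcom : Commute (α (xx i j (1 : F))) (α (xx k i 1)) := by
      rw [h1, h2, commute_iff hn (smul_ne_zero (hs _ _ _ _ one_ne_zero) (hc i j (Ne.symm hji) 1 one_ne_zero))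
        (hd i j (Ne.symm hji) 1 one_ne_zero)
        (smul_ne_zero (hs _ _ _ _ one_ne_zero) (hc k i hki 1 one_ne_zero)) (hd k i hki 1 one_ne_zero)
        (by rw [dotProduct_smul, hperp i j (Ne.symm hji) 1 one_ne_zero, smul_zero])
        (by rw [dotProduct_smul, hperp k i hki 1 one_ne_zero, smul_zero])]
      constructor
      · rw [dotProduct_smul, hperp k j hkj 1 one_ne_zero, smul_zero]
      · rw [dotProduct_smul, show d i ⬝ᵥ c i = 0 from hi, smul_zero]
    have h3 := hcom.map α.symm
    rw [α.symm_apply_apply, α.symm_apply_apply, xx, xx, one_smul, one_smul,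
      commute_iff hn (single_one_ne_zero _) (single_one_ne_zero _) (single_one_ne_zero _)
        (single_one_ne_zero _) (by simp [hji]) (by simp [hki])] at h3
    simp at h3
  let C : Matrix (Fin n) (Fin n) F := Matrix.of fun m i => c i m
  let D : Matrix (Fin n) (Fin n) F := Matrix.of fun i m => (μ i)⁻¹ * d i m
  have hDC : D * C = 1 := by
    ext i j
    have h1 : (D * C) i j = (μ i)⁻¹ * (d i ⬝ᵥ c j) := by
      simp [D, C, Matrix.mul_apply, dotProduct, Finset.mul_sum, mul_assoc]
    rw [h1]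
    rcases eq_or_ne i j with rfl | hij
    · rw [Matrix.one_apply_eq]; exact inv_mul_cancel₀ (hμ i)
    · rw [Matrix.one_apply_ne hij, hperp j i (Ne.symm hij) 1 one_ne_zero, mul_zero]
  let g : GL (Fin n) F := ⟨C, D, mul_eq_one_comm.mp hDC, hDC⟩
  have hg : ∀ i j : Fin n, i ≠ j → ∀ t : F,
      conjP g (xx i j t) = TT ((t / μ j) • c i) (d j) := by
    intro i j hij t
    rw [xx, conjP_TT (xx_perp hij t), Matrix.mulVec_smul]
    have e1 : g.val *ᵥ (Pi.single i 1 : Fin n → F) = c i := by
      funext m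
      simp [g, C]
    have e2 : (Pi.single j 1 : Fin n → F) ᵥ* g⁻¹.val = (μ j)⁻¹ • d j := by
      funext m
      change ((Pi.single j 1 : Fin n → F) ᵥ* D) m = _
      simp [D]
    rw [e1, e2, ← TT_smul _ _ _ (by rw [dotProduct_smul, hperp i j hij 1 one_ne_zero, smul_zero]),
      smul_smul, div_eq_mul_inv, mul_comm]
  set α₁ : MulAut Pn := (conjP g)⁻¹ * α with hα₁
  let S : Fin n → Fin n → F → F := fun i j t =>
    if h : i ≠ j ∧ t ≠ 0 then s i j h.1 t h.2 * μ j else 0
  have hS : ∀ i j : Fin n, i ≠ j → ∀ t : F, α₁ (xx i j t) = xx i j (S i j t) := by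
    intro i j hij t
    rw [hα₁, MulAut.mul_apply]
    apply (conjP g).injective
    rw [MulAut.apply_inv_self, hg i j hij]
    by_cases ht : t = 0
    · simp [S, ht, xx_zero, TT_zero]
    · simp only [S, dif_pos (And.intro hij ht), himg i j hij t ht]
      rw [mul_div_cancel_right₀ _ (hμ j)]
  have hSadd : ∀ i j : Fin n, i ≠ j → ∀ x y, S i j (x + y) = S i j x + S i j y := by
    intro i j hij x y
    apply xx_inj hij
    rw [xx_add hij, ← hS i j hij, ← hS i j hij, ← hS i j hij, xx_add hij, map_mul]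
  have hScomm : ∀ i j k : Fin n, i ≠ j → j ≠ k → i ≠ k → ∀ x y,
      S i k (x * y) = S i j x * S j k y := by
    intro i j k hij hjk hik x y
    apply xx_inj hik
    rw [← xx_commutator hij hjk hik, ← hS i j hij, ← hS j k hjk, ← map_commutatorElement,
      xx_commutator hij hjk hik, hS i k hik]
  set q : Fin n → Fin n → F := fun i j => S i j 1 with hq
  have hq0 : ∀ i j, i ≠ j → q i j ≠ 0 := by
    intro i j hij h0
    simp only [q, S, dif_pos (And.intro hij (one_ne_zero (α := F))), mul_eq_zero] at h0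
    exact h0.elim (hs _ _ _ _ _) (hμ j)
  have hqc : ∀ i j k, i ≠ j → j ≠ k → i ≠ k → q i k = q i j * q j k := fun i j k h1 h2 h3 => by
    have := hScomm i j k h1 h2 h3 1 1
    rwa [one_mul] at this
  let o : Fin n := ⟨0, by omega⟩
  let w : Fin n → F := fun i => if i = o then 1 else q i o
  have hw : ∀ i, w i ≠ 0 := fun i => by
    simp only [w]
    split_ifs with h
    · exact one_ne_zero
    · exact hq0 i o h
  have hoinv : ∀ j, j ≠ o → q o j * q j o = 1 := by
    intro j hj
    obtain ⟨k, hk0, hkj⟩ := ne_third hn o j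
    have h1 := hqc k o j hk0 (Ne.symm hj) hkj
    have h2 := hqc k j o hkj hj hk0
    rw [h1] at h2
    apply mul_left_cancel₀ (hq0 k o hk0)
    rw [mul_one, ← mul_assoc, ← h2]
  have hratio : ∀ i j, i ≠ j → q i j = w i / w j := by
    intro i j hij
    rw [eq_div_iff (hw j)]
    simp only [w]
    by_cases hi : i = o
    · subst hi
      rw [if_pos rfl, if_neg (Ne.symm hij), hoinv j (Ne.symm hij)]
    by_cases hj : j = o
    · subst hj
      rw [if_pos rfl, if_neg hi, mul_one]
    · rw [if_neg hi, if_neg hj, ← hqc i j o hij hj hi]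
  let S' : Fin n → Fin n → F → F := fun i j x => w j / w i * S i j x
  have hS'1 : ∀ i j, i ≠ j → S' i j 1 = 1 := fun i j hij => by
    change w j / w i * q i j = 1
    rw [hratio i j hij]
    field_simp [hw i, hw j]
  have hS'c : ∀ i j k, i ≠ j → j ≠ k → i ≠ k → ∀ x y,
      S' i k (x * y) = S' i j x * S' j k y := fun i j k h1 h2 h3 x y => by
    simp only [S', hScomm i j k h1 h2 h3]
    field_simp [hw i, hw j, hw k]
  have hrowc : ∀ i j k, i ≠ j → i ≠ k → ∀ x, S' i j x = S' i k x := by
    intro i j k hij hik x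
    rcases eq_or_ne j k with rfl | hjk
    · rfl
    have := hS'c i j k hij hjk hik x 1
    rw [mul_one, hS'1 j k hjk, mul_one] at this
    exact this.symm
  have hcolc : ∀ i j k, i ≠ k → j ≠ k → ∀ x, S' i k x = S' j k x := by
    intro i j k hik hjk x
    rcases eq_or_ne i j with rfl | hij
    · rfl
    have := hS'c i j k hij hjk hik 1 x
    rwa [one_mul, hS'1 i j hij, one_mul] at this
  let o' : Fin n := ⟨1, by omega⟩
  have hoo : o ≠ o' := Fin.ne_of_val_ne (by simp [o, o'])
  set σf := S' o o' with hσf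
  have hall : ∀ i j, i ≠ j → ∀ x, S' i j x = σf x := by
    intro i j hij x
    obtain ⟨m, hmi, hmo⟩ := ne_third hn i o
    rw [hrowc i j m hij (Ne.symm hmi), hcolc i o m (Ne.symm hmi) (Ne.symm hmo),
      hrowc o m o' (Ne.symm hmo) hoo]
  have hmul : ∀ x y, σf (x * y) = σf x * σf y := by
    intro x y
    obtain ⟨m, hmo, hmo'⟩ := ne_third hn o o'
    rw [hσf, hS'c o m o' (Ne.symm hmo) hmo' hoo, hall _ _ (Ne.symm hmo), hall _ _ hmo']
  have hadd : ∀ x y, σf (x + y) = σf x + σf y := fun x y => by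
    simp only [hσf, S', hSadd o o' hoo, mul_add]
  have hinj : Function.Injective σf := by
    intro x y hxy
    have : S o o' x = S o o' y :=
      mul_left_cancel₀ (div_ne_zero (hw o') (hw o)) hxy
    apply xx_inj hoo
    apply α₁.injective
    rw [hS o o' hoo, hS o o' hoo, this]
  let σ : F ≃+* F :=
    { Equiv.ofBijective σf ((Finite.injective_iff_bijective).mp hinj) with
      map_mul' := hmul
      map_add' := hadd }
  let W : GL (Fin n) F := Matrix.GeneralLinearGroup.mkOfDetNeZero (Matrix.diagonal w)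
    (by rw [Matrix.det_diagonal]; exact Finset.prod_ne_zero_iff.mpr fun i _ => hw i)
  have hW : α₁ = conjP W * fieldP σ := by
    refine aut_ext (by omega) fun i j hij t => ?_
    rw [hS i j hij, MulAut.mul_apply, fieldP_xx σ hij]
    have hσt : σ t = w j / w i * S i j t := (hall i j hij t).symm
    rw [xx, xx, conjP_TT (xx_perp hij _), Matrix.mulVec_smul]
    have e1 : W.val *ᵥ (Pi.single i 1 : Fin n → F) = w i • Pi.single i 1 := by
      funext m
      change (Matrix.diagonal w *ᵥ _) m = _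
      rw [Matrix.mulVec_diagonal]
      rcases eq_or_ne m i with rfl | hm <;> simp [*]
    have e2 : (Pi.single j 1 : Fin n → F) ᵥ* W⁻¹.val = (w j)⁻¹ • Pi.single j 1 := by
      have h1 : (Pi.single j 1 : Fin n → F) ᵥ* W.val = w j • Pi.single j 1 := by
        funext m
        change ((Pi.single j 1 : Fin n → F) ᵥ* Matrix.diagonal w) m = _
        rw [Matrix.vecMul_diagonal]
        rcases eq_or_ne m j with rfl | hm <;> simp [*]
      have h2 := congrArg (· ᵥ* W⁻¹.val) h1
      simp only [Matrix.vecMul_vecMul, Units.mul_inv, Matrix.vecMul_one, Matrix.smul_vecMul] at h2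
      conv_rhs => rw [h2, smul_smul, inv_mul_cancel₀ (hw j), one_smul]
    rw [e1, e2, smul_smul, ← TT_smul _ _ _ (xx_perp hij _), smul_smul, hσt]
    congr 2
    field_simp [hw i, hw j]
  refine ⟨g * W, σ, ?_⟩
  rw [map_mul, mul_assoc, ← hW, hα₁, mul_inv_cancel_left]

/-- Every automorphism of `PSL_n(q)`, `n ≥ 3`. -/
theorem aut_decomp [Fintype F] (hn : 3 ≤ n) (α : MulAut Pn) :
    ∃ (g : GL (Fin n) F) (σ : F ≃+* F) (γ : MulAut Pn), (γ = 1 ∨ γ = itP) ∧
      α = conjP g * fieldP σ * γ := by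
  obtain ⟨c, d, β, hβ, h⟩ := exists_centre_axis hn α
  obtain ⟨g, σ, hgσ⟩ := of_centre_axis hn (α * β) c d h
  refine ⟨g, σ, β, hβ, ?_⟩
  have hββ : β * β = 1 := by
    rcases hβ with rfl | rfl
    · rw [one_mul]
    · exact itP_sq
  rw [← hgσ, mul_assoc, hββ, mul_one]

theorem field_unique (hn : 2 ≤ n) {h : GL (Fin n) F} {τ : F ≃+* F}
    (e : conjP h * fieldP τ = 1) : τ = 1 ∧ conjP h = 1 := by
  have : NeZero n := ⟨by omega⟩
  have key : ∀ (i j : Fin n) (hij : i ≠ j) (t : F),
      h.val * Matrix.single i j (τ t) * h⁻¹.val = Matrix.single i j t := by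
    intro i j hij t
    have h1 := DFunLike.congr_fun e (xx i j t)
    rw [MulAut.mul_apply, MulAut.one_apply, fieldP_xx τ hij, xx_eq hij, xx_eq hij, conjP_apply,
      pr_eq_iff] at h1
    obtain ⟨ε, -, h1⟩ := h1
    rw [conjSL_val, Matrix.SpecialLinearGroup.transvection_coe,
      Matrix.SpecialLinearGroup.transvection_coe, mul_add, mul_one, add_mul, Units.mul_inv] at h1
    have hε := unipotent_smul_eq (by
        simp only [mul_assoc, Units.inv_mul_cancel_left]
        rw [← mul_assoc (Matrix.single i j (τ t)), show Matrix.single i j (τ t) *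
          Matrix.single i j (τ t) = 0 by simp [Ne.symm hij], zero_mul, mul_zero])
      (by simp [Ne.symm hij]) h1
    rwa [hε, one_smul, add_right_inj] at h1
  obtain ⟨cc, hcc⟩ : h.val ∈ Set.range (Matrix.scalar (Fin n)) := by
    rw [Matrix.mem_range_scalar_iff_commute_single]
    intro i j hij
    have h1 := congrArg (· * h.val) (key i j hij 1)
    simp only [map_one, mul_assoc, Units.inv_mul, mul_one] at h1
    exact h1.symm
  rw [scalar_eq_smul] at hcc
  have hP := conjP_of_scalar hcc.symm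
  refine ⟨?_, hP⟩
  ext t
  have hij : (⟨0, by omega⟩ : Fin n) ≠ ⟨1, by omega⟩ := Fin.ne_of_val_ne (by simp)
  have h1 := DFunLike.congr_fun e (xx (⟨0, by omega⟩ : Fin n) ⟨1, by omega⟩ t)
  rw [hP, one_mul, MulAut.one_apply, fieldP_xx τ hij] at h1
  exact xx_inj hij h1

theorem not_graph (hn : 3 ≤ n) (h : GL (Fin n) F) (τ : F ≃+* F) :
    conjP h * fieldP τ * itP ≠ 1 := by
  have : NeZero n := ⟨by omega⟩
  intro e
  have key : ∀ (i j : Fin n) (hij : i ≠ j),
      h.val * Matrix.single j i (1 : F) * h⁻¹.val = -Matrix.single i j 1 := by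
    intro i j hij
    have h1 := DFunLike.congr_fun e (xx i j (1 : F))
    rw [MulAut.mul_apply, MulAut.mul_apply, MulAut.one_apply, itP_xx hij, fieldP_xx τ (Ne.symm hij),
      map_neg, map_one, xx_eq (Ne.symm hij), xx_eq hij, conjP_apply, pr_eq_iff] at h1
    obtain ⟨ε, -, h1⟩ := h1
    rw [conjSL_val, Matrix.SpecialLinearGroup.transvection_coe,
      Matrix.SpecialLinearGroup.transvection_coe, mul_add, mul_one, add_mul, Units.mul_inv] at h1
    have hε := unipotent_smul_eq (by
        simp only [mul_assoc, Units.inv_mul_cancel_left]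
        rw [← mul_assoc (Matrix.single j i (-1 : F)), show Matrix.single j i (-1 : F) *
          Matrix.single j i (-1 : F) = 0 by simp [hij], zero_mul, mul_zero])
      (by simp [Ne.symm hij]) h1
    rw [hε, one_smul, add_right_inj, ← Matrix.single_neg, mul_neg, neg_mul] at h1
    rw [← h1, neg_neg]
  let i : Fin n := ⟨0, by omega⟩
  obtain ⟨j, hji, -⟩ := ne_third hn i i
  obtain ⟨k, hki, hkj⟩ := ne_third hn i j
  have hprod : h.val * Matrix.single j i (1 : F) * h⁻¹.val *
      (h.val * Matrix.single i k 1 * h⁻¹.val) = h.val * Matrix.single j k 1 * h⁻¹.val := by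
    simp only [mul_assoc, Units.inv_mul_cancel_left]
    rw [← mul_assoc (Matrix.single j i (1 : F)), Matrix.single_mul_single_same, mul_one]
  rw [key i j (Ne.symm hji), key k i hki, key k j hkj] at hprod
  have := congrFun (congrFun hprod k) j
  simp [Ne.symm hkj] at this

end Cfsg.Agent.Small.PSLn
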