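import Mathlib
import Cfsg.Agent.Lib.Small.PSLn.Aut
import Cfsg.Agent.Lib.Small.PSL2

/-!
The automorphism group of `PSL_n(q)` and its outer part.
-/

set_option autoImplicit false
set_option linter.unusedSectionVars false

namespace Cfsg.Agent.Small.PSLn

open Matrix

variable {n : ℕ} {F : Type*} [Field F]

local notation "SLn" => Matrix.SpecialLinearGroup (Fin n) F
local notation "Pn" => Matrix.ProjectiveSpecialLinearGroup (Fin n) F

theorem two_cases (ε : Multiplicative (ZMod 2)) : ε = 1 ∨ ε = Multiplicative.ofAdd 1 := by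
  revert ε
  decide

/-- The graph component: `1` or inverse-transpose. -/
noncomputable def gam : Multiplicative (ZMod 2) →* MulAut Pn where
  toFun ε := if ε = 1 then 1 else itP
  map_one' := if_pos rfl
  map_mul' a b := by
    have h11 : (Multiplicative.ofAdd (1 : ZMod 2)) * Multiplicative.ofAdd 1 = 1 := by decide
    have h1 : (Multiplicative.ofAdd (1 : ZMod 2)) ≠ 1 := by decide
    rcases two_cases a with rfl | rfl <;> rcases two_cases b with rfl | rfl <;>
      simp [h11, h1, itP_sq]

theorem gam_one_eq : (gam (Multiplicative.ofAdd (1 : ZMod 2)) : MulAut Pn) = itP := by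
  change (if (Multiplicative.ofAdd (1 : ZMod 2)) = 1 then (1 : MulAut Pn) else itP) = itP
  exact if_neg (by decide)

theorem gam_cases (ε : Multiplicative (ZMod 2)) :
    (gam ε : MulAut Pn) = 1 ∨ (gam ε : MulAut Pn) = itP := by
  rcases two_cases ε with rfl | rfl
  · exact Or.inl (map_one _)
  · exact Or.inr gam_one_eq

/-- Every automorphism decomposes, `n ≥ 2`. -/
theorem aut_decomp_all [Fintype F] (hn : 2 ≤ n) (α : MulAut Pn) :
    ∃ (g : GL (Fin n) F) (σ : F ≃+* F) (ε : Multiplicative (ZMod 2)),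
      (n = 2 → ε = 1) ∧ α = conjP g * fieldP σ * gam ε := by
  rcases eq_or_lt_of_le hn with h | h
  · subst h
    obtain ⟨p, hp⟩ := CharP.exists F
    obtain ⟨f, hprime, hF⟩ := FiniteField.card F p
    have : Fact p.Prime := ⟨hprime⟩
    obtain ⟨g, σ, hgσ⟩ := PSL2.aut_eq hF α
    refine ⟨g, σ, 1, fun _ => rfl, ?_⟩
    rw [hgσ, map_one, mul_one]
    ext x
    obtain ⟨A, rfl⟩ := pr_surjective x
    rfl
  · obtain ⟨g, σ, γ, hγ, hα⟩ := aut_decomp h α
    rcases hγ with rfl | rfl
    · exact ⟨g, σ, 1, fun _ => rfl, by rw [hα, map_one]⟩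
    · exact ⟨g, σ, Multiplicative.ofAdd 1, fun h2 => by omega, by rw [hα, gam_one_eq]⟩

theorem gam_fieldP (ε : Multiplicative (ZMod 2)) (σ : F ≃+* F) :
    (gam ε : MulAut Pn) * fieldP σ = fieldP σ * gam ε := by
  rcases gam_cases (n := n) (F := F) ε with h | h <;> rw [h]
  · rw [one_mul, mul_one]
  · exact itP_fieldP σ

/-- Twisting a matrix by the graph component. -/
noncomputable def glGam (ε : Multiplicative (ZMod 2)) : GL (Fin n) F →* GL (Fin n) F :=
  if ε = 1 then MonoidHom.id _ else glIt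

theorem gam_conjP (ε : Multiplicative (ZMod 2)) (g : GL (Fin n) F) :
    (gam ε : MulAut Pn) * conjP g = conjP (glGam ε g) * gam ε := by
  rcases two_cases ε with rfl | rfl
  · simp [glGam]
  · rw [gam_one_eq, glGam, if_neg (by decide)]
    exact itP_conjP g

/-- The product of two decomposed automorphisms. -/
theorem decomp_mul (g g' : GL (Fin n) F) (σ σ' : F ≃+* F) (ε ε' : Multiplicative (ZMod 2)) :
    (conjP g * fieldP σ * gam ε) * (conjP g' * fieldP σ' * gam ε') =
      (conjP (g * glField σ (glGam ε g')) * fieldP (σ * σ') * gam (ε * ε') : MulAut Pn) := by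
  calc (conjP g * fieldP σ * gam ε) * (conjP g' * fieldP σ' * gam ε')
      = conjP g * fieldP σ * (gam ε * conjP g') * fieldP σ' * gam ε' := by simp only [mul_assoc]
    _ = conjP g * (fieldP σ * conjP (glGam ε g')) * (gam ε * fieldP σ') * gam ε' := by
      rw [gam_conjP]; simp only [mul_assoc]
    _ = _ := by
      rw [fieldP_conjP, gam_fieldP, map_mul conjP, map_mul fieldP, map_mul gam]
      simp only [mul_assoc]

theorem decomp_unique (hn : 2 ≤ n) {g g' : GL (Fin n) F} {σ σ' : F ≃+* F}
    {ε ε' : Multiplicative (ZMod 2)} (hε : n = 2 → ε = ε')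
    (h : (conjP g * fieldP σ * gam ε : MulAut Pn) = conjP g' * fieldP σ' * gam ε') :
    conjP g = conjP g' ∧ σ = σ' ∧ ε = ε' := by
  have main : ∀ δ : MulAut Pn, conjP g * fieldP σ = conjP g' * fieldP σ' * δ →
      conjP (glField σ'⁻¹ (g'⁻¹ * g)) * fieldP (σ'⁻¹ * σ) = δ := by
    intro δ hδ
    rw [map_mul fieldP, ← mul_assoc, ← fieldP_conjP, mul_assoc, map_mul conjP, map_inv, map_inv,
      mul_assoc, hδ]
    group
  by_cases hee : ε = ε'
  · subst hee
    refine ⟨?_, ?_, rfl⟩ <;>
      obtain ⟨h1, h2⟩ := field_unique hn (main 1 (by rw [mul_one]; exact mul_right_cancel h))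
    · have h3 : σ = σ' := (inv_mul_eq_one.mp h1).symm
      have h4 := mul_right_cancel h
      rw [h3] at h4
      exact mul_right_cancel h4
    · exact (inv_mul_eq_one.mp h1).symm
  · exfalso
    have hn3 : 3 ≤ n := by
      rcases eq_or_lt_of_le hn with h2 | h2
      · exact absurd (hε h2.symm) hee
      · exact h2
    have hi : ε' * ε⁻¹ = Multiplicative.ofAdd 1 := by
      rcases two_cases (ε' * ε⁻¹) with h2 | h2
      · exact absurd (mul_inv_eq_one.mp h2).symm hee
      · exact h2
    have h1 := main itP (by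
      have h2 := congrArg (· * (gam ε : MulAut Pn)⁻¹) h
      simp only [mul_inv_cancel_right] at h2
      rw [h2, mul_assoc, ← map_inv, ← map_mul, hi, gam_one_eq])
    exact not_graph hn3 (glField σ'⁻¹ (g'⁻¹ * g)) (σ'⁻¹ * σ) (by rw [h1, itP_sq])

/-- The field and graph components of an automorphism, `n ≥ 3`. -/
theorem exists_theta [Fintype F] (hn : 3 ≤ n) :
    ∃ Θ : MulAut Pn →* (F ≃+* F) × Multiplicative (ZMod 2),
      (∀ g σ ε, Θ (conjP g * fieldP σ * gam ε) = (σ, ε)) ∧
      Θ.ker = (conjP (n := n) (F := F)).range := by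
  choose gOf σOf εOf hε hOf using fun α : MulAut Pn => aut_decomp_all (F := F) (by omega) α
  have huniq : ∀ α g σ ε, α = conjP g * fieldP σ * gam ε → σOf α = σ ∧ εOf α = ε := by
    intro α g σ ε h
    obtain ⟨-, h1, h2⟩ := decomp_unique (by omega) (fun h2 => by omega) ((hOf α).symm.trans h)
    exact ⟨h1, h2⟩
  let Θ : MulAut Pn →* (F ≃+* F) × Multiplicative (ZMod 2) :=
    MonoidHom.mk' (fun α => (σOf α, εOf α)) (fun α β => by
      obtain ⟨h1, h2⟩ := huniq (α * β) _ _ _
        (by conv_lhs => rw [hOf α, hOf β, decomp_mul])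
      exact Prod.ext h1 h2)
  have hΘ : ∀ g σ ε, Θ (conjP g * fieldP σ * gam ε) = (σ, ε) := fun g σ ε =>
    Prod.ext (huniq _ g σ ε rfl).1 (huniq _ g σ ε rfl).2
  refine ⟨Θ, hΘ, le_antisymm ?_ ?_⟩
  · intro α hα
    have h1 : σOf α = 1 := congrArg Prod.fst hα
    have h2 : εOf α = 1 := congrArg Prod.snd hα
    exact ⟨gOf α, ((hOf α).trans (by rw [h1, h2, map_one, map_one, mul_one, mul_one])).symm⟩
  · rintro _ ⟨g, rfl⟩
    have := hΘ g 1 1
    rwa [map_one, map_one, mul_one, mul_one] at this

/-- The field component of an automorphism, `n = 2`. -/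
theorem exists_theta_two [Fintype F] (hn : n = 2) :
    ∃ Θ : MulAut Pn →* (F ≃+* F),
      (∀ g σ, Θ (conjP g * fieldP σ) = σ) ∧ Θ.ker = (conjP (n := n) (F := F)).range := by
  choose gOf σOf εOf hε hOf using fun α : MulAut Pn => aut_decomp_all (F := F) (by omega) α
  have hOf' : ∀ α : MulAut Pn, α = conjP (gOf α) * fieldP (σOf α) := fun α => by
    conv_lhs => rw [hOf α, hε α hn, map_one, mul_one]
  have huniq : ∀ α g σ, α = conjP g * fieldP σ → σOf α = σ := fun α g σ h =>
    (decomp_unique (n := n) (F := F) (g := gOf α) (σ := σOf α) (g' := g) (σ' := σ) (ε := 1)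
      (ε' := 1) (by omega) (fun _ => rfl) (by
      rw [map_one, mul_one, mul_one]; exact (hOf' α).symm.trans h)).2.1
  let Θ : MulAut Pn →* (F ≃+* F) := MonoidHom.mk' σOf (fun α β => by
    refine huniq (α * β) (gOf α * glField (σOf α) (gOf β)) _ ?_
    conv_lhs => rw [hOf' α, hOf' β]
    rw [map_mul, map_mul, mul_assoc, ← mul_assoc (fieldP (σOf α)), fieldP_conjP]
    simp only [mul_assoc])
  refine ⟨Θ, fun g σ => huniq _ g σ rfl, le_antisymm ?_ ?_⟩
  · intro α hα
    exact ⟨gOf α, ((hOf' α).trans (by rw [show σOf α = 1 from hα, map_one, mul_one])).symm⟩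
  · rintro _ ⟨g, rfl⟩
    exact huniq _ g 1 (by rw [map_one, mul_one])

/-- The field automorphisms of a field with `p^f` elements form a cyclic group of order `f`. -/
theorem fieldAut_equiv [Fintype F] {p f : ℕ} [Fact p.Prime] (hF : Fintype.card F = p ^ f) :
    Nonempty ((F ≃+* F) ≃* Multiplicative (ZMod f)) := by
  classical
  have : CharP F p := charP_of_card_eq_prime_pow hF
  let := ZMod.algebra F p
  let toGal : (F ≃+* F) ≃* Gal(F/ZMod p) :=
    { toFun := fun σ => AlgEquiv.ofRingEquiv (f := σ) (fun x => by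
        exact DFunLike.congr_fun (RingHom.ext_zmod ((σ : F →+* F).comp (algebraMap (ZMod p) F))
          (algebraMap (ZMod p) F)) x)
      invFun := fun e => e.toRingEquiv
      left_inv := fun σ => by ext; rfl
      right_inv := fun e => by ext; rfl
      map_mul' := fun σ τ => by ext; rfl }
  have hfin : Module.finrank (ZMod p) F = f := by
    have h1 := Module.card_eq_pow_finrank (K := ZMod p) (V := F)
    rw [hF, ZMod.card] at h1
    exact (Nat.pow_right_injective (Fact.out : p.Prime).two_le h1).symm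
  have hcard : Nat.card Gal(F/ZMod p) = Nat.card (Multiplicative (ZMod f)) := by
    rw [IsGalois.card_aut_eq_finrank, hfin, Nat.card_congr Multiplicative.toAdd, Nat.card_zmod]
  have : IsCyclic (Multiplicative (ZMod f)) := isCyclic_multiplicative
  exact ⟨toGal.trans (mulEquivOfCyclicCardEq hcard)⟩

theorem conjP_ker (hn : 2 ≤ n) :
    (conjP (n := n) (F := F)).ker = Subgroup.center (GL (Fin n) F) := by
  have : NeZero n := ⟨by omega⟩
  ext g
  rw [MonoidHom.mem_ker, Matrix.GeneralLinearGroup.mem_center_iff_val_mem_range_scalar]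
  constructor
  · intro h
    obtain ⟨c, hc⟩ := scalar_of_conjP_eq_one h
    exact ⟨c, by rw [hc, scalar_eq_smul]⟩
  · rintro ⟨c, hc⟩
    exact conjP_of_scalar (c := c) (by rw [← hc, scalar_eq_smul])

theorem card_conjP_range (hn : 2 ≤ n) :
    Nat.card (conjP (n := n) (F := F)).range = Nat.card (Matrix.ProjGenLinGroup (Fin n) F) := by
  rw [← Nat.card_congr (QuotientGroup.quotientKerEquivRange (conjP (n := n) (F := F))).toEquiv,
    conjP_ker hn]
  rfl

/-- `diag(t, 1, …, 1)`. -/
def dGL [NeZero n] : Fˣ →* GL (Fin n) F where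
  toFun t := ⟨Matrix.diagonal (Function.update 1 0 (t : F)),
    Matrix.diagonal (Function.update 1 0 ((t⁻¹ : Fˣ) : F)), by
      rw [Matrix.diagonal_mul_diagonal, ← Matrix.diagonal_one]
      congr 1
      funext i
      rcases eq_or_ne i 0 with rfl | hi <;> simp [*], by
      rw [Matrix.diagonal_mul_diagonal, ← Matrix.diagonal_one]
      congr 1
      funext i
      rcases eq_or_ne i 0 with rfl | hi <;> simp [*]⟩
  map_one' := by
    apply Units.ext
    change Matrix.diagonal _ = (1 : Matrix (Fin n) (Fin n) F)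
    rw [← Matrix.diagonal_one]
    congr 1
    funext i
    rcases eq_or_ne i 0 with rfl | hi <;> simp [*]
  map_mul' s t := by
    apply Units.ext
    change Matrix.diagonal _ = Matrix.diagonal _ * Matrix.diagonal _
    rw [Matrix.diagonal_mul_diagonal]
    congr 1
    funext i
    rcases eq_or_ne i 0 with rfl | hi <;> simp [*]

theorem det_dGL [NeZero n] (t : Fˣ) :
    Matrix.GeneralLinearGroup.det (dGL (n := n) t) = t := by
  apply Units.ext
  rw [Matrix.GeneralLinearGroup.val_det_apply]
  change (Matrix.diagonal _).det = _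
  rw [Matrix.det_diagonal, Finset.prod_update_of_mem (Finset.mem_univ _)]
  simp

/-- The scalar matrices inside `GL_n`. -/
def scalarGL : Fˣ →* GL (Fin n) F :=
  Units.map (Matrix.scalar (Fin n)).toMonoidHom

theorem det_scalarGL (c : Fˣ) : Matrix.GeneralLinearGroup.det (scalarGL (n := n) c) = c ^ n := by
  apply Units.ext
  rw [Matrix.GeneralLinearGroup.val_det_apply, Units.val_pow_eq_pow_val]
  change (Matrix.scalar (Fin n) (c : F)).det = _
  simp

theorem conjP_scalarGL (c : Fˣ) : conjP (scalarGL (n := n) c) = 1 :=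
  conjP_of_scalar (c := (c : F)) (scalar_eq_smul (c : F))

theorem exists_sl_of_det {g : GL (Fin n) F} (h : Matrix.GeneralLinearGroup.det g = 1) :
    ∃ A : SLn, Matrix.SpecialLinearGroup.toGL A = g :=
  ⟨⟨g.val, by rw [← Matrix.GeneralLinearGroup.val_det_apply, h, Units.val_one]⟩, Units.ext rfl⟩

/-- The determinant map from inner-diagonal automorphisms to `Fˣ / (Fˣ)ⁿ`. -/
theorem inner_iff_det [NeZero n] (g : GL (Fin n) F) :
    conjP g ∈ Cfsg.Inn Pn ↔
      Matrix.GeneralLinearGroup.det g ∈ (powMonoidHom n : Fˣ →* Fˣ).range := by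
  constructor
  · rintro ⟨k, hk⟩
    obtain ⟨A, rfl⟩ := pr_surjective k
    rw [← conjP_toGL] at hk
    have h1 : conjP ((Matrix.SpecialLinearGroup.toGL A)⁻¹ * g) = 1 := by
      rw [map_mul, map_inv, hk, inv_mul_cancel]
    obtain ⟨c, hc⟩ := scalar_of_conjP_eq_one h1
    have h2 := congrArg Matrix.det hc
    rw [← Matrix.GeneralLinearGroup.val_det_apply, map_mul, map_inv,
      show Matrix.GeneralLinearGroup.det (Matrix.SpecialLinearGroup.toGL A) = 1 from Units.ext A.2,
      inv_one, one_mul, Matrix.det_smul, Matrix.det_one, Fintype.card_fin, mul_one] at h2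
    have hc0 : c ≠ 0 := fun h0 => by
      rw [h0, zero_pow (NeZero.ne n)] at h2
      exact Units.ne_zero _ h2
    exact ⟨Units.mk0 c hc0, Units.ext (by simp [h2])⟩
  · rintro ⟨s, hs⟩
    obtain ⟨A, hA⟩ := exists_sl_of_det (g := (scalarGL s)⁻¹ * g)
      (by rw [map_mul, map_inv, det_scalarGL, ← hs]; simp)
    refine ⟨pr A, ?_⟩
    rw [← conjP_toGL, hA, map_mul, map_inv, conjP_scalarGL, inv_one, one_mul]

end Cfsg.Agent.Small.PSLn
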