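import Mathlib
import Cfsg.Agent.Lib.Small.PSLn.Out
import Cfsg.Agent.Lib.Small.Hermitian
import Cfsg.Agent.Lib.Classical.GaloisDescent

/-!
Field and graph-field automorphisms of `PSL_n(q)` of prime order: Hilbert 90 for `GL_n` with respect
to a cyclic group of field automorphisms, and conjugacy inside a coset of the inner-diagonal group.
-/

set_option autoImplicit false
set_option linter.unusedSectionVars false

namespace Cfsg.Agent.Small.PSLn

open Matrix

variable {n : ℕ} {F : Type*} [Field F]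

local notation "Mn" => Matrix (Fin n) (Fin n) F
local notation "Pn" => Matrix.ProjectiveSpecialLinearGroup (Fin n) F

/-- `C σ(C) ⋯ σ^{k-1}(C)`. -/
def tw (σ : F ≃+* F) (C : Mn) : ℕ → Mn
  | 0 => 1
  | k + 1 => C * (tw σ C k).map σ

theorem map_mul' (σ : F ≃+* F) (A B : Mn) : (A * B).map σ = A.map σ * B.map σ :=
  Matrix.map_mul (f := (σ : F →+* F))

theorem map_one' (σ : F ≃+* F) : (1 : Mn).map σ = 1 :=
  Matrix.map_one σ (map_zero σ) (map_one σ)

theorem map_map' (σ τ : F ≃+* F) (A : Mn) : (A.map τ).map σ = A.map (σ * τ : F ≃+* F) := by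
  ext i j; rfl

theorem tw_succ' (σ : F ≃+* F) (C : Mn) :
    ∀ k : ℕ, tw σ C (k + 1) = tw σ C k * C.map (σ ^ k : F ≃+* F)
  | 0 => by
    ext i j
    simp [tw]
  | k + 1 => by
    conv_lhs => rw [tw, tw_succ' σ C k, map_mul' σ, map_map', ← pow_succ', ← mul_assoc]
    rfl

theorem tw_smul (σ : F ≃+* F) (μ : F) (C : Mn) :
    ∀ k : ℕ, tw σ (μ • C) k = (∏ i ∈ Finset.range k, (σ ^ i : F ≃+* F) μ) • tw σ C k
  | 0 => by simp [tw]
  | k + 1 => by
    rw [tw, tw, tw_smul σ μ C k, Finset.prod_range_succ']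
    ext i j
    simp only [Matrix.mul_apply, Matrix.smul_apply, Matrix.map_apply, smul_eq_mul, map_mul, map_prod,
      Finset.mul_sum]
    refine Finset.sum_congr rfl fun l _ => ?_
    have hp : ∀ x, σ ((σ ^ x : F ≃+* F) μ) = (σ ^ (x + 1) : F ≃+* F) μ := fun x => by
      rw [pow_succ']; rfl
    simp only [hp, pow_zero, show ((1 : F ≃+* F)) μ = μ from rfl]
    ring

variable [Fintype F]

/-- Hilbert 90 for `GL_n`. -/
theorem exists_descent_cyclic (σ : F ≃+* F) (C : Mn) (hC : tw σ C (orderOf σ) = 1) :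
    ∃ B : GL (Fin n) F, C * (B : Mn).map σ = (B : Mn) := by
  classical
  have : Finite (F ≃+* F) := Finite.of_injective (fun e : F ≃+* F => (e : F → F))
    (fun a b h => RingEquiv.ext fun x => congrFun h x)
  set r := orderOf σ with hr
  have hr0 : 0 < r := orderOf_pos σ
  let φ : (Fin n → F) → (Fin n → F) := fun v => C *ᵥ fun i => σ (v i)
  have hmapv : ∀ (τ : F ≃+* F) (M : Mn) (v : Fin n → F),
      (fun i => τ ((M *ᵥ v) i)) = M.map τ *ᵥ fun i => τ (v i) := fun τ M v =>
    funext fun i => RingHom.map_mulVec (τ : F →+* F) M v i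
  have hiter : ∀ (k : ℕ) (v : Fin n → F),
      φ^[k] v = tw σ C k *ᵥ fun i => (σ ^ k : F ≃+* F) (v i) := by
    intro k
    induction k with
    | zero => intro v; simp [tw]
    | succ k ih =>
      intro v
      rw [Function.iterate_succ_apply', ih, tw]
      change C *ᵥ _ = _
      rw [hmapv, Matrix.mulVec_mulVec, pow_succ']
      rfl
  have hφr : ∀ v, φ^[r] v = v := fun v => by
    rw [hiter, hC, hr, pow_orderOf_eq_one, Matrix.one_mulVec]
    rfl
  have hφadd : ∀ u v, φ (u + v) = φ u + φ v := fun u v => by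
    simp only [φ, Pi.add_apply, map_add, ← Matrix.mulVec_add]
    rfl
  let φh : (Fin n → F) →+ (Fin n → F) := AddMonoidHom.mk' φ hφadd
  have hsmulk : ∀ (k : ℕ) (a : F) v, φ^[k] (a • v) = (σ ^ k : F ≃+* F) a • φ^[k] v := by
    intro k a v
    rw [hiter, hiter, ← Matrix.mulVec_smul]
    congr 1
    funext i
    simp
  let S : Set (Fin n → F) := {v | φ v = v}
  have hfix : ∀ u, φ (∑ k ∈ Finset.range r, φ^[k] u) = ∑ k ∈ Finset.range r, φ^[k] u := fun u => by
    change φh _ = _
    rw [map_sum]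
    simp only [φh, AddMonoidHom.mk'_apply, ← Function.iterate_succ_apply' φ]
    obtain ⟨m, hm⟩ : ∃ m, r = m + 1 := ⟨r - 1, by omega⟩
    have h1 := Finset.sum_range_succ' (fun k => φ^[k] u) r
    rw [Finset.sum_range_succ, hφr, Function.iterate_zero_apply] at h1
    exact (add_right_cancel h1).symm
  have hspan : Submodule.span F S = ⊤ := by
    by_contra hne
    obtain ⟨ℓ, hℓ, hℓ0⟩ := Submodule.exists_dual_map_eq_bot_of_lt_top (lt_top_iff_ne_top.mpr hne)
      inferInstance
    have hvan : ∀ w ∈ Submodule.span F S, ℓ w = 0 := fun w hw => by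
      have : ℓ w ∈ (Submodule.span F S).map ℓ := ⟨w, hw, rfl⟩
      rwa [hℓ0, Submodule.mem_bot] at this
    apply hℓ
    apply LinearMap.ext
    intro v
    let χ : Fin r → (F →* F) := fun k => ((σ ^ (k : ℕ) : F ≃+* F) : F →* F)
    have hχinj : Function.Injective χ := fun a b hab => Fin.ext (pow_injOn_Iio_orderOf
      (Set.mem_Iio.mpr a.2) (Set.mem_Iio.mpr b.2) (RingEquiv.ext fun x => DFunLike.congr_fun hab x))
    have hli := (linearIndependent_monoidHom F F).comp χ hχinj
    rw [Fintype.linearIndependent_iff] at hli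
    have h0 := hli (fun k => ℓ (φ^[(k : ℕ)] v)) (funext fun a => by
      have h1 := hvan _ (Submodule.subset_span (hfix (a • v)))
      simp only [map_sum, hsmulk, map_smul, smul_eq_mul] at h1
      rw [Finset.sum_apply]
      simp only [Function.comp_apply, Pi.smul_apply, smul_eq_mul, χ]
      change ∑ x : Fin r, ℓ (φ^[(x : ℕ)] v) * (σ ^ (x : ℕ) : F ≃+* F) a = (0 : F)
      rw [Fin.sum_univ_eq_sum_range (fun k => ℓ (φ^[k] v) * (σ ^ k : F ≃+* F) a) r, ← h1]
      exact Finset.sum_congr rfl fun k _ => mul_comm _ _) ⟨0, hr0⟩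
    simpa using h0
  obtain ⟨b, hbS, hbspan, hbli⟩ := exists_linearIndependent F S
  have : Finite b := hbli.setFinite.to_subtype
  let : Fintype b := Fintype.ofFinite _
  have hcard : Fintype.card b = Fintype.card (Fin n) := by
    have h := finrank_span_eq_card hbli
    rw [Subtype.range_coe, hbspan, hspan, finrank_top, Module.finrank_fintype_fun_eq_card] at h
    exact h.symm
  let e : Fin n ≃ b := Fintype.equivOfCardEq hcard.symm
  let V : Mn := fun k i => (e i : Fin n → F) k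
  have hV : IsUnit V := Matrix.linearIndependent_cols_iff_isUnit.mp (hbli.comp e e.injective)
  refine ⟨hV.unit, ?_⟩
  rw [IsUnit.unit_spec]
  ext k i
  have := congrFun (hbS (e i).2 : φ (e i : Fin n → F) = (e i : Fin n → F)) k
  rw [Matrix.mul_apply]
  exact this

/-- Hilbert 90 for the multiplicative group. -/
theorem exists_div_of_norm_one (σ : F ≃+* F) {x : F}
    (hx : ∏ i ∈ Finset.range (orderOf σ), (σ ^ i : F ≃+* F) x = 1) :
    ∃ b : F, b ≠ 0 ∧ x * σ b = b := by
  have h1 : tw σ (x • (1 : Matrix (Fin 1) (Fin 1) F)) (orderOf σ) = 1 := by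
    rw [tw_smul, hx, one_smul]
    have : ∀ k, tw σ (1 : Matrix (Fin 1) (Fin 1) F) k = 1 := by
      intro k
      induction k with
      | zero => rfl
      | succ k ih => rw [tw, ih, map_one', Matrix.one_mul]
    exact this _
  obtain ⟨B, hB⟩ := exists_descent_cyclic σ _ h1
  have hdet : (B : Matrix (Fin 1) (Fin 1) F).det ≠ 0 :=
    (Matrix.GeneralLinearGroup.val_det_apply B) ▸ Units.ne_zero _
  rw [Matrix.det_fin_one] at hdet
  refine ⟨_, hdet, ?_⟩
  have := congrFun (congrFun hB 0) 0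
  simpa [Matrix.mul_apply] using this

/-- The norm to the fixed field of `σ` is surjective. -/
theorem exists_norm_cyclic (σ : F ≃+* F) {c : F} (hc0 : c ≠ 0) (hc : σ c = c) :
    ∃ μ : F, μ ≠ 0 ∧ ∏ i ∈ Finset.range (orderOf σ), (σ ^ i : F ≃+* F) μ = c := by
  classical
  let σu : Fˣ →* Fˣ := Units.map (σ : F →* F)
  let K : Subgroup Fˣ := σu.eqLocus (MonoidHom.id Fˣ)
  let N : Fˣ →* Fˣ :=
    ∏ i ∈ Finset.range (orderOf σ), Units.map ((σ ^ i : F ≃+* F) : F →* F)
  have hN : ∀ u : Fˣ, ((N u : Fˣ) : F) =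
      ∏ i ∈ Finset.range (orderOf σ), (σ ^ i : F ≃+* F) u := fun u => by
    simp only [N, MonoidHom.finsetProd_apply, Units.coe_prod, Units.coe_map]
    rfl
  have hNK : N.range ≤ K := by
    rintro _ ⟨u, rfl⟩
    change σu (N u) = N u
    apply Units.ext
    change σ (N u : F) = (N u : F)
    rw [hN, map_prod]
    have h1 := Finset.prod_range_succ' (fun i => (σ ^ i : F ≃+* F) (u : F)) (orderOf σ)
    rw [Finset.prod_range_succ, pow_orderOf_eq_one, pow_zero] at h1
    have h2 := mul_right_cancel₀ (u.ne_zero) h1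
    rw [h2]
    exact Finset.prod_congr rfl fun i _ => by rw [pow_succ']; rfl
  let D : Fˣ →* Fˣ := MonoidHom.id Fˣ / σu
  have hD : D.ker = K := by
    ext u
    change u / σu u = 1 ↔ σu u = u
    rw [div_eq_one]
    exact eq_comm
  have hker : N.ker ≤ D.range := by
    intro u hu
    obtain ⟨b, hb0, hb⟩ := exists_div_of_norm_one σ (x := (u : F)) (by
      rw [← hN, MonoidHom.mem_ker.mp hu, Units.val_one])
    refine ⟨Units.mk0 b hb0, ?_⟩
    change Units.mk0 b hb0 / σu (Units.mk0 b hb0) = u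
    rw [div_eq_iff_eq_mul]
    exact Units.ext hb.symm
  have e1 := Subgroup.card_eq_card_quotient_mul_card_subgroup N.ker
  have e2 := Subgroup.card_eq_card_quotient_mul_card_subgroup D.ker
  rw [Nat.card_congr (QuotientGroup.quotientKerEquivRange N).toEquiv] at e1
  rw [Nat.card_congr (QuotientGroup.quotientKerEquivRange D).toEquiv, hD] at e2
  have h3 : Nat.card N.ker ≤ Nat.card D.range := Subgroup.card_le_of_le hker
  have h4 : Nat.card K ≤ Nat.card N.range := by
    have h5 : Nat.card D.range * Nat.card K ≤ Nat.card D.range * Nat.card N.range := by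
      rw [← e2, e1, mul_comm]
      exact Nat.mul_le_mul_right _ h3
    exact Nat.le_of_mul_le_mul_left h5 Nat.card_pos
  have hKeq : N.range = K := Subgroup.eq_of_le_of_card_ge hNK h4
  obtain ⟨μ, hμ⟩ : Units.mk0 c hc0 ∈ N.range := by
    rw [hKeq]
    exact Units.ext hc
  exact ⟨μ, μ.ne_zero, by rw [← hN, hμ]; rfl⟩

theorem decomp_pow_field (g : GL (Fin n) F) (σ : F ≃+* F) :
    ∀ k : ℕ, ∃ N : GL (Fin n) F, (N : Mn) = tw σ (g : Mn) k ∧
      (conjP g * fieldP σ : MulAut Pn) ^ k = conjP N * fieldP (σ ^ k)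
  | 0 => ⟨1, rfl, by rw [pow_zero, pow_zero, map_one, map_one, one_mul]⟩
  | k + 1 => by
    obtain ⟨N, hN, hk⟩ := decomp_pow_field g σ k
    refine ⟨g * glField σ N, ?_, ?_⟩
    · rw [tw, Units.val_mul, glField_val, hN]
    · rw [pow_succ', hk, pow_succ', map_mul, map_mul, mul_assoc (conjP g),
        ← mul_assoc (fieldP σ), fieldP_conjP]
      simp only [mul_assoc]

theorem fieldP_injective (hn : 2 ≤ n) :
    Function.Injective (fieldP (n := n) (F := F)) := by
  intro σ τ h
  refine (decomp_unique hn (ε := 1) (ε' := 1) (fun _ => rfl) (g := 1) (g' := 1) ?_).2.1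
  rw [h]

/-- The coset `Inndiag · σ`: elements of order `|σ|` are conjugate to `σ`. -/
theorem field_conj (hn : 2 ≤ n) (g : GL (Fin n) F) (σ : F ≃+* F)
    (h : (conjP g * fieldP σ : MulAut Pn) ^ orderOf σ = 1) :
    ∃ B : GL (Fin n) F, (conjP g * fieldP σ : MulAut Pn) = conjP B * fieldP σ * (conjP B)⁻¹ := by
  have : NeZero n := ⟨by omega⟩
  obtain ⟨N, hN, hk⟩ := decomp_pow_field g σ (orderOf σ)
  rw [h, pow_orderOf_eq_one, map_one, mul_one] at hk
  obtain ⟨c, hc⟩ := scalar_of_conjP_eq_one hk.symm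
  have hc0 : c ≠ 0 := by
    intro h0
    have := N.ne_zero
    rw [hc, h0, zero_smul] at this
    exact this rfl
  have hfix : σ c = c := by
    have h1 : tw σ (g : Mn) (orderOf σ + 1) = (g : Mn) * (c • (1 : Mn)).map σ := by rw [tw, ← hN, hc]
    have h2 := tw_succ' σ (g : Mn) (orderOf σ)
    rw [h1, ← hN, hc, pow_orderOf_eq_one,
      show (g : Mn).map (1 : F ≃+* F) = (g : Mn) from by ext i j; rfl, Matrix.smul_mul,
      Matrix.one_mul] at h2
    have h3 : (g : Mn) * (c • (1 : Mn)).map σ = σ c • (g : Mn) := by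
      rw [show (c • (1 : Mn)).map σ = σ c • (1 : Mn) by
        ext i j; simp [Matrix.one_apply, apply_ite σ], Matrix.mul_smul, Matrix.mul_one]
    rw [h3] at h2
    by_contra hne
    have h4 : (σ c - c) • (g : Mn) = 0 := by rw [sub_smul, h2, sub_self]
    rw [smul_eq_zero, or_iff_right (sub_ne_zero.mpr hne)] at h4
    exact g.ne_zero h4
  obtain ⟨μ, hμ0, hμ⟩ := exists_norm_cyclic σ (inv_ne_zero hc0) (by rw [map_inv₀, hfix])
  obtain ⟨B, hB⟩ := exists_descent_cyclic σ (μ • (g : Mn)) (by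
    rw [tw_smul, hμ, ← hN, hc, smul_smul, inv_mul_cancel₀ hc0, one_smul])
  refine ⟨B, ?_⟩
  have h5 : scalarGL (Units.mk0 μ hμ0) * g * glField σ B = B := by
    apply Units.ext
    rw [Units.val_mul, Units.val_mul, glField_val,
      show (scalarGL (n := n) (Units.mk0 μ hμ0) : Mn) = μ • (1 : Mn) from scalar_eq_smul μ,
      Matrix.smul_mul, Matrix.one_mul]
    exact hB
  have h6 : (conjP g : MulAut Pn) * conjP (glField σ B) = conjP B := by
    conv_rhs => rw [← h5, map_mul, map_mul, conjP_scalarGL, one_mul]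
  rw [eq_mul_inv_iff_mul_eq, mul_assoc, fieldP_conjP, ← mul_assoc, h6]

/-- The coset `Inndiag · σι`: involutions are conjugate to `σι`. -/
theorem graphField_conj (hn : 3 ≤ n) (g : GL (Fin n) F) {σ : F ≃+* F} (hσ2 : σ * σ = 1)
    (hσ1 : σ ≠ 1)
    (h : (conjP g * fieldP σ * itP : MulAut Pn) * (conjP g * fieldP σ * itP) = 1) :
    ∃ B : GL (Fin n) F,
      (conjP g * fieldP σ * itP : MulAut Pn) = conjP B * (fieldP σ * itP) * (conjP B)⁻¹ := by
  classical
  have : NeZero n := ⟨by omega⟩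
  have hinv : ∀ x, σ (σ x) = x := fun x => DFunLike.congr_fun hσ2 x
  obtain ⟨q, hq⟩ := Cfsg.Agent.Classical.exists_isUSigma_of_involutive hinv hσ1
  let : StarRing F := Small.Hermitian.starRingOfInvolution (σ : F →+* F) hinv
  have hstar : ∀ x : F, star x = x ^ q := fun x => hq.apply_eq x
  have h1 : conjP (g * glField σ (glIt g)) = (1 : MulAut Pn) := by
    have h2 := decomp_mul (n := n) (F := F) g g σ σ (Multiplicative.ofAdd 1) (Multiplicative.ofAdd 1)
    rw [gam_one_eq, h, hσ2, show (Multiplicative.ofAdd (1 : ZMod 2)) *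
      Multiplicative.ofAdd 1 = 1 by decide, map_one fieldP, map_one gam, mul_one, mul_one, glGam,
      if_neg (by decide)] at h2
    exact h2.symm
  obtain ⟨c, hc⟩ := scalar_of_conjP_eq_one h1
  have hgc : (g : Mn) = c • ((g : Mn).map σ)ᵀ := by
    have h2 : (g : Mn) * ((g⁻¹ : GL (Fin n) F).val.transpose).map σ * ((g : Mn).map σ)ᵀ =
        (c • (1 : Mn)) * ((g : Mn).map σ)ᵀ := by
      rw [← hc, Units.val_mul, glField_val, glIt_val]
    rw [Matrix.mul_assoc, Matrix.transpose_map, ← Matrix.transpose_mul, ← map_mul' σ, Units.mul_inv,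
      map_one', Matrix.transpose_one, Matrix.mul_one, Matrix.smul_mul, Matrix.one_mul] at h2
    exact h2
  have hcc : c * σ c = 1 := by
    have h2 : (g : Mn) = (c * σ c) • (g : Mn) := by
      conv_lhs => rw [hgc]
      conv_lhs => rw [hgc]
      ext i j
      simp [Matrix.smul_apply, map_mul, hinv, mul_assoc]
    by_contra hne
    have h3 : (c * σ c - 1) • (g : Mn) = 0 := by rw [sub_smul, ← h2, one_smul, sub_self]
    rw [smul_eq_zero, or_iff_right (sub_ne_zero.mpr hne)] at h3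
    exact g.ne_zero h3
  have hord : orderOf σ = 2 := orderOf_eq_prime (by rw [pow_two]; exact hσ2) hσ1
  obtain ⟨μ, hμ0, hμ⟩ := exists_div_of_norm_one σ (x := c) (by
    rw [hord, Finset.prod_range_succ, Finset.prod_range_one, pow_zero, pow_one]
    exact hcc)
  let H : Mn := μ⁻¹ • (g : Mn)
  have hH : Hᴴ = H := by
    ext i j
    have h2 := congrFun (congrFun hgc i) j
    simp only [Matrix.smul_apply, Matrix.transpose_apply, Matrix.map_apply, smul_eq_mul] at h2
    simp only [H, Matrix.conjTranspose_apply, Matrix.smul_apply, smul_eq_mul]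
    change σ (μ⁻¹ * (g : Mn) j i) = μ⁻¹ * (g : Mn) i j
    rw [map_mul, map_inv₀, h2]
    have hσμ : σ μ ≠ 0 := by simpa using hμ0
    field_simp
    linear_combination (σ ((g : Mn) j i)) * hμ.symm
  have hunit : IsUnit H := (g.isUnit.smul (Units.mk0 μ⁻¹ (inv_ne_zero hμ0)))
  obtain ⟨P, hPu, hP⟩ := Small.Hermitian.exists_congr_one hstar hq.card n H hH hunit
  set Q : GL (Fin n) F := hPu.unit with hQ
  have hQv : (Q : Mn) = P := IsUnit.unit_spec _
  refine ⟨(glField σ (glIt Q)), ?_⟩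
  have h7 : scalarGL (Units.mk0 μ⁻¹ (inv_ne_zero hμ0)) * g = glField σ (glIt Q) * Q⁻¹ := by
    apply Units.ext
    rw [Units.val_mul, Units.val_mul,
      show (scalarGL (n := n) (Units.mk0 μ⁻¹ (inv_ne_zero hμ0)) : Mn) = μ⁻¹ • (1 : Mn) from
        scalar_eq_smul _, Matrix.smul_mul, Matrix.one_mul, glField_val, glIt_val]
    change H = _
    have h8 : (Q⁻¹ : GL (Fin n) F).val.transpose.map σ * Pᴴ = 1 := by
      have : Pᴴ = ((Q : Mn).transpose).map σ := by rw [hQv]; rfl
      rw [this, ← map_mul', ← Matrix.transpose_mul, Units.mul_inv, Matrix.transpose_one, map_one']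
    calc H = ((Q⁻¹ : GL (Fin n) F).val.transpose.map σ * Pᴴ) * H * (P * (Q⁻¹ : GL (Fin n) F).val) := by
          rw [h8, ← hQv, Units.mul_inv, Matrix.one_mul, Matrix.mul_one]
      _ = (Q⁻¹ : GL (Fin n) F).val.transpose.map σ * (Pᴴ * H * P) * (Q⁻¹ : GL (Fin n) F).val := by
          simp only [Matrix.mul_assoc]
      _ = _ := by rw [hP, Matrix.mul_one]
  have h9 : (conjP g : MulAut Pn) = conjP (glField σ (glIt Q)) * (conjP Q)⁻¹ := by
    rw [← map_inv, ← map_mul, ← h7, map_mul, conjP_scalarGL, one_mul]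
  have h10 : fieldP σ * itP * (conjP (glField σ (glIt Q)) : MulAut Pn) =
      conjP Q * (fieldP σ * itP) := by
    have h11 : glField σ (glIt (glField σ (glIt Q))) = Q := by
      apply Units.ext
      rw [glField_val, glIt_val, ← map_inv, glField_val, glIt_inv_val]
      ext i j
      simp [hinv]
    rw [mul_assoc, itP_conjP, ← mul_assoc, fieldP_conjP, mul_assoc, h11]
  rw [h9, mul_assoc _ (fieldP σ), mul_assoc, mul_assoc]
  congr 1
  rw [eq_mul_inv_iff_mul_eq, mul_assoc, h10, inv_mul_cancel_left]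

/-- Inner-diagonal automorphisms form a normal subgroup. -/
theorem inndiag_normal (hn : 2 ≤ n) :
    (Cfsg.inndiagPSL n F).Normal := by
  rw [inndiag_eq]
  refine ⟨?_⟩
  rintro _ ⟨g, rfl⟩ α
  obtain ⟨a, σ, ε, -, rfl⟩ := aut_decomp_all hn α
  refine ⟨a * glField σ (glGam ε g) * a⁻¹, ?_⟩
  rw [map_mul, map_mul, map_inv]
  have h1 : (fieldP σ * gam ε : MulAut Pn) * conjP g =
      conjP (glField σ (glGam ε g)) * (fieldP σ * gam ε) := by
    rw [mul_assoc, gam_conjP, ← mul_assoc, fieldP_conjP, mul_assoc]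
  rw [eq_mul_inv_iff_mul_eq]
  simp only [mul_assoc]
  rw [inv_mul_cancel_left, ← mul_assoc (fieldP σ) (gam ε) (conjP g), h1]

theorem isConjUnder_conj {X : Type*} [Group X] {H : Subgroup X} (hH : H.Normal) (α x y : X) :
    Cfsg.IsConjUnder H (α * x * α⁻¹) (α * y * α⁻¹) ↔ Cfsg.IsConjUnder H x y := by
  constructor
  · rintro ⟨h, hh, he⟩
    refine ⟨α⁻¹ * h * α⁻¹⁻¹, hH.conj_mem h hh α⁻¹, ?_⟩
    calc y = α⁻¹ * (α * y * α⁻¹) * α := by group
      _ = _ := by rw [he]; group
  · rintro ⟨h, hh, rfl⟩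
    exact ⟨α * h * α⁻¹, hH.conj_mem h hh α, by group⟩

/-- The conjugacy criterion in the coset of a field or graph-field automorphism. -/
theorem coset_conj (hn : 2 ≤ n) {x δ : MulAut Pn}
    (hx : Cfsg.IsFieldAutClassPSL x ∨ Cfsg.IsGraphFieldAutClassPSL x) {r : ℕ} (hr : r.Prime)
    (hxr : orderOf x = r) (hδ : δ ∈ Cfsg.inndiagPSL n F) :
    orderOf (δ * x) = r ↔ Cfsg.IsConjUnder (Cfsg.inndiagPSL n F) x (δ * x) := by
  have hN := inndiag_normal (n := n) (F := F) hn
  constructor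
  swap
  · rintro ⟨h, -, he⟩
    rw [he, ← MulAut.conj_apply, ← hxr]
    exact MulEquiv.orderOf_eq _ x
  intro hy
  rcases hx with ⟨α, σ, hσ, hst⟩ | ⟨hn3, α, φ, γ, σ, hσ, hφ, hγ, hxe⟩
  · rw [← isConjUnder_conj hN α]
    rw [(stdField_iff σ _).mp hst]
    obtain ⟨g, hg⟩ : α * δ * α⁻¹ ∈ (conjP (n := n) (F := F)).range :=
      inndiag_eq (n := n) (F := F) ▸ hN.conj_mem δ hδ α
    have hy' : α * (δ * x) * α⁻¹ = conjP g * fieldP σ := by
      rw [hg, ← (stdField_iff σ _).mp hst]; group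
    rw [hy']
    have hord : orderOf σ = r := by
      rw [← orderOf_injective fieldP (fieldP_injective hn) σ, ← (stdField_iff σ _).mp hst,
        ← MulAut.conj_apply, MulEquiv.orderOf_eq, hxr]
    obtain ⟨B, hB⟩ := field_conj hn g σ (by
      rw [← hy', ← MulAut.conj_apply, ← map_pow, hord, ← hy, pow_orderOf_eq_one, map_one])
    exact ⟨conjP B, inndiag_eq (n := n) (F := F) ▸ ⟨B, rfl⟩, hB⟩
  · have hxe' : α * x * α⁻¹ = fieldP σ * itP := by
      rw [hxe, (stdField_iff σ _).mp hφ, (invT_iff _).mp hγ]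
    rw [← isConjUnder_conj hN α, hxe']
    obtain ⟨g, hg⟩ : α * δ * α⁻¹ ∈ (conjP (n := n) (F := F)).range :=
      inndiag_eq (n := n) (F := F) ▸ hN.conj_mem δ hδ α
    have hy' : α * (δ * x) * α⁻¹ = conjP g * fieldP σ * itP := by
      rw [hg, mul_assoc (α * δ * α⁻¹), ← hxe']; group
    rw [hy']
    have hpow : (fieldP σ * itP : MulAut Pn) ^ r = 1 := by
      rw [← hxe', ← MulAut.conj_apply, ← map_pow, ← hxr, pow_orderOf_eq_one, map_one]
    have hcm : Commute (fieldP σ : MulAut Pn) itP := (itP_fieldP σ).symm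
    rw [hcm.mul_pow, ← gam_one_eq, ← map_pow, ← map_pow] at hpow
    obtain ⟨-, hσr, hεr⟩ := decomp_unique (n := n) (F := F) hn (g := 1) (g' := 1) (σ' := 1)
      (ε := (Multiplicative.ofAdd (1 : ZMod 2)) ^ r) (ε' := 1) (σ := σ ^ r)
      (fun h2 => by omega) (by
        rw [map_one conjP, one_mul, map_one fieldP, map_one gam, mul_one, mul_one, hpow])
    have hr2 : r = 2 := by
      have h2 : orderOf (Multiplicative.ofAdd (1 : ZMod 2)) = 2 :=
        orderOf_eq_prime (by decide) (by decide)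
      have h3 := orderOf_dvd_of_pow_eq_one hεr
      rw [h2] at h3
      exact ((Nat.prime_dvd_prime_iff_eq Nat.prime_two hr).mp h3).symm
    subst hr2
    have hσ2 : σ * σ = 1 := by rw [← pow_two]; exact hσr
    obtain ⟨B, hB⟩ := graphField_conj hn3 g hσ2 hσ (by
      rw [← hy', ← pow_two, ← MulAut.conj_apply, ← map_pow, ← hy, pow_orderOf_eq_one, map_one])
    exact ⟨conjP B, inndiag_eq (n := n) (F := F) ▸ ⟨B, rfl⟩, hB⟩

end Cfsg.Agent.Small.PSLn
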