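import Cfsg.Agent.Lib.Small.PSLn.Centralizers
import Cfsg.Agent.Lib.Small.Gram.Standard

/-!
# Involutory graph automorphisms of `PSL_n` and Gram matrices

`gr B` is inverse-transpose followed by conjugation by `B`.
-/

set_option autoImplicit false
set_option linter.unusedSectionVars false

namespace Cfsg.Agent.Small.PSLn

open Matrix Cfsg.Agent.Small

variable {n : ℕ} {F : Type*} [Field F]

local notation "Mn" => Matrix (Fin n) (Fin n) F
local notation "Pn" => Matrix.ProjectiveSpecialLinearGroup (Fin n) F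

/-- The graph automorphism given by a matrix. -/
noncomputable def gr (B : GL (Fin n) F) : MulAut Pn := conjP B * itP

theorem gr_eq_iff (hn : 2 ≤ n) (B B' : GL (Fin n) F) :
    gr B = gr B' ↔ ∃ c : Fˣ, B.val = (c : F) • B'.val := by
  haveI : NeZero n := ⟨by omega⟩
  rw [gr, gr, mul_left_inj]
  constructor
  · intro h
    obtain ⟨c, hc⟩ := scalar_of_conjP_eq_one (g := B * B'⁻¹) (by rw [map_mul, map_inv, h, mul_inv_cancel])
    have hc0 : c ≠ 0 := fun h0 => by
      have : (B * B'⁻¹).val = 0 := by rw [hc, h0, zero_smul]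
      exact (B * B'⁻¹).ne_zero this
    refine ⟨Units.mk0 c hc0, ?_⟩
    calc B.val = (B * B'⁻¹ * B').val := by rw [inv_mul_cancel_right]
      _ = _ := by rw [Units.val_mul, hc, Matrix.smul_mul, Matrix.one_mul, Units.val_mk0]
  · rintro ⟨c, hc⟩
    rw [← mul_inv_eq_one, ← map_inv, ← map_mul]
    refine conjP_of_scalar (c := (c : F)) ?_
    rw [Units.val_mul, hc, Matrix.smul_mul, Units.mul_inv]

theorem conj_gr (h B : GL (Fin n) F) : conjP h * gr B * (conjP h)⁻¹ = gr (h * B * (glIt h)⁻¹) := by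
  rw [gr, gr, ← map_inv, mul_assoc, mul_assoc, itP_conjP, map_mul, map_mul, map_inv glIt]
  simp only [mul_assoc]

theorem conj_gr_val (h B : GL (Fin n) F) : (h * B * (glIt h)⁻¹).val = h.val * B.val * h.valᵀ := by
  rw [Units.val_mul, Units.val_mul, glIt_inv_val]

theorem graph_iff (hn : 3 ≤ n) (γ : MulAut Pn) : Cfsg.IsGraphAutClassPSL γ ↔ ∃ B, γ = gr B := by
  constructor
  · rintro ⟨-, δ, ι, hδ, hι, rfl⟩
    obtain ⟨B, rfl⟩ := (innerDiag_iff δ).1 hδ
    exact ⟨B, by rw [(invT_iff ι).1 hι, gr]⟩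
  · rintro ⟨B, rfl⟩
    exact ⟨hn, conjP B, itP, (innerDiag_iff _).2 ⟨B, rfl⟩, (invT_iff _).2 rfl, rfl⟩

theorem gr_ne_one (hn : 3 ≤ n) (B : GL (Fin n) F) : gr B ≠ 1 := fun h => by
  have e : (conjP B * fieldP 1 * gam (Multiplicative.ofAdd 1) : MulAut Pn) = conjP 1 * fieldP 1 * gam 1 := by
    rw [gam_one_eq, map_one fieldP, map_one gam, map_one conjP, mul_one, mul_one, mul_one]
    exact h
  have := (decomp_unique (by omega) (fun hc => absurd hc (by omega)) e).2.2
  exact absurd this (by decide)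

theorem gr_sq_iff (hn : 3 ≤ n) (B : GL (Fin n) F) :
    gr B * gr B = 1 ↔ B.valᵀ = B.val ∨ B.valᵀ = -B.val := by
  haveI : NeZero n := ⟨by omega⟩
  have e : gr B * gr B = conjP (B * glIt B) := by
    rw [gr, mul_assoc, ← mul_assoc itP, itP_conjP, mul_assoc, itP_sq, mul_one, map_mul]
  rw [e]
  constructor
  · intro h
    obtain ⟨c, hc⟩ := scalar_of_conjP_eq_one h
    have h1 : B.val = c • B.valᵀ := by
      have := congrArg (· * (glIt B)⁻¹.val) hc
      rw [← Units.val_mul, mul_inv_cancel_right, Matrix.smul_mul, Matrix.one_mul, glIt_inv_val] at this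
      exact this
    have h2 : B.valᵀ = c • B.val := by
      conv_lhs => rw [h1, Matrix.transpose_smul, Matrix.transpose_transpose]
    have h3 : (c * c) • B.val = (1 : F) • B.val := by
      rw [← smul_smul, ← h2, ← h1, one_smul]
    rcases mul_self_eq_one_iff.1 (smul_left_injective F B.ne_zero h3) with rfl | rfl
    · exact .inl (by rw [h2, one_smul])
    · exact .inr (by rw [h2, neg_one_smul])
  · rintro (h | h)
    · refine conjP_of_scalar (c := (1 : F)) ?_
      rw [show B * glIt B = 1 by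
        rw [show glIt B = B⁻¹ from eq_inv_of_mul_eq_one_right (Units.ext ?_), mul_inv_cancel]
        rw [Units.val_mul, glIt_val, Units.val_one]
        nth_rewrite 1 [← h]
        rw [← Matrix.transpose_mul, Units.inv_mul, Matrix.transpose_one], one_smul, Units.val_one]
    · refine conjP_of_scalar (c := (-1 : F)) ?_
      have h1 : B.val = -B.valᵀ := by rw [h, neg_neg]
      rw [Units.val_mul, glIt_val]
      nth_rewrite 1 [h1]
      rw [neg_mul, ← Matrix.transpose_mul, Units.inv_mul, Matrix.transpose_one, neg_one_smul]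

theorem gr_order_iff (hn : 3 ≤ n) (B : GL (Fin n) F) :
    orderOf (gr B) = 2 ↔ B.valᵀ = B.val ∨ B.valᵀ = -B.val := by
  rw [← gr_sq_iff hn B, ← pow_two]
  refine ⟨fun h => by rw [← h]; exact pow_orderOf_eq_one _, fun h => ?_⟩
  exact orderOf_eq_prime h (gr_ne_one hn B)

theorem exists_gram (hn : 3 ≤ n) {γ : MulAut Pn} (hγ : Cfsg.IsGraphAutClassPSL γ) (h2 : orderOf γ = 2) :
    ∃ B : GL (Fin n) F, γ = gr B ∧ (B.valᵀ = B.val ∨ B.valᵀ = -B.val) := by
  obtain ⟨B, rfl⟩ := (graph_iff hn γ).1 hγ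
  exact ⟨B, rfl, (gr_order_iff hn B).1 h2⟩

theorem conjUnder_iff (hn : 2 ≤ n) (B B' : GL (Fin n) F) :
    Cfsg.IsConjUnder (Cfsg.inndiagPSL n F) (gr B) (gr B') ↔ Gram.Model B.val B'.val := by
  constructor
  · rintro ⟨x, hx, e⟩
    rw [inndiag_eq] at hx
    obtain ⟨h, rfl⟩ := hx
    rw [conj_gr, gr_eq_iff hn] at e
    obtain ⟨c, hc⟩ := e
    rw [conj_gr_val] at hc
    refine ⟨h.valᵀ, h⁻¹.valᵀ, c⁻¹, ?_, ?_, ?_⟩
    · rw [← Matrix.transpose_mul, Units.inv_mul, Matrix.transpose_one]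
    · rw [← Matrix.transpose_mul, Units.mul_inv, Matrix.transpose_one]
    · rw [Matrix.transpose_transpose, hc, smul_smul, Units.inv_mul, one_smul]
  · rintro ⟨M, N, c, hMN, hNM, h⟩
    refine ⟨conjP ⟨Mᵀ, Nᵀ, by rw [← Matrix.transpose_mul, hNM, Matrix.transpose_one],
      by rw [← Matrix.transpose_mul, hMN, Matrix.transpose_one]⟩, by rw [inndiag_eq]; exact ⟨_, rfl⟩, ?_⟩
    rw [conj_gr, gr_eq_iff hn]
    refine ⟨c⁻¹, ?_⟩
    rw [conj_gr_val]
    change _ = _ • (Mᵀ * B.val * Mᵀᵀ)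
    rw [Matrix.transpose_transpose, h, smul_smul, Units.inv_mul, one_smul]

theorem glIt_glIt (g : GL (Fin n) F) : glIt (glIt g) = g :=
  Units.ext (by rw [glIt_val, glIt_inv_val, Matrix.transpose_transpose])

theorem det_glIt (g : GL (Fin n) F) :
    Matrix.GeneralLinearGroup.det (glIt g) = (Matrix.GeneralLinearGroup.det g)⁻¹ := by
  rw [← map_inv]
  apply Units.ext
  rw [Matrix.GeneralLinearGroup.val_det_apply, Matrix.GeneralLinearGroup.val_det_apply, glIt_val,
    Matrix.det_transpose]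

theorem comap_centralizer (hn : 2 ≤ n) (B : GL (Fin n) F) :
    (Subgroup.centralizer {gr B}).comap conjP = (Gram.Sim B.val).comap glIt := by
  ext g
  rw [Subgroup.mem_comap, Subgroup.mem_comap, Subgroup.mem_centralizer_singleton_iff,
    ← mul_inv_eq_iff_eq_mul, conj_gr, gr_eq_iff hn, conj_gr_val, Gram.mem_sim]
  constructor
  · rintro ⟨c, hc⟩
    refine ⟨c⁻¹, ?_⟩
    rw [glIt_val, Matrix.transpose_transpose]
    calc g⁻¹.val * B.val * g⁻¹.valᵀ
        = g⁻¹.val * (((c⁻¹ : Fˣ) : F) • (g.val * B.val * g.valᵀ)) * g⁻¹.valᵀ := by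
          rw [hc, smul_smul, Units.inv_mul, one_smul]
      _ = ((c⁻¹ : Fˣ) : F) • (g⁻¹.val * g.val * B.val * (g⁻¹.val * g.val)ᵀ) := by
          simp only [Matrix.mul_smul, Matrix.smul_mul, Matrix.transpose_mul, Matrix.mul_assoc]
      _ = _ := by rw [Units.inv_mul, Matrix.transpose_one, Matrix.one_mul, Matrix.mul_one]
  · rintro ⟨c, hc⟩
    rw [glIt_val, Matrix.transpose_transpose] at hc
    refine ⟨c⁻¹, ?_⟩
    calc g.val * B.val * g.valᵀ
        = g.val * (((c⁻¹ : Fˣ) : F) • ((c : F) • B.val)) * g.valᵀ := by rw [smul_smul, Units.inv_mul, one_smul]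
      _ = ((c⁻¹ : Fˣ) : F) • (g.val * g⁻¹.val * B.val * (g.val * g⁻¹.val)ᵀ) := by
          rw [← hc]
          simp only [Matrix.mul_smul, Matrix.smul_mul, Matrix.transpose_mul, Matrix.mul_assoc]
      _ = _ := by rw [Units.mul_inv, Matrix.transpose_one, Matrix.one_mul, Matrix.mul_one]

theorem centralizer_equiv (hn : 2 ≤ n) (B : GL (Fin n) F) :
    Nonempty (↥(Cfsg.inndiagPSL n F ⊓ Subgroup.centralizer {gr B}) ≃* Cfsg.projQuot (Gram.Sim B.val)) := by
  haveI : NeZero n := ⟨by omega⟩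
  let f : ↥(Gram.Sim B.val) →* MulAut Pn := (conjP.comp glIt).comp (Gram.Sim B.val).subtype
  have hr : f.range = Cfsg.inndiagPSL n F ⊓ Subgroup.centralizer {gr B} := by
    ext x
    rw [Subgroup.mem_inf, inndiag_eq]
    constructor
    · rintro ⟨g, rfl⟩
      refine ⟨⟨glIt g.1, rfl⟩, ?_⟩
      change glIt g.1 ∈ (Subgroup.centralizer {gr B}).comap conjP
      rw [comap_centralizer hn, Subgroup.mem_comap, glIt_glIt]
      exact g.2
    · rintro ⟨⟨g, rfl⟩, hg⟩
      have h : g ∈ (Subgroup.centralizer {gr B}).comap conjP := hg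
      rw [comap_centralizer hn, Subgroup.mem_comap] at h
      exact ⟨⟨glIt g, h⟩, congrArg conjP (glIt_glIt g)⟩
  have hk : f.ker = (Cfsg.Geo.scalars (Fin n) F).subgroupOf (Gram.Sim B.val) := by
    ext g
    rw [MonoidHom.mem_ker, Subgroup.mem_subgroupOf, Cfsg.Geo.mem_scalars_iff]
    constructor
    · intro h
      obtain ⟨c, hc⟩ := scalar_of_conjP_eq_one h
      have hc' : g.1⁻¹.val = c • (1 : Mn) := by
        have e : g.1⁻¹.valᵀ = c • (1 : Mn) := hc
        rw [← Matrix.transpose_transpose g.1⁻¹.val, e, Matrix.transpose_smul, Matrix.transpose_one]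
      have hc0 : c ≠ 0 := fun h0 => g.1⁻¹.ne_zero (by rw [hc', h0, zero_smul])
      refine ⟨(Units.mk0 c hc0)⁻¹, ?_⟩
      have e := congrArg (fun X => (c⁻¹ : F) • (X * g.1.val)) hc'
      simp only [Units.inv_mul, Matrix.smul_mul, Matrix.one_mul, smul_smul, inv_mul_cancel₀ hc0, one_smul] at e
      rw [← e, Units.val_inv_eq_inv_val, Units.val_mk0]
    · rintro ⟨c, hc⟩
      refine conjP_of_scalar (c := ((c⁻¹ : Fˣ) : F)) ?_
      change g.1⁻¹.valᵀ = _
      have e : g.1⁻¹.val = ((c⁻¹ : Fˣ) : F) • (1 : Mn) := by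
        have e := congrArg (fun X => ((c⁻¹ : Fˣ) : F) • (g.1⁻¹.val * X)) hc
        simp only [Units.inv_mul, Matrix.mul_smul, Matrix.mul_one, smul_smul, one_smul] at e
        exact e.symm
      rw [e, Matrix.transpose_smul, Matrix.transpose_one]
  exact ⟨((MulEquiv.subgroupCongr hr).symm.trans (QuotientGroup.quotientKerEquivRange f).symm).trans
    (QuotientGroup.quotientMulEquivOfEq hk)⟩

theorem centralizer_model (hn : 2 ≤ n) (B : GL (Fin n) F) {ι : Type} [Fintype ι] [DecidableEq ι]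
    {B₀ : Matrix ι ι F} (h : Gram.Model B.val B₀) :
    Nonempty (↥(Cfsg.inndiagPSL n F ⊓ Subgroup.centralizer {gr B}) ≃* Cfsg.projQuot (Gram.Sim B₀)) := by
  obtain ⟨a⟩ := centralizer_equiv hn B
  obtain ⟨b⟩ := h.projQuot
  exact ⟨a.trans b⟩

theorem det_comap (hn : 2 ≤ n) (B : GL (Fin n) F) :
    ((Subgroup.centralizer {gr B}).comap conjP).map
        (Matrix.GeneralLinearGroup.det : GL (Fin n) F →* Fˣ) =
      (Gram.Sim B.val).map (Matrix.GeneralLinearGroup.det : GL (Fin n) F →* Fˣ) := by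
  rw [comap_centralizer hn]
  ext t
  constructor
  · rintro ⟨g, hg, rfl⟩
    refine ⟨(glIt g)⁻¹, inv_mem hg, ?_⟩
    rw [map_inv, det_glIt, inv_inv]
  · rintro ⟨g, hg, rfl⟩
    refine ⟨(glIt g)⁻¹, ?_, by rw [map_inv, det_glIt, inv_inv]⟩
    change glIt (glIt g)⁻¹ ∈ Gram.Sim B.val
    rw [map_inv, glIt_glIt]
    exact inv_mem hg

theorem exists_unit_model {ι : Type} [Fintype ι] [DecidableEq ι] (hι : Fintype.card ι = n) {B₀ : Matrix ι ι F}
    (h₀ : IsUnit B₀.det) : ∃ B : GL (Fin n) F, Gram.Model B.val B₀ := by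
  obtain ⟨e⟩ : Nonempty (Fin n ≃ ι) := Fintype.card_eq.1 (by rw [Fintype.card_fin, hι])
  exact ⟨Matrix.nonsingInvUnit (B₀.submatrix e e) (by rw [Matrix.det_submatrix_equiv_self]; exact h₀),
    Gram.model_submatrix e h₀⟩

end Cfsg.Agent.Small.PSLn
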