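import Mathlib
import Cfsg.Agent.Lib.Small.PSLn.FieldAut
import Cfsg.Agent.Lib.Small.ClassicalHom

/-!
Centralisers of field and graph-field automorphisms in `Inndiag(PSL_n(q))` and the number of
`Inn`-classes into which their `Inndiag`-classes split.
-/

set_option autoImplicit false
set_option linter.unusedSectionVars false

namespace Cfsg.Agent.Small.PSLn

open Matrix

section Generic

variable {X : Type*} [Group X] {H K : Subgroup X}

theorem splitClassCount_conj (hH : H.Normal) (hK : K.Normal) (α x : X) :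
    Cfsg.splitClassCount H K (α * x * α⁻¹) = Cfsg.splitClassCount H K x := by
  symm
  let e : {y : X // Cfsg.IsConjUnder H x y} ≃ {y : X // Cfsg.IsConjUnder H (α * x * α⁻¹) y} :=
    (MulAut.conj α).toEquiv.subtypeEquiv fun y => (isConjUnder_conj hH α x y).symm
  exact Nat.card_congr (Quot.congr e fun y z => (isConjUnder_conj hK α y.1 z.1).symm)

/-- Counting classes through a map to an abelian group. -/
theorem splitClassCount_eq {G D : Type*} [Group G] [CommGroup D] (π : G →* X) (Δ : G →* D)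
    (hΔ : Function.Surjective Δ) (hH : H = π.range) (hKH : K ≤ H)
    (hK : ∀ g, π g ∈ K ↔ Δ g = 1) (x : X) :
    Cfsg.splitClassCount H K x =
      (((Subgroup.centralizer {x}).comap π).map Δ).index := by
  classical
  set S := (Subgroup.centralizer {x}).comap π with hS
  set T := S.map Δ with hT
  have hpick : ∀ y : {y : X // Cfsg.IsConjUnder H x y}, ∃ g : G, y.1 = π g * x * (π g)⁻¹ := by
    rintro ⟨y, h, hh, rfl⟩
    rw [hH] at hh
    obtain ⟨g, rfl⟩ := hh
    exact ⟨g, rfl⟩
  choose pick hpick using hpick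
  have hS' : ∀ s, s ∈ S ↔ π s * x = x * π s := fun s => by
    rw [hS, Subgroup.mem_comap, Subgroup.mem_centralizer_iff]
    simp [eq_comm]
  have hrel : ∀ g g' : G,
      Cfsg.IsConjUnder K (π g * x * (π g)⁻¹) (π g' * x * (π g')⁻¹) ↔
        (QuotientGroup.mk (Δ g) : D ⧸ T) = QuotientGroup.mk (Δ g') := by
    intro g g'
    rw [QuotientGroup.eq]
    constructor
    · rintro ⟨k, hk, he⟩
      have hkH := hKH hk
      rw [hH] at hkH
      obtain ⟨a, rfl⟩ := hkH
      have ha := (hK a).mp hk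
      refine ⟨(a * g)⁻¹ * g', (hS' _).mpr ?_, ?_⟩
      · rw [map_mul, map_inv, map_mul]
        calc (π a * π g)⁻¹ * π g' * x
            = (π a * π g)⁻¹ * (π g' * x * (π g')⁻¹) * π g' := by group
          _ = x * ((π a * π g)⁻¹ * π g') := by rw [he]; group
      · rw [map_mul, map_inv, map_mul, ha, one_mul]
    · rintro ⟨s, hs, he⟩
      refine ⟨π (g' * s⁻¹ * g⁻¹), (hK _).mpr ?_, ?_⟩
      · rw [map_mul, map_mul, map_inv, map_inv, he]
        group
      · have h1 := (hS' s).mp hs
        have h2 : (π s)⁻¹ * x * π s = x := by rw [mul_assoc, ← h1, inv_mul_cancel_left]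
        calc π g' * x * (π g')⁻¹ = π g' * ((π s)⁻¹ * x * π s) * (π g')⁻¹ := by rw [h2]
          _ = _ := by rw [map_mul, map_mul, map_inv, map_inv]; group
  rw [Subgroup.index_eq_card]
  refine Nat.card_eq_of_bijective
    (Quot.lift (fun y => (QuotientGroup.mk (Δ (pick y)) : D ⧸ T)) ?_) ⟨?_, ?_⟩
  · intro y z hyz
    rw [← hrel, ← hpick, ← hpick]
    exact hyz
  · intro a b
    induction a using Quot.ind with
    | _ y =>
      induction b using Quot.ind with
      | _ z =>
        intro h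
        apply Quot.sound
        have := (hrel _ _).mpr h
        rwa [← hpick, ← hpick] at this
  · intro d
    obtain ⟨d, rfl⟩ := QuotientGroup.mk_surjective d
    obtain ⟨g, rfl⟩ := hΔ d
    refine ⟨Quot.mk _ ⟨π g * x * (π g)⁻¹, π g, hH ▸ ⟨g, rfl⟩, rfl⟩, ?_⟩
    refine (hrel _ g).mp ?_
    rw [← hpick]
    exact ⟨1, K.one_mem, by rw [one_mul, inv_one, mul_one]⟩

theorem pow_range_sup {A : Type*} [CommGroup A] (a b : ℕ) :
    (powMonoidHom a : A →* A).range ⊔ (powMonoidHom b).range =
      (powMonoidHom (Nat.gcd a b)).range := by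
  apply le_antisymm
  · refine sup_le ?_ ?_ <;> rintro _ ⟨u, rfl⟩
    · obtain ⟨k, hk⟩ := Nat.gcd_dvd_left a b
      exact ⟨u ^ k, by rw [powMonoidHom_apply, powMonoidHom_apply, ← pow_mul, mul_comm k, ← hk]⟩
    · obtain ⟨k, hk⟩ := Nat.gcd_dvd_right a b
      exact ⟨u ^ k, by rw [powMonoidHom_apply, powMonoidHom_apply, ← pow_mul, mul_comm k, ← hk]⟩
  · rintro _ ⟨u, rfl⟩
    rw [powMonoidHom_apply, ← zpow_natCast, Nat.gcd_eq_gcd_ab, _root_.zpow_add, mul_comm (a : ℤ),
      mul_comm (b : ℤ), _root_.zpow_mul, _root_.zpow_mul, zpow_natCast, zpow_natCast]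
    exact mul_mem (Subgroup.mem_sup_left ⟨_, rfl⟩) (Subgroup.mem_sup_right ⟨_, rfl⟩)

theorem card_pow_ker {A : Type*} [CommGroup A] [IsCyclic A] [Finite A] {m : ℕ}
    (hm : m ∣ Nat.card A) : Nat.card (powMonoidHom m : A →* A).ker = m := by
  have h1 := Subgroup.card_eq_card_quotient_mul_card_subgroup (powMonoidHom m : A →* A).ker
  rw [Nat.card_congr (QuotientGroup.quotientKerEquivRange (powMonoidHom m : A →* A)).toEquiv] at h1
  have h2 := Subgroup.card_mul_index (powMonoidHom m : A →* A).range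
  rw [IsCyclic.index_powMonoidHom_range, Nat.gcd_eq_right hm] at h2
  exact Nat.eq_of_mul_eq_mul_left Nat.card_pos (h1.symm.trans h2.symm)

theorem cyclic_subgroup_eq {A : Type*} [CommGroup A] [IsCyclic A] [Finite A] (S : Subgroup A) :
    S = (powMonoidHom (Nat.card A / Nat.card S) : A →* A).range := by
  obtain ⟨k, hk⟩ := Subgroup.card_subgroup_dvd_card S
  have hpos : 0 < Nat.card S := Nat.card_pos
  rw [hk, Nat.mul_div_cancel_left k hpos]
  set T := (powMonoidHom (Nat.card S) : A →* A).ker with hT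
  have hcT : Nat.card T = Nat.card S := card_pow_ker ⟨k, hk⟩
  have h1 : S = T := by
    refine Subgroup.eq_of_le_of_card_ge (fun u hu => ?_) hcT.le
    change u ^ Nat.card S = 1
    exact congrArg Subtype.val (pow_card_eq_one' (x := (⟨u, hu⟩ : S)))
  have h2 : (powMonoidHom k : A →* A).range = T := by
    refine Subgroup.eq_of_le_of_card_ge ?_ ?_
    · rintro _ ⟨u, rfl⟩
      change (u ^ k) ^ Nat.card S = 1
      rw [← pow_mul, mul_comm, ← hk, pow_card_eq_one']
    · have h3 := Subgroup.card_mul_index (powMonoidHom k : A →* A).range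
      rw [IsCyclic.index_powMonoidHom_range, Nat.gcd_eq_right ⟨Nat.card S, by rw [hk, mul_comm]⟩,
        hk] at h3
      have hk0 : 0 < k := Nat.pos_of_ne_zero fun h => by
        rw [h, mul_zero] at hk
        exact Nat.card_pos.ne' hk
      rw [hcT]
      exact (Nat.eq_of_mul_eq_mul_right hk0 h3).ge
  rw [h2, ← h1]

end Generic

variable {n : ℕ} {F : Type*} [Field F] [Fintype F]

local notation "Mn" => Matrix (Fin n) (Fin n) F
local notation "Pn" => Matrix.ProjectiveSpecialLinearGroup (Fin n) F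

theorem inn_normal : (Cfsg.Inn Pn).Normal := by infer_instance

theorem inn_le_inndiag : Cfsg.Inn Pn ≤ Cfsg.inndiagPSL n F := by
  rintro _ ⟨k, rfl⟩
  obtain ⟨A, rfl⟩ := pr_surjective k
  rw [inndiag_eq, ← conjP_toGL]
  exact ⟨_, rfl⟩

/-- The split class count through determinants. -/
theorem split_count [NeZero n] (x : MulAut Pn) (S : Subgroup Fˣ)
    (hS : ((Subgroup.centralizer {x}).comap conjP).map
        (Matrix.GeneralLinearGroup.det : GL (Fin n) F →* Fˣ) ⊔ (powMonoidHom n).range =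
        S ⊔ (powMonoidHom n).range) :
    Cfsg.splitClassCount (Cfsg.inndiagPSL n F) (Cfsg.Inn Pn) x =
      Nat.gcd n (Nat.card Fˣ / Nat.card S) := by
  classical
  let P : Subgroup Fˣ := (powMonoidHom n).range
  let Δ : GL (Fin n) F →* Fˣ ⧸ P := (QuotientGroup.mk' P).comp Matrix.GeneralLinearGroup.det
  have hΔ : Function.Surjective Δ := fun d => by
    obtain ⟨t, rfl⟩ := QuotientGroup.mk_surjective d
    exact ⟨dGL t, by simp [Δ, det_dGL]⟩
  have hK : ∀ g : GL (Fin n) F, conjP g ∈ Cfsg.Inn Pn ↔ Δ g = 1 := fun g => by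
    rw [inner_iff_det]
    exact (QuotientGroup.eq_one_iff (N := P) _).symm
  rw [splitClassCount_eq (D := Fˣ ⧸ P) (conjP (n := n) (F := F)) Δ hΔ inndiag_eq inn_le_inndiag hK x]
  rw [← Subgroup.map_map, Subgroup.index_map, QuotientGroup.ker_mk',
    MonoidHom.range_eq_top.mpr (QuotientGroup.mk'_surjective P), Subgroup.index_top, mul_one, hS]
  conv_lhs => rw [cyclic_subgroup_eq S, pow_range_sup, IsCyclic.index_powMonoidHom_range]
  have hd : Nat.card Fˣ / Nat.card S ∣ Nat.card Fˣ :=
    Nat.div_dvd_of_dvd (Subgroup.card_subgroup_dvd_card S)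
  rw [Nat.gcd_comm _ n, Nat.gcd_eq_right ((Nat.gcd_dvd_right n _).trans hd)]

theorem orderOf_dvd_f {p f : ℕ} [Fact p.Prime] (hF : Fintype.card F = p ^ f) (σ : F ≃+* F) :
    orderOf σ ∣ f := by
  obtain ⟨e⟩ := fieldAut_equiv hF
  have h := orderOf_dvd_natCard (e σ)
  rwa [MulEquiv.orderOf_eq, Nat.card_congr Multiplicative.toAdd, Nat.card_zmod] at h

/-- The fixed field of a field automorphism. -/
theorem exists_fixed_embedding {p f : ℕ} [Fact p.Prime] (hF : Fintype.card F = p ^ f)
    (σ : F ≃+* F) (F₀ : Type*) [Field F₀] [Fintype F₀]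
    (hF₀ : Fintype.card F₀ = p ^ (f / orderOf σ)) :
    ∃ ι : F₀ →+* F, ∀ y : F, σ y = y ↔ y ∈ Set.range ι := by
  classical
  have : Finite (F ≃+* F) := Finite.of_injective (fun e : F ≃+* F => (e : F → F))
    (fun a b h => RingEquiv.ext fun x => congrFun h x)
  let G := Subgroup.zpowers σ
  let : Fintype G := Fintype.ofFinite _
  let : Fintype (FixedPoints.subfield G F) := Fintype.ofFinite _
  have hrank := FixedPoints.finrank_eq_card G F
  have hc := Module.card_eq_pow_finrank (K := FixedPoints.subfield G F) (V := F)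
  rw [hrank, hF, ← Nat.card_eq_fintype_card (α := G), Nat.card_zpowers] at hc
  have hr0 : orderOf σ ≠ 0 := (orderOf_pos σ).ne'
  have hK : Fintype.card F₀ = Fintype.card (FixedPoints.subfield G F) := by
    apply Nat.pow_left_injective hr0
    change _ ^ _ = _ ^ _
    rw [← hc, hF₀, ← pow_mul, Nat.div_mul_cancel (orderOf_dvd_f hF σ)]
  let e : F₀ ≃+* FixedPoints.subfield G F := FiniteField.ringEquivOfCardEq hK
  refine ⟨(FixedPoints.subfield G F).subtype.comp e.toRingHom, fun y => ⟨fun hy => ?_, ?_⟩⟩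
  · have hmem : y ∈ FixedPoints.subfield G F := by
      rintro ⟨τ, k, rfl⟩
      change (σ ^ k) y = y
      have hfix : σ ∈ MulAction.stabilizer (F ≃+* F) y := hy
      exact Subgroup.zpow_mem _ hfix k
    exact ⟨e.symm ⟨y, hmem⟩, by simp⟩
  · rintro ⟨a, rfl⟩
    exact (e a).2 ⟨σ, Subgroup.mem_zpowers σ⟩

/-- Transport of the centraliser in the inner-diagonal group. -/
theorem centralizer_conj (hn : 2 ≤ n) (α x : MulAut Pn) :
    Nonempty (↥(Cfsg.inndiagPSL n F ⊓ Subgroup.centralizer {x}) ≃*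
      ↥(Cfsg.inndiagPSL n F ⊓ Subgroup.centralizer {α * x * α⁻¹})) := by
  have hN := inndiag_normal (n := n) (F := F) hn
  refine ⟨(Subgroup.equivMapOfInjective _ (MulAut.conj α).toMonoidHom (MulAut.conj α).injective).trans
    (MulEquiv.subgroupCongr ?_)⟩
  ext y
  rw [Subgroup.mem_map_equiv, MulAut.conj_symm_apply, Subgroup.mem_inf, Subgroup.mem_inf,
    Subgroup.mem_centralizer_iff, Subgroup.mem_centralizer_iff]
  simp only [Set.mem_singleton_iff, forall_eq]
  refine and_congr ⟨fun h => ?_, fun h => ?_⟩ ⟨fun h => ?_, fun h => ?_⟩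
  · have := hN.conj_mem _ h α
    simpa [mul_assoc] using this
  · simpa using hN.conj_mem _ h α⁻¹
  · calc α * x * α⁻¹ * y = α * (x * (α⁻¹ * y * α)) * α⁻¹ := by group
      _ = y * (α * x * α⁻¹) := by rw [h]; group
  · calc x * (α⁻¹ * y * α) = α⁻¹ * (α * x * α⁻¹ * y) * α := by group
      _ = α⁻¹ * y * α * x := by rw [h]; group

theorem commute_field_iff [NeZero n] (σ : F ≃+* F) (g : GL (Fin n) F) :
    Commute (conjP g : MulAut Pn) (fieldP σ) ↔ conjP (glField σ g) = (conjP g : MulAut Pn) := by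
  rw [Commute, SemiconjBy, fieldP_conjP]
  exact ⟨fun h => (mul_right_cancel h).symm, fun h => by rw [h]⟩

theorem field_centralizer [NeZero n] (σ : F ≃+* F) {F₀ : Type*} [Field F₀]
    (ι : F₀ →+* F) (hι : ∀ y : F, σ y = y ↔ y ∈ Set.range ι) :
    Nonempty (↥(Cfsg.inndiagPSL n F ⊓ Subgroup.centralizer {(fieldP σ : MulAut Pn)}) ≃*
      Matrix.ProjGenLinGroup (Fin n) F₀) ∧
    ∀ g : GL (Fin n) F, Commute (conjP g : MulAut Pn) (fieldP σ) →
      ∃ (c : Fˣ) (h : GL (Fin n) F₀), g = scalarGL c * Matrix.GeneralLinearGroup.map ι h := by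
  classical
  have hdesc : ∀ g : GL (Fin n) F, Commute (conjP g : MulAut Pn) (fieldP σ) →
      ∃ (c : Fˣ) (h : GL (Fin n) F₀), g = scalarGL c * Matrix.GeneralLinearGroup.map ι h := by
    intro g hg
    have h1 : conjP (glField σ g * g⁻¹) = (1 : MulAut Pn) := by
      rw [map_mul, map_inv, (commute_field_iff σ g).mp hg, mul_inv_cancel]
    obtain ⟨c, hc⟩ := scalar_of_conjP_eq_one h1
    have h2 : ((g : Mn).map σ) = c • (g : Mn) :=
      calc ((g : Mn).map σ) = (glField σ g * g⁻¹ * g : GL (Fin n) F).val := by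
            rw [inv_mul_cancel_right, glField_val]
        _ = c • (g : Mn) := by rw [Units.val_mul, hc, Matrix.smul_mul, Matrix.one_mul]
    obtain ⟨i, j, hij⟩ : ∃ i j, (g : Mn) i j ≠ 0 := by
      by_contra hh
      push Not at hh
      exact g.ne_zero (by ext i j; exact hh i j)
    let a : Fˣ := Units.mk0 _ hij
    have hc0 : c ≠ 0 := fun h0 => by
      have := congrFun (congrFun h2 i) j
      rw [Matrix.map_apply, Matrix.smul_apply, h0, zero_smul] at this
      exact hij (by simpa using this)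
    have hfix : ∀ k l, σ ((g : Mn) k l / (g : Mn) i j) = (g : Mn) k l / (g : Mn) i j := fun k l => by
      have e1 := congrFun (congrFun h2 k) l
      have e2 := congrFun (congrFun h2 i) j
      simp only [Matrix.map_apply, Matrix.smul_apply, smul_eq_mul] at e1 e2
      rw [map_div₀, e1, e2, mul_div_mul_left _ _ hc0]
    choose h0 hh0 using fun k l => (hι _).mp (hfix k l)
    have hdet : (Matrix.of h0).det ≠ 0 := fun hz => by
      have h3 := congrArg ι hz
      rw [RingHom.map_det, map_zero] at h3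
      have : ι.mapMatrix (Matrix.of h0) = (a⁻¹ : Fˣ).1 • (g : Mn) := by
        ext k l
        simp [hh0, a, div_eq_inv_mul]
      rw [this, Matrix.det_smul] at h3
      exact mul_ne_zero (pow_ne_zero _ (a⁻¹).ne_zero)
        (Matrix.GeneralLinearGroup.val_det_apply g ▸ Units.ne_zero _) h3
    refine ⟨a, Matrix.GeneralLinearGroup.mkOfDetNeZero _ hdet, ?_⟩
    apply Units.ext
    rw [Units.val_mul, show (scalarGL (n := n) a : Mn) = (a : F) • (1 : Mn) from scalar_eq_smul _,
      Matrix.smul_mul, Matrix.one_mul]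
    ext k l
    change _ = (a : F) * ι (h0 k l)
    rw [hh0]
    exact (mul_div_cancel₀ _ hij).symm
  refine ⟨?_, hdesc⟩
  have hmapfix : ∀ h : GL (Fin n) F₀,
      glField σ (Matrix.GeneralLinearGroup.map ι h) = Matrix.GeneralLinearGroup.map ι h := fun h => by
    apply Units.ext
    ext k l
    exact (hι _).mpr ⟨_, rfl⟩
  let Φ : GL (Fin n) F₀ →* ↥(Cfsg.inndiagPSL n F ⊓ Subgroup.centralizer {(fieldP σ : MulAut Pn)}) :=
    ((conjP (n := n) (F := F)).comp (Matrix.GeneralLinearGroup.map ι)).codRestrict _ fun h => by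
      refine Subgroup.mem_inf.mpr ⟨inndiag_eq (n := n) (F := F) ▸ ⟨_, rfl⟩, ?_⟩
      rw [Subgroup.mem_centralizer_iff]
      rintro _ rfl
      exact ((commute_field_iff σ _).mpr (by rw [hmapfix])).symm.eq
  have hsurj : Function.Surjective Φ := by
    rintro ⟨y, hy⟩
    obtain ⟨hy1, hy2⟩ := Subgroup.mem_inf.mp hy
    rw [inndiag_eq] at hy1
    obtain ⟨g, rfl⟩ := hy1
    rw [Subgroup.mem_centralizer_iff] at hy2
    obtain ⟨c, h, rfl⟩ := hdesc g (hy2 _ rfl).symm
    refine ⟨h, Subtype.ext ?_⟩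
    change conjP (Matrix.GeneralLinearGroup.map ι h) = conjP (_ * _)
    rw [map_mul, conjP_scalarGL, one_mul]
  have hker : Φ.ker = Subgroup.center (GL (Fin n) F₀) := by
    ext h
    rw [MonoidHom.mem_ker, Matrix.GeneralLinearGroup.mem_center_iff_val_mem_range_scalar,
      Subtype.ext_iff]
    change conjP (Matrix.GeneralLinearGroup.map ι h) = 1 ↔ _
    constructor
    · intro hh
      obtain ⟨c, hc⟩ := scalar_of_conjP_eq_one hh
      refine ⟨(h : Matrix (Fin n) (Fin n) F₀) 0 0, ?_⟩
      ext k l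
      apply ι.injective
      have e1 : ι ((h : Matrix (Fin n) (Fin n) F₀) k l) = (c • (1 : Mn)) k l :=
        congrFun (congrFun hc k) l
      have e0 : ι ((h : Matrix (Fin n) (Fin n) F₀) 0 0) = (c • (1 : Mn)) 0 0 :=
        congrFun (congrFun hc 0) 0
      rw [Matrix.smul_apply, Matrix.one_apply_eq, smul_eq_mul, mul_one] at e0
      rw [Matrix.scalar_apply, Matrix.diagonal_apply, apply_ite ι, map_zero, e0, e1,
        Matrix.smul_apply, Matrix.one_apply, smul_eq_mul, mul_ite, mul_one, mul_zero]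
    · rintro ⟨c, hc⟩
      refine conjP_of_scalar (c := ι c) ?_
      ext k l
      change ι ((h : Matrix (Fin n) (Fin n) F₀) k l) = _
      rw [← hc, Matrix.scalar_apply, Matrix.diagonal_apply, apply_ite ι, map_zero, Matrix.smul_apply,
        Matrix.one_apply, smul_eq_mul, mul_ite, mul_one, mul_zero]
  exact ⟨((QuotientGroup.quotientMulEquivOfEq hker).symm.trans
    (QuotientGroup.quotientKerEquivOfSurjective Φ hsurj)).symm⟩

theorem mem_GU_iff (σ : F ≃+* F) {q : ℕ} (hσ : ∀ x, σ x = x ^ q) (g : GL (Fin n) F) :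
    g ∈ Cfsg.GU n F q ↔ (g : Mn)ᵀ * (g : Mn).map σ = 1 := by
  refine ⟨fun h => ?_, Cfsg.Agent.Small.mem_GU_of_unitary (σ : F →+* F) hσ g⟩
  ext i j
  have := h (Pi.single i 1) (Pi.single j 1)
  change Cfsg.hermForm n F q ((g : Mn) *ᵥ Pi.single i 1) ((g : Mn) *ᵥ Pi.single j 1) =
    Cfsg.hermForm n F q (Pi.single i 1) (Pi.single j 1) at this
  have e : ∀ u v : Fin n → F, Cfsg.hermForm n F q u v = ∑ k, u k * σ (v k) := fun u v => by
    simp [Cfsg.hermForm, hσ]
  rw [e, e] at this
  rw [Matrix.mul_apply]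
  simp only [Matrix.transpose_apply, Matrix.map_apply]
  simp only [Matrix.mulVec_single_one, Matrix.col_apply] at this
  rw [this, Finset.sum_eq_single i]
  · rw [Pi.single_eq_same, one_mul, Pi.single_apply, Matrix.one_apply]
    rw [apply_ite σ, map_one, map_zero]
  · intro k _ hk
    rw [Pi.single_eq_of_ne hk, zero_mul]
  · simp

theorem graphField_centralizer [NeZero n] {σ : F ≃+* F} {q : ℕ}
    (hσ : Cfsg.Agent.Classical.IsUSigma q σ) :
    Nonempty (↥(Cfsg.inndiagPSL n F ⊓ Subgroup.centralizer {(fieldP σ * itP : MulAut Pn)}) ≃*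
      Cfsg.PGU n F q) ∧
    (∀ g : GL (Fin n) F, Commute (conjP g : MulAut Pn) (fieldP σ * itP) →
      ∃ (c : Fˣ) (h : GL (Fin n) F), h ∈ Cfsg.GU n F q ∧ g = scalarGL c * h) ∧
    ∀ g : GL (Fin n) F, g ∈ Cfsg.GU n F q → Commute (conjP g : MulAut Pn) (fieldP σ * itP) := by
  classical
  have hinv := hσ.involutive
  have hcomm : ∀ g : GL (Fin n) F, Commute (conjP g : MulAut Pn) (fieldP σ * itP) ↔
      conjP (glField σ (glIt g)) = (conjP g : MulAut Pn) := by
    intro g
    rw [Commute, SemiconjBy, mul_assoc (fieldP σ) itP, itP_conjP, ← mul_assoc (fieldP σ),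
      fieldP_conjP, mul_assoc (conjP _)]
    exact ⟨fun h => (mul_right_cancel h).symm, fun h => by rw [h]⟩
  have hGU : ∀ g : GL (Fin n) F, g ∈ Cfsg.GU n F q → glField σ (glIt g) = g := by
    intro g hg
    rw [mem_GU_iff σ hσ.apply_eq] at hg
    have h1 : glIt g = glField σ g := by
      apply Units.ext
      rw [glIt_val, glField_val]
      calc (g⁻¹ : GL (Fin n) F).val.transpose
          = (g⁻¹ : GL (Fin n) F).val.transpose * ((g : Mn)ᵀ * (g : Mn).map σ) := by
            rw [hg, Matrix.mul_one]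
        _ = (g : Mn).map σ := by
            rw [← Matrix.mul_assoc, ← Matrix.transpose_mul, Units.mul_inv, Matrix.transpose_one,
              Matrix.one_mul]
    apply Units.ext
    rw [h1, glField_val, glField_val]
    ext i j
    simp [hinv]
  have hdesc : ∀ g : GL (Fin n) F, Commute (conjP g : MulAut Pn) (fieldP σ * itP) →
      ∃ (c : Fˣ) (h : GL (Fin n) F), h ∈ Cfsg.GU n F q ∧ g = scalarGL c * h := by
    intro g hg
    have h1 : conjP (glField σ (glIt g) * g⁻¹) = (1 : MulAut Pn) := by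
      rw [map_mul, map_inv, (hcomm g).mp hg, mul_inv_cancel]
    obtain ⟨c, hc⟩ := scalar_of_conjP_eq_one h1
    have h2 : ((g⁻¹ : GL (Fin n) F).val.transpose).map σ = c • (g : Mn) :=
      calc ((g⁻¹ : GL (Fin n) F).val.transpose).map σ =
            (glField σ (glIt g) * g⁻¹ * g : GL (Fin n) F).val := by
            rw [inv_mul_cancel_right, glField_val, glIt_val]
        _ = c • (g : Mn) := by rw [Units.val_mul, hc, Matrix.smul_mul, Matrix.one_mul]
    have h3 : c • ((g : Mn) * ((g : Mn).map σ)ᵀ) = 1 := by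
      rw [← Matrix.smul_mul, ← h2, Matrix.transpose_map, ← Matrix.transpose_mul, ← map_mul',
        Units.mul_inv, map_one', Matrix.transpose_one]
    have hc0 : c ≠ 0 := fun h0 => by
      rw [h0, zero_smul] at h3
      exact zero_ne_one h3
    have h4 : ((g : Mn).map σ)ᵀ * (g : Mn) = c⁻¹ • (1 : Mn) := by
      have h5 : (g : Mn) * (c • ((g : Mn).map σ)ᵀ) = 1 := by rw [Matrix.mul_smul, h3]
      rw [mul_eq_one_comm, Matrix.smul_mul] at h5
      rw [← h5, smul_smul, inv_mul_cancel₀ hc0, one_smul]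
    have h6 : (g : Mn)ᵀ * (g : Mn).map σ = c⁻¹ • (1 : Mn) := by
      have := congrArg Matrix.transpose h4
      rwa [Matrix.transpose_mul, Matrix.transpose_transpose, Matrix.transpose_smul,
        Matrix.transpose_one] at this
    have hfix : σ c = c := by
      have := congrArg (fun M : Mn => M.map σ) h6
      rw [map_mul', show ((g : Mn).map σ).map σ = (g : Mn) by ext i j; simp [hinv]] at this
      rw [Matrix.transpose_map, h4] at this
      have h7 := congrFun (congrFun this 0) 0
      simp only [Matrix.smul_apply, Matrix.one_apply_eq, Matrix.map_apply, smul_eq_mul, mul_one,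
        map_inv₀] at h7
      exact (inv_injective h7).symm
    obtain ⟨μ, hμ0, hμ⟩ := hσ.norm_surjective hc0 hfix
    refine ⟨(Units.mk0 μ hμ0)⁻¹, scalarGL (Units.mk0 μ hμ0) * g, ?_, by
      rw [map_inv, inv_mul_cancel_left]⟩
    rw [mem_GU_iff σ hσ.apply_eq, Units.val_mul,
      show (scalarGL (n := n) (Units.mk0 μ hμ0) : Mn) = μ • (1 : Mn) from scalar_eq_smul _,
      Matrix.smul_mul, Matrix.one_mul, Matrix.transpose_smul,
      show (μ • (g : Mn)).map σ = σ μ • (g : Mn).map σ by ext i j; simp,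
      Matrix.smul_mul, Matrix.mul_smul, h6, smul_smul, smul_smul, hμ, mul_inv_cancel₀ hc0,
      one_smul]
  refine ⟨?_, hdesc, fun g hg => (hcomm g).mpr (by rw [hGU g hg])⟩
  let Φ : ↥(Cfsg.GU n F q) →*
      ↥(Cfsg.inndiagPSL n F ⊓ Subgroup.centralizer {(fieldP σ * itP : MulAut Pn)}) :=
    ((conjP (n := n) (F := F)).comp (Cfsg.GU n F q).subtype).codRestrict _ fun g => by
      refine Subgroup.mem_inf.mpr ⟨inndiag_eq (n := n) (F := F) ▸ ⟨_, rfl⟩, ?_⟩
      rw [Subgroup.mem_centralizer_iff]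
      rintro _ rfl
      exact ((hcomm g.1).mpr (by rw [hGU g.1 g.2])).symm.eq
  have hsurj : Function.Surjective Φ := by
    rintro ⟨y, hy⟩
    obtain ⟨hy1, hy2⟩ := Subgroup.mem_inf.mp hy
    rw [inndiag_eq] at hy1
    obtain ⟨g, rfl⟩ := hy1
    rw [Subgroup.mem_centralizer_iff] at hy2
    obtain ⟨c, h, hh, rfl⟩ := hdesc g (hy2 _ rfl).symm
    refine ⟨⟨h, hh⟩, Subtype.ext ?_⟩
    change conjP h = conjP (_ * _)
    rw [map_mul, conjP_scalarGL, one_mul]
  have hker : Φ.ker = (Cfsg.Geo.scalars (Fin n) F).subgroupOf (Cfsg.GU n F q) := by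
    ext g
    rw [MonoidHom.mem_ker, Subgroup.mem_subgroupOf, Subtype.ext_iff, Cfsg.Geo.mem_scalars_iff]
    change conjP g.1 = 1 ↔ _
    constructor
    · intro hh
      obtain ⟨c, hc⟩ := scalar_of_conjP_eq_one hh
      refine ⟨Units.mk0 c ?_, hc⟩
      intro h0
      rw [h0, zero_smul] at hc
      exact g.1.ne_zero hc
    · rintro ⟨c, hc⟩
      exact conjP_of_scalar (c := (c : F)) hc
  exact ⟨((QuotientGroup.quotientMulEquivOfEq hker).symm.trans
    (QuotientGroup.quotientKerEquivOfSurjective Φ hsurj)).symm⟩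

theorem field_count [NeZero n] (hn : 2 ≤ n) {p f : ℕ} [Fact p.Prime]
    (hF : Fintype.card F = p ^ f) (σ : F ≃+* F) {F₀ : Type*} [Field F₀] [Fintype F₀]
    (hF₀ : Fintype.card F₀ = p ^ (f / orderOf σ)) :
    Nonempty (↥(Cfsg.inndiagPSL n F ⊓ Subgroup.centralizer {(fieldP σ : MulAut Pn)}) ≃*
      Matrix.ProjGenLinGroup (Fin n) F₀) ∧
    Cfsg.splitClassCount (Cfsg.inndiagPSL n F) (Cfsg.Inn Pn) (fieldP σ : MulAut Pn) =
      Nat.gcd n ((p ^ f - 1) / (p ^ (f / orderOf σ) - 1)) := by
  classical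
  obtain ⟨ι, hι⟩ := exists_fixed_embedding hF σ F₀ hF₀
  obtain ⟨he, hdesc⟩ := field_centralizer (n := n) σ ι hι
  refine ⟨he, ?_⟩
  let S : Subgroup Fˣ := (Units.map (ι : F₀ →* F)).range
  rw [split_count _ S ?_]
  · congr 1
    have h1 : Nat.card S = Nat.card F₀ˣ :=
      Nat.card_congr (MonoidHom.ofInjective (f := Units.map (ι : F₀ →* F))
        (Units.map_injective ι.injective)).toEquiv.symm
    rw [h1, Nat.card_units, Nat.card_units, Nat.card_eq_fintype_card, Nat.card_eq_fintype_card,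
      hF, hF₀]
  · apply le_antisymm
    · refine sup_le ?_ le_sup_right
      rintro _ ⟨g, hg, rfl⟩
      rw [SetLike.mem_coe, Subgroup.mem_comap, Subgroup.mem_centralizer_iff] at hg
      obtain ⟨c, h, rfl⟩ := hdesc g (hg _ rfl).symm
      rw [map_mul, det_scalarGL]
      refine mul_mem (Subgroup.mem_sup_right ⟨c, rfl⟩) (Subgroup.mem_sup_left
        ⟨Matrix.GeneralLinearGroup.det h, ?_⟩)
      apply Units.ext
      exact RingHom.map_det ι _
    · refine sup_le ?_ le_sup_right
      rintro _ ⟨t, rfl⟩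
      refine Subgroup.mem_sup_left ⟨dGL (Units.map (ι : F₀ →* F) t), ?_, det_dGL _⟩
      rw [SetLike.mem_coe, Subgroup.mem_comap, Subgroup.mem_centralizer_iff]
      rintro _ rfl
      refine ((commute_field_iff σ _).mpr ?_).symm.eq
      congr 1
      apply Units.ext
      change (Matrix.diagonal _).map σ = Matrix.diagonal _
      rw [Matrix.diagonal_map (map_zero σ)]
      congr 1
      funext i
      rcases eq_or_ne i 0 with rfl | hi
      · simp [(hι _).mpr ⟨(t : F₀), rfl⟩]
      · simp [hi]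

theorem graphField_count [NeZero n] (hn : 2 ≤ n) {σ : F ≃+* F} {q : ℕ}
    (hσ : Cfsg.Agent.Classical.IsUSigma q σ) :
    Cfsg.splitClassCount (Cfsg.inndiagPSL n F) (Cfsg.Inn Pn) (fieldP σ * itP : MulAut Pn) =
      Nat.gcd n (q - 1) := by
  classical
  obtain ⟨-, hdesc, hmem⟩ := graphField_centralizer (n := n) hσ
  let S : Subgroup Fˣ := (powMonoidHom (q + 1)).ker
  have hdvd : q + 1 ∣ Nat.card Fˣ := ⟨q - 1, by
    rw [Nat.card_units, Nat.card_eq_fintype_card, hσ.card, Small.Hermitian.sq_sub_one]⟩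
  rw [split_count _ S ?_]
  · congr 1
    rw [card_pow_ker hdvd, Nat.card_units, Nat.card_eq_fintype_card, hσ.card,
      Small.Hermitian.sq_sub_one, Nat.mul_div_cancel_left _ (Nat.succ_pos q)]
  · apply le_antisymm
    · refine sup_le ?_ le_sup_right
      rintro _ ⟨g, hg, rfl⟩
      rw [SetLike.mem_coe, Subgroup.mem_comap, Subgroup.mem_centralizer_iff] at hg
      obtain ⟨c, h, hh, rfl⟩ := hdesc g (hg _ rfl).symm
      rw [map_mul, det_scalarGL]
      refine mul_mem (Subgroup.mem_sup_right ⟨c, rfl⟩) (Subgroup.mem_sup_left ?_)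
      change (Matrix.GeneralLinearGroup.det h) ^ (q + 1) = 1
      apply Units.ext
      rw [Units.val_pow_eq_pow_val, Units.val_one, Matrix.GeneralLinearGroup.val_det_apply, pow_succ,
        ← hσ.apply_eq, mul_comm]
      have h1 := congrArg Matrix.det ((mem_GU_iff σ hσ.apply_eq h).mp hh)
      rw [Matrix.det_mul, Matrix.det_transpose, Matrix.det_one] at h1
      rw [RingEquiv.map_det]
      exact h1
    · refine sup_le ?_ le_sup_right
      intro t ht
      refine Subgroup.mem_sup_left ⟨dGL t, ?_, det_dGL _⟩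
      rw [SetLike.mem_coe, Subgroup.mem_comap, Subgroup.mem_centralizer_iff]
      rintro _ rfl
      refine (hmem _ ?_).symm.eq
      rw [mem_GU_iff σ hσ.apply_eq]
      change (Matrix.diagonal _)ᵀ * (Matrix.diagonal _).map σ = 1
      rw [Matrix.diagonal_transpose, Matrix.diagonal_map (map_zero σ), Matrix.diagonal_mul_diagonal,
        ← Matrix.diagonal_one]
      congr 1
      funext i
      rcases eq_or_ne i 0 with rfl | hi
      · have h1 : (t : F) ^ (q + 1) = 1 := by
          rw [← Units.val_pow_eq_pow_val]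
          exact congrArg Units.val ht
        simp only [Function.update_self, hσ.apply_eq]
        rw [← h1, pow_succ, mul_comm]
      · simp [hi]

end Cfsg.Agent.Small.PSLn
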