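import Mathlib
import Cfsg.Agent.Lib.Small.LocalBalance
import Cfsg.Agent.Lib.Small.Forms.MatrixForms
import Cfsg.Agent.Lib.Small.PSLn.Simple
import Cfsg.Agent.Lib.Small.PSLn.Centralizers

/-!
Local balance for non-inner-diagonal automorphisms of prime order of `PSL_n(q)`.
-/

set_option autoImplicit false
set_option linter.unusedSectionVars false

namespace Cfsg.Agent.Small.PSLn

open Matrix

variable {n : ℕ} {F : Type*} [Field F]

local notation "SLn" => Matrix.SpecialLinearGroup (Fin n) F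
local notation "Pn" => Matrix.ProjectiveSpecialLinearGroup (Fin n) F
local notation "Mn" => Matrix (Fin n) (Fin n) F

/-- A normal subgroup of `PSL_n` is trivial or contains all powers by the characteristic. -/
theorem psl_normal_pow (hn : 2 ≤ n) (r : ℕ) [CharP F r] (N : Subgroup Pn) [N.Normal] :
    N = ⊥ ∨ ∀ x : Pn, x ^ r ∈ N := by
  have : Nontrivial (Fin n) := Fin.nontrivial_iff_two_le.mpr hn
  by_cases hfix : MulAction.fixedPoints N (Projectivization F (Fin n → F)) = Set.univ
  · left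
    refine N.eq_bot_iff_forall.mpr fun g hg => ?_
    refine eq_of_smul_eq_smul (α := Projectivization F (Fin n → F)) fun x => ?_
    rw [one_smul]
    exact Set.eq_univ_iff_forall.mp hfix x ⟨g, hg⟩
  right
  have hle := MulAction.IwasawaStructure.commutator_le (iwasawa (F := F) hn) N hfix
  intro x
  apply hle
  obtain ⟨A, rfl⟩ := pr_surjective x
  rw [← Abelianization.ker_of, MonoidHom.mem_ker, map_pow]
  have h : (powMonoidHom r : Abelianization Pn →* Abelianization Pn).comp
      (Abelianization.of.comp pr) = 1 := by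
    refine MonoidHom.eq_of_eqOn_dense (Cfsg.Agent.Classical.sl_closure_transvections (F := F)) ?_
    rintro _ ⟨i, j, hij, c, rfl⟩
    have hpow : ∀ k : ℕ, (Matrix.SpecialLinearGroup.transvection hij c) ^ k =
        Matrix.SpecialLinearGroup.transvection hij ((k : F) * c) := by
      intro k
      induction k with
      | zero =>
        apply Subtype.ext
        simp [Matrix.SpecialLinearGroup.transvection_coe]
      | succ k ih =>
        rw [pow_succ, ih, Nat.cast_succ, add_mul, one_mul,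
          Matrix.SpecialLinearGroup.transvection_add]
    change Abelianization.of (pr (Matrix.SpecialLinearGroup.transvection hij c)) ^ r = 1
    rw [← map_pow, ← map_pow, hpow, CharP.cast_eq_zero, zero_mul,
      show Matrix.SpecialLinearGroup.transvection hij (0 : F) = 1 from
        Subtype.ext (by simp [Matrix.SpecialLinearGroup.transvection_coe]), map_one, map_one]
  exact DFunLike.congr_fun h A

theorem conj_injective [NeZero n] : Function.Injective (MulAut.conj : Pn → MulAut Pn) := by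
  refine (injective_iff_map_eq_one MulAut.conj).mpr fun y hy => ?_
  obtain ⟨A, rfl⟩ := pr_surjective y
  rw [← conjP_toGL] at hy
  obtain ⟨c, hc⟩ := scalar_of_conjP_eq_one hy
  rw [← map_one (pr : SLn →* Pn), pr_eq_iff]
  refine ⟨c, ?_, hc⟩
  have hd := A.2
  rw [show A.1 = c • (1 : Mn) from hc, Matrix.det_smul, Matrix.det_one, mul_one,
    Fintype.card_fin] at hd
  exact hd

theorem ofAdd_one_ne : Multiplicative.ofAdd (1 : ZMod 2) ≠ 1 := by decide

theorem orderOf_ofAdd_one : orderOf (Multiplicative.ofAdd (1 : ZMod 2)) = 2 :=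
  orderOf_eq_prime (by decide) ofAdd_one_ne

/-! ### Field type -/

section Field

variable (σ : F ≃+* F)

/-- The fixed field. -/
abbrev Fx : Subfield F := RingHom.eqLocusField σ.toRingHom (RingHom.id F)

theorem map_center_le [NeZero n] : Subgroup.center (Matrix.SpecialLinearGroup (Fin n) (Fx σ)) ≤
    ((pr : SLn →* Pn).comp (Matrix.SpecialLinearGroup.map (Fx σ).subtype)).ker := by
  intro z hz
  obtain ⟨c, hc, hzc⟩ := Matrix.SpecialLinearGroup.mem_center_iff.mp hz
  rw [MonoidHom.mem_ker, MonoidHom.comp_apply, ← map_one (pr : SLn →* Pn), pr_eq_iff]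
  refine ⟨c, ?_, ?_⟩
  · rw [Fintype.card_fin] at hc
    exact_mod_cast congrArg Subtype.val hc
  · change z.1.map (Fx σ).subtype = _
    rw [← hzc]
    ext a b
    simp [Matrix.diagonal_apply, Matrix.one_apply, apply_ite Subtype.val]

/-- The subgroup defined over the fixed field. -/
noncomputable def Phi [NeZero n] : Matrix.ProjectiveSpecialLinearGroup (Fin n) (Fx σ) →* Pn :=
  QuotientGroup.lift _ _ (map_center_le σ)

theorem Phi_pr [NeZero n] (A : Matrix.SpecialLinearGroup (Fin n) (Fx σ)) :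
    Phi σ (pr A) = (pr (Matrix.SpecialLinearGroup.map (Fx σ).subtype A) : Pn) := rfl

theorem fieldSL_mapSL (A : Matrix.SpecialLinearGroup (Fin n) (Fx σ)) :
    fieldSL σ (Matrix.SpecialLinearGroup.map (Fx σ).subtype A) =
      Matrix.SpecialLinearGroup.map (Fx σ).subtype A :=
  Subtype.ext (Matrix.ext fun a b => (A.1 a b).2)

theorem fixed_lift {w : SLn} (hw : fieldSL σ w = w) :
    ∃ A, Matrix.SpecialLinearGroup.map (Fx σ).subtype A = w := by
  have h : ∀ a b, σ (w.1 a b) = w.1 a b := fun a b => by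
    have h1 := congrArg (fun g : SLn => g.1 a b) hw
    simpa [fieldSL_val] using h1
  refine ⟨⟨Matrix.of fun a b => ⟨w.1 a b, h a b⟩, (Fx σ).subtype.injective ?_⟩, Subtype.ext rfl⟩
  rw [RingHom.map_det, map_one]
  exact w.2

/-- Semilinear automorphisms, possibly composed with inverse-transpose, fixing the root elements over
the fixed field. -/
theorem centralizer_fixed [Finite F] (hn : 2 ≤ n) {h : GL (Fin n) F} {τ : F ≃+* F}
    {ε : Multiplicative (ZMod 2)} (hε : n = 2 → ε = 1)
    (hfix : ∀ (i j : Fin n) (t : F), i ≠ j → σ t = t →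
      (conjP h * fieldP τ * gam ε : MulAut Pn) (xx i j t) = xx i j t) :
    (conjP h * fieldP τ * gam ε : MulAut Pn) ∈ Subgroup.zpowers (fieldP σ : MulAut Pn) := by
  have : NeZero n := ⟨by omega⟩
  rcases two_cases ε with rfl | rfl
  swap
  · exfalso
    have hn3 : 3 ≤ n := by
      rcases eq_or_lt_of_le hn with h2 | h2
      · exact absurd (hε h2.symm) (by decide)
      · exact h2
    have key : ∀ (i j : Fin n), i ≠ j →
        h.val * Matrix.single j i (1 : F) * h⁻¹.val = -Matrix.single i j 1 := by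
      intro i j hij
      have h1 := hfix i j 1 hij (map_one σ)
      rw [gam_one_eq, MulAut.mul_apply, MulAut.mul_apply, itP_xx hij, fieldP_xx τ (Ne.symm hij),
        map_neg, map_one, xx_eq (Ne.symm hij), xx_eq hij, conjP_apply, pr_eq_iff] at h1
      obtain ⟨c, -, h1⟩ := h1
      rw [conjSL_val, Matrix.SpecialLinearGroup.transvection_coe,
        Matrix.SpecialLinearGroup.transvection_coe, mul_add, mul_one, add_mul, Units.mul_inv] at h1
      have hc := unipotent_smul_eq (by
          simp only [mul_assoc, Units.inv_mul_cancel_left]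
          rw [← mul_assoc (Matrix.single j i (-1 : F)), show Matrix.single j i (-1 : F) *
            Matrix.single j i (-1 : F) = 0 by simp [hij], zero_mul, mul_zero])
        (by simp [Ne.symm hij]) h1
      rw [hc, one_smul, add_right_inj, ← Matrix.single_neg, mul_neg, neg_mul] at h1
      rw [← h1, neg_neg]
    let i : Fin n := ⟨0, by omega⟩
    obtain ⟨j, hji, -⟩ := ne_third hn3 i i
    obtain ⟨k, hki, hkj⟩ := ne_third hn3 i j
    have hprod : h.val * Matrix.single j i (1 : F) * h⁻¹.val *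
        (h.val * Matrix.single i k 1 * h⁻¹.val) = h.val * Matrix.single j k 1 * h⁻¹.val := by
      simp only [mul_assoc, Units.inv_mul_cancel_left]
      rw [← mul_assoc (Matrix.single j i (1 : F)), Matrix.single_mul_single_same, mul_one]
    rw [key i j (Ne.symm hji), key k i hki, key k j hkj] at hprod
    have := congrFun (congrFun hprod k) j
    simp [Ne.symm hkj] at this
  rw [map_one, mul_one] at hfix ⊢
  have key : ∀ (i j : Fin n), i ≠ j → ∀ t : F, σ t = t →
      h.val * Matrix.single i j (τ t) * h⁻¹.val = Matrix.single i j t := by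
    intro i j hij t ht
    have h1 := hfix i j t hij ht
    rw [MulAut.mul_apply, fieldP_xx τ hij, xx_eq hij, xx_eq hij, conjP_apply, pr_eq_iff] at h1
    obtain ⟨c, -, h1⟩ := h1
    rw [conjSL_val, Matrix.SpecialLinearGroup.transvection_coe,
      Matrix.SpecialLinearGroup.transvection_coe, mul_add, mul_one, add_mul, Units.mul_inv] at h1
    have hc := unipotent_smul_eq (by
        simp only [mul_assoc, Units.inv_mul_cancel_left]
        rw [← mul_assoc (Matrix.single i j (τ t)), show Matrix.single i j (τ t) *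
          Matrix.single i j (τ t) = 0 by simp [Ne.symm hij], zero_mul, mul_zero])
      (by simp [Ne.symm hij]) h1
    rwa [hc, one_smul, add_right_inj] at h1
  obtain ⟨cc, hcc⟩ : h.val ∈ Set.range (Matrix.scalar (Fin n)) := by
    rw [Matrix.mem_range_scalar_iff_commute_single]
    intro i j hij
    have h1 := congrArg (· * h.val) (key i j hij 1 (map_one σ))
    simp only [map_one, mul_assoc, Units.inv_mul, mul_one] at h1
    exact h1.symm
  rw [scalar_eq_smul] at hcc
  rw [conjP_of_scalar hcc.symm, one_mul]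
  obtain ⟨k, hk⟩ : τ ∈ Subgroup.zpowers σ := LocalBalance.mem_zpowers_of_fixes σ τ fun t ht => by
    have hij : (⟨0, by omega⟩ : Fin n) ≠ ⟨1, by omega⟩ := Fin.ne_of_val_ne (by simp)
    have h1 := hfix _ _ t hij ht
    rw [MulAut.mul_apply, fieldP_xx τ hij, conjP_of_scalar hcc.symm, MulAut.one_apply] at h1
    exact xx_inj hij h1
  subst hk
  exact ⟨k, (map_zpow fieldP σ k).symm⟩

/-- An element of order two over any field of odd characteristic. -/
theorem exists_invol (hn : 2 ≤ n) (h2 : (2 : F) ≠ 0) :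
    ∃ A : SLn, (∀ τ : F ≃+* F, fieldSL τ A = A) ∧ (pr A : Pn) ≠ 1 ∧ (pr (A * A) : Pn) = 1 := by
  have : NeZero n := ⟨by omega⟩
  rcases eq_or_lt_of_le hn with rfl | hn3
  · obtain ⟨A, hA⟩ : ∃ A : Matrix.SpecialLinearGroup (Fin 2) F, A.1 = !![0, 1; -1, 0] :=
      ⟨⟨!![0, 1; -1, 0], by simp [Matrix.det_fin_two]⟩, rfl⟩
    refine ⟨A, fun τ => ?_, ?_, ?_⟩
    · apply Subtype.ext
      rw [fieldSL_val, hA]
      ext a b
      fin_cases a <;> fin_cases b <;> simp
    · rw [← map_one (pr : Matrix.SpecialLinearGroup (Fin 2) F →* _), Ne, pr_eq_iff]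
      rintro ⟨ε, -, h⟩
      rw [hA] at h
      have := congrFun (congrFun h 0) 1
      simp at this
    · rw [← map_one (pr : Matrix.SpecialLinearGroup (Fin 2) F →* _), pr_eq_iff]
      refine ⟨-1, by ring, ?_⟩
      rw [Matrix.SpecialLinearGroup.coe_mul, hA]
      ext a b
      fin_cases a <;> fin_cases b <;> simp [Matrix.mul_apply, Fin.sum_univ_two]
  · let i : Fin n := ⟨0, by omega⟩
    let j : Fin n := ⟨1, by omega⟩
    let k : Fin n := ⟨2, by omega⟩
    let d : Fin n → F := fun a => if a = i ∨ a = j then -1 else 1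
    have hd : (Matrix.diagonal d).det = 1 := by
      rw [Matrix.det_diagonal, ← Finset.prod_subset (Finset.subset_univ {i, j})
        (fun x _ hx => by simp only [Finset.mem_insert, Finset.mem_singleton] at hx; simp [d, hx]),
        Finset.prod_pair (by simp [i, j])]
      simp [d]
    obtain ⟨A, hA⟩ : ∃ A : SLn, A.1 = Matrix.diagonal d := ⟨⟨_, hd⟩, rfl⟩
    refine ⟨A, fun τ => ?_, ?_, ?_⟩
    · apply Subtype.ext
      rw [fieldSL_val, hA]
      ext a b
      simp [Matrix.diagonal_apply, d, apply_ite τ]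
    · rw [← map_one (pr : SLn →* Pn), Ne, pr_eq_iff]
      rintro ⟨ε, -, h⟩
      rw [hA] at h
      have h1 : d i = ε := by
        simpa [Matrix.one_apply] using congrFun (congrFun h i) i
      have h3 : d k = ε := by
        simpa [Matrix.one_apply] using congrFun (congrFun h k) k
      simp only [d, i, j, k, Fin.mk.injEq] at h1 h3
      norm_num at h1 h3
      rw [← h1] at h3
      exact h2 (by linear_combination h3)
    · rw [← map_one (pr : SLn →* Pn)]
      congr 1
      apply Subtype.ext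
      rw [Matrix.SpecialLinearGroup.coe_mul, hA, Matrix.SpecialLinearGroup.coe_one,
        Matrix.diagonal_mul_diagonal, ← Matrix.diagonal_one]
      congr 1
      funext a
      simp only [d]
      split_ifs <;> ring

variable [Fintype F]

/-- The core of the centralizer of a field automorphism of order `p` dividing the fixed points. -/
theorem field_core (hn : 2 ≤ n) {p r : ℕ} [Fact p.Prime] [Fact r.Prime] [CharP F r] (hpr : p ≠ r)
    (hσ : orderOf σ = p) (hel : ∃ k : Pn, fieldP σ k = k ∧ orderOf k = p)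
    (L : Subgroup (MulAut Pn)) (hL : ∀ l ∈ L, Commute l (fieldP σ))
    (hL2 : ∀ k, fieldP σ k = k → ∀ l ∈ L, MulAut.conj k * l * (MulAut.conj k)⁻¹ ∈ L)
    (hcop : (Nat.card L).Coprime p) : L = ⊥ := by
  classical
  have : NeZero n := ⟨by omega⟩
  have hp : p.Prime := Fact.out
  have hr : r.Prime := Fact.out
  refine LocalBalance.core_trivial ((Nat.coprime_primes hr hp).mpr (Ne.symm hpr)) (fieldP σ)
    (by rw [orderOf_injective fieldP (fieldP_injective hn) σ, hσ]) conj_injective (Phi σ) ?_ ?_ ?_ ?_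
    ?_ L hL hL2 hcop
  · intro x
    obtain ⟨A, rfl⟩ := pr_surjective x
    rw [Phi_pr, fieldP_apply, fieldSL_mapSL]
  · intro k hk x
    obtain ⟨A, rfl⟩ := pr_surjective x
    obtain ⟨w, rfl⟩ := pr_surjective k
    rw [fieldP_apply] at hk
    obtain ⟨ε, -, hw⟩ := (pr_eq_iff _ _).mp hk
    set Am := Matrix.SpecialLinearGroup.map (Fx σ).subtype A with hAm
    obtain ⟨B, hB⟩ := fixed_lift σ (w := w * Am * w⁻¹) (by
      have hz : w⁻¹ * fieldSL σ w ∈ Subgroup.center SLn := by
        rw [← QuotientGroup.eq_one_iff, ← pr_apply, map_mul, map_inv, hk, inv_mul_cancel]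
      set z := w⁻¹ * fieldSL σ w with hzdef
      rw [map_mul, map_mul, map_inv, hAm, fieldSL_mapSL,
        show fieldSL σ w = w * z by rw [hzdef, mul_inv_cancel_left], _root_.mul_inv_rev, ← hAm,
        mul_assoc w z, ← Subgroup.mem_center_iff.mp hz Am]
      group)
    exact ⟨pr B, by rw [Phi_pr, Phi_pr, hB, map_mul, map_mul, map_inv]⟩
  · intro N hN
    rcases psl_normal_pow (F := Fx σ) hn r N with h | h
    · exact Or.inl (by rw [h]; exact bot_le)
    · exact Or.inr h
  · obtain ⟨k, hk, hko⟩ := hel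
    rcases eq_or_ne p 2 with hp2 | hp2
    · have h2 : (2 : Fx σ) ≠ 0 := fun h => hpr (by
        rw [hp2]
        exact ((Nat.prime_dvd_prime_iff_eq hr Nat.prime_two).mp
          ((CharP.cast_eq_zero_iff (Fx σ) r 2).mp (by exact_mod_cast h))).symm)
      obtain ⟨A, -, hA1, hA2⟩ := exists_invol (F := Fx σ) hn h2
      refine ⟨pr A, ?_⟩
      rw [hp2]
      have hinj : ∀ z, Phi (n := n) σ z = 1 → z = 1 := by
        intro z hz
        obtain ⟨B, rfl⟩ := pr_surjective z
        rw [Phi_pr, ← map_one (pr : SLn →* Pn), pr_eq_iff] at hz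
        obtain ⟨c, hc, hB⟩ := hz
        have hcx : σ c = c := by
          have h1 : σ ((Matrix.SpecialLinearGroup.map (Fx σ).subtype B).1 0 0) =
              (Matrix.SpecialLinearGroup.map (Fx σ).subtype B).1 0 0 := (B.1 0 0).2
          rw [hB] at h1
          simpa [Matrix.one_apply] using h1
        rw [← map_one (pr : Matrix.SpecialLinearGroup (Fin n) (Fx σ) →* _), pr_eq_iff]
        refine ⟨⟨c, hcx⟩, Subtype.ext (by simpa using hc), ?_⟩
        ext a b
        have h1 := congrFun (congrFun hB a) b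
        simpa [Matrix.one_apply, apply_ite Subtype.val] using h1
      refine orderOf_eq_prime ?_ (fun h => hA1 (hinj _ h))
      rw [← map_pow, pow_two, ← map_mul pr, hA2, map_one]
    by_cases hpn : p ∣ n
    · obtain ⟨π, hπ⟩ := exists_prime_orderOf_dvd_card' (G := Equiv.Perm (Fin n)) p (by
        rw [Nat.card_perm, Nat.card_eq_fintype_card, Fintype.card_fin]
        exact Nat.dvd_factorial hp.pos (Nat.le_of_dvd (by omega) hpn))
      have hsign : Equiv.Perm.sign π = 1 := by
        obtain ⟨j, hj⟩ := hp.odd_of_ne_two hp2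
        have h1 := congrArg Equiv.Perm.sign (pow_orderOf_eq_one π)
        rw [map_pow, hπ, hj, pow_succ, pow_mul, Int.units_sq, one_pow, one_mul, map_one] at h1
        exact h1
      let A : Matrix.SpecialLinearGroup (Fin n) (Fx σ) :=
        ⟨π.permMatrix (Fx σ), by rw [Matrix.det_permutation, hsign]; simp⟩
      have hpow : ∀ j : ℕ, (A ^ j).1 = (π ^ j).permMatrix (Fx σ) := by
        intro j
        induction j with
        | zero => simp
        | succ j ih => rw [pow_succ', Matrix.SpecialLinearGroup.coe_mul, ih, pow_succ,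
            Matrix.permMatrix_mul]
      refine ⟨pr A, orderOf_eq_prime ?_ ?_⟩
      · rw [← map_pow, ← map_pow, show A ^ p = 1 from Subtype.ext (by
          rw [hpow, ← hπ, pow_orderOf_eq_one]; simp), map_one, map_one]
      · intro h
        rw [Phi_pr, ← map_one (pr : SLn →* Pn), pr_eq_iff] at h
        obtain ⟨c, -, hc⟩ := h
        obtain ⟨i, hi⟩ : ∃ i, π i ≠ i := by
          by_contra hall
          push Not at hall
          have h1 : π = 1 := Equiv.ext hall
          rw [h1, orderOf_one] at hπ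
          exact hp.one_lt.ne hπ
        have h1 : (Fx σ).subtype (π.permMatrix (Fx σ) i (π i)) = (c • (1 : Mn)) i (π i) :=
          congrFun (congrFun hc i) (π i)
        simp [Equiv.Perm.permMatrix, PEquiv.toMatrix, Ne.symm hi] at h1
    · obtain ⟨w, rfl⟩ := pr_surjective k
      have hw := (pr_eq_iff _ _).mp ((fieldP_apply σ w).symm.trans hk)
      obtain ⟨ε, hε, hw⟩ := hw
      obtain ⟨B, hB⟩ := fixed_lift σ (w := w ^ n) (by
        rw [map_pow]
        apply Subtype.ext
        rw [Matrix.SpecialLinearGroup.coe_pow, Matrix.SpecialLinearGroup.coe_pow, hw, smul_pow, hε,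
          one_smul])
      refine ⟨pr B, ?_⟩
      rw [Phi_pr, hB, map_pow, orderOf_pow, hko, (hp.coprime_iff_not_dvd.mpr hpn).gcd_eq_one,
        Nat.div_one]
  · intro β hβ hfix
    obtain ⟨h, τ, ε, hε, rfl⟩ := aut_decomp_all hn β
    refine centralizer_fixed σ hn hε fun i j t hij ht => ?_
    have hxx : xx i j t = Phi σ (pr (Matrix.SpecialLinearGroup.transvection hij
        (⟨t, ht⟩ : Fx σ))) := by
      rw [Phi_pr, xx_eq hij]
      congr 1
      apply Subtype.ext
      ext a b
      simp [Matrix.SpecialLinearGroup.transvection_coe, Matrix.single_apply, Matrix.one_apply,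
        apply_ite Subtype.val]
    rw [hxx]
    exact hfix _

end Field

/-! ### Graph and graph-field type -/

section Graph

variable [Fintype F]

/-- Conjugation of a matrix through the linear-automorphism equivalence. -/
theorem conjP_lEquiv_fix (d : SLn) (x : MulAut Pn)
    (h : Commute (conjP (Matrix.SpecialLinearGroup.toGL d)) x) [NeZero n] :
    x (pr d) = pr d := by
  apply conj_injective
  rw [conjP_toGL] at h
  have h1 : MulAut.conj (x (pr d)) = x * MulAut.conj (pr d) * x⁻¹ := by ext z; simp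
  rw [h1, ← h.eq, mul_inv_cancel_right]

set_option maxHeartbeats 1000000 in
/-- The core of the centralizer of an involution of graph or graph-field type is trivial. -/
theorem graph_core (hn : 3 ≤ n) (h2 : (2 : F) ≠ 0) {r : ℕ} [Fact r.Prime] [CharP F r]
    (g : GL (Fin n) F) (σ : F ≃+* F)
    (hx2 : (conjP g * fieldP σ * itP : MulAut Pn) * (conjP g * fieldP σ * itP) = 1)
    (hσ2 : σ * σ = 1) (L : Subgroup (MulAut Pn))
    (hL : ∀ l ∈ L, Commute l (conjP g * fieldP σ * itP))
    (hL2 : ∀ k, (conjP g * fieldP σ * itP : MulAut Pn) k = k → ∀ l ∈ L,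
      MulAut.conj k * l * (MulAut.conj k)⁻¹ ∈ L)
    (hcop : (Nat.card L).Coprime 2) : L = ⊥ := by
  classical
  have : NeZero n := ⟨by omega⟩
  have hinv : ∀ x, σ (σ x) = x := fun x => DFunLike.congr_fun hσ2 x
  set x : MulAut Pn := conjP g * fieldP σ * itP with hx
  -- the defining relation of `g`
  have h1 : conjP (g * glField σ (glIt g)) = (1 : MulAut Pn) := by
    have h2' := decomp_mul (n := n) (F := F) g g σ σ (Multiplicative.ofAdd 1) (Multiplicative.ofAdd 1)
    rw [gam_one_eq, ← hx, hx2, hσ2, show (Multiplicative.ofAdd (1 : ZMod 2)) *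
      Multiplicative.ofAdd 1 = 1 by decide, map_one fieldP, map_one gam, mul_one, mul_one, glGam,
      if_neg (by decide)] at h2'
    exact h2'.symm
  obtain ⟨c, hc⟩ := scalar_of_conjP_eq_one h1
  have hgc : (g : Mn) = c • ((g : Mn).map σ)ᵀ := by
    have h2' : (g : Mn) * ((g⁻¹ : GL (Fin n) F).val.transpose).map σ * ((g : Mn).map σ)ᵀ =
        (c • (1 : Mn)) * ((g : Mn).map σ)ᵀ := by
      rw [← hc, Units.val_mul, glField_val, glIt_val]
    rw [Matrix.mul_assoc, Matrix.transpose_map, ← Matrix.transpose_mul, ← map_mul' σ, Units.mul_inv,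
      map_one', Matrix.transpose_one, Matrix.mul_one, Matrix.smul_mul, Matrix.one_mul] at h2'
    exact h2'
  have hcc : c * σ c = 1 := by
    have h2' : (g : Mn) = (c * σ c) • (g : Mn) := by
      conv_lhs => rw [hgc]
      conv_lhs => rw [hgc]
      ext i j
      simp [Matrix.smul_apply, map_mul, hinv, mul_assoc]
    by_contra hne
    have h3 : (c * σ c - 1) • (g : Mn) = 0 := by rw [sub_smul, ← h2', one_smul, sub_self]
    rw [smul_eq_zero, or_iff_right (sub_ne_zero.mpr hne)] at h3
    exact g.ne_zero h3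
  -- a normalised form
  obtain ⟨μ, hμ0, ε, hε, hμ⟩ : ∃ μ : F, μ ≠ 0 ∧ ∃ ε : F,
      (ε = 1 ∨ (σ = 1 ∧ ε = -1)) ∧ μ * c = ε * σ μ := by
    by_cases hσ1 : σ = 1
    · subst hσ1
      refine ⟨1, one_ne_zero, c, ?_, by rw [map_one, mul_one, one_mul]⟩
      exact (mul_self_eq_one_iff.mp hcc).imp id fun h => ⟨rfl, h⟩
    · have hord : orderOf σ = 2 := orderOf_eq_prime (by rw [pow_two]; exact hσ2) hσ1
      obtain ⟨b, hb0, hb⟩ := exists_div_of_norm_one σ (x := c) (by
        rw [hord, Finset.prod_range_succ, Finset.prod_range_one, pow_zero, pow_one]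
        exact hcc)
      refine ⟨b⁻¹, inv_ne_zero hb0, 1, Or.inl rfl, ?_⟩
      have hσb : σ b ≠ 0 := (map_ne_zero σ).mpr hb0
      rw [map_inv₀]
      field_simp
      exact hb
  set H₀ : GL (Fin n) F := scalarGL (Units.mk0 μ hμ0) * g with hH₀
  have hH₀v : (H₀ : Mn) = μ • (g : Mn) := by
    rw [hH₀, Units.val_mul, show (scalarGL (n := n) (Units.mk0 μ hμ0) : Mn) = μ • (1 : Mn) from
      scalar_eq_smul μ, Matrix.smul_mul, Matrix.one_mul]
  have hH₀P : conjP H₀ = (conjP g : MulAut Pn) := by rw [hH₀, map_mul, conjP_scalarGL, one_mul]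
  have hH₀sym : (H₀ : Mn) = ε • ((H₀ : Mn).map σ)ᵀ := by
    rw [hH₀v]
    conv_lhs => rw [hgc, smul_smul, hμ]
    ext i j
    simp [mul_assoc]
  set K : Mn := (H₀⁻¹ : GL (Fin n) F).val with hK
  have hεε : ε * ε = 1 := by rcases hε with rfl | ⟨-, rfl⟩ <;> ring
  have hKsym : (K.map σ)ᵀ = ε • K := by
    have h3 : (K.map σ)ᵀ * ((H₀ : Mn).map σ)ᵀ = 1 := by
      rw [← Matrix.transpose_mul, ← map_mul' σ, hK, Units.mul_inv, map_one', Matrix.transpose_one]
    have h4 : ((H₀ : Mn).map σ)ᵀ = ε • (H₀ : Mn) := by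
      conv_rhs => rw [hH₀sym, smul_smul, hεε, one_smul]
    rw [h4, Matrix.mul_smul] at h3
    have h5 := congrArg (fun M => ε • (M * K)) h3
    simp only [Matrix.smul_mul, smul_smul, hεε, one_smul, Matrix.mul_assoc, hK, Units.mul_inv,
      Matrix.mul_one, Matrix.one_mul] at h5
    exact h5
  -- the form
  let B : (Fin n → F) → (Fin n → F) → F := fun u v => (σ ∘ u) ⬝ᵥ (K *ᵥ v)
  have hBadd : ∀ u v w, B u (v + w) = B u v + B u w := fun u v w => by
    simp only [B, Matrix.mulVec_add, dotProduct_add]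
  have hBsmul : ∀ (a : F) u v, B u (a • v) = a * B u v := fun a u v => by
    simp only [B, Matrix.mulVec_smul, dotProduct_smul, smul_eq_mul]
  have hBsmulL : ∀ (a : F) u v, B (a • u) v = σ a * B u v := fun a u v => by
    simp only [B]
    rw [show σ ∘ (a • u) = σ a • (σ ∘ u) from funext fun k => by simp, smul_dotProduct, smul_eq_mul]
  have hBsymm : ∀ u v, σ (B u v) = ε * B v u := fun u v => by
    change (σ : F →+* F) ((σ ∘ u) ⬝ᵥ (K *ᵥ v)) = _
    rw [RingHom.map_dotProduct, show (σ : F →+* F) ∘ (σ ∘ u) = u from funext fun k => hinv _,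
      show (σ : F →+* F) ∘ (K *ᵥ v) = K.map σ *ᵥ (σ ∘ v) from
        funext fun k => RingHom.map_mulVec (σ : F →+* F) K v k,
      dotProduct_comm, ← Matrix.vecMul_transpose, ← Matrix.dotProduct_mulVec, hKsym,
      Matrix.smul_mulVec, dotProduct_smul, smul_eq_mul]
  have hBnd : ∀ u, u ≠ 0 → ∃ v, B u v ≠ 0 := by
    intro u hu
    obtain ⟨k, hk⟩ : ∃ k, u k ≠ 0 := by
      by_contra hall; push Not at hall; exact hu (funext hall)
    refine ⟨(H₀ : Mn) *ᵥ Pi.single k 1, ?_⟩
    simp only [B, Matrix.mulVec_mulVec, hK, Units.inv_mul, Matrix.one_mulVec,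
      dotProduct_single, mul_one, Function.comp_apply]
    exact (map_ne_zero σ).mpr hk
  have hBgram : ∀ (a : Mn) u v, B (a *ᵥ u) (a *ᵥ v) = (σ ∘ u) ⬝ᵥ (((a.map σ)ᵀ * K * a) *ᵥ v) := by
    intro a u v
    simp only [B]
    rw [show σ ∘ (a *ᵥ u) = a.map σ *ᵥ (σ ∘ u) from
      funext fun k => RingHom.map_mulVec (σ : F →+* F) a u k, Matrix.mul_assoc,
      ← Matrix.mulVec_mulVec, Matrix.dotProduct_mulVec _ (a.map σ)ᵀ, Matrix.vecMul_transpose,
      Matrix.mulVec_mulVec]
  -- the isometries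
  let G : Subgroup (GL (Fin n) F) :=
    { carrier := {a | ∀ u v, B (a.val *ᵥ u) (a.val *ᵥ v) = B u v}
      one_mem' := fun u v => by rw [Units.val_one, Matrix.one_mulVec, Matrix.one_mulVec]
      mul_mem' := fun {a b} ha hb u v => by
        rw [Units.val_mul, ← Matrix.mulVec_mulVec, ← Matrix.mulVec_mulVec, ha, hb]
      inv_mem' := fun {a} ha u v => by
        conv_rhs => rw [← Matrix.one_mulVec u, ← Matrix.one_mulVec v, ← Units.mul_inv a,
          ← Matrix.mulVec_mulVec, ← Matrix.mulVec_mulVec, ha] }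
  have hmat : ∀ (a : Mn) (b : Mn), (∀ u v, (σ ∘ u) ⬝ᵥ (a *ᵥ v) = (σ ∘ u) ⬝ᵥ (b *ᵥ v)) → a = b := by
    intro a b hab
    ext i j
    have h := hab (Pi.single i 1) (Pi.single j 1)
    rw [show σ ∘ (Pi.single i (1 : F) : Fin n → F) = Pi.single i 1 from
      funext fun k => by simp [Pi.single_apply, apply_ite σ]] at h
    simpa using h
  have hGP : ∀ a : G, Commute (conjP a.1) x := by
    rintro ⟨a, ha⟩
    have e1 : ((a : Mn).map σ)ᵀ * K * (a : Mn) = K :=
      hmat _ _ fun u v => (hBgram _ u v).symm.trans (ha u v)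
    have e2 : glField σ (glIt a) = H₀⁻¹ * a * H₀ := by
      apply Units.ext
      rw [Units.val_mul, Units.val_mul, glField_val, glIt_val, ← hK]
      have e3 : ((a⁻¹ : GL (Fin n) F).val.transpose).map σ * ((a : Mn).map σ)ᵀ = 1 := by
        rw [Matrix.transpose_map, ← Matrix.transpose_mul, ← map_mul' σ, Units.mul_inv, map_one',
          Matrix.transpose_one]
      have e4 : ((a⁻¹ : GL (Fin n) F).val.transpose).map σ * K = K * (a : Mn) := by
        conv_lhs => rw [← e1]
        rw [← Matrix.mul_assoc, ← Matrix.mul_assoc, e3, Matrix.one_mul]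
      rw [← e4, hK, Matrix.mul_assoc, Units.inv_mul, Matrix.mul_one]
    rw [hx, ← hH₀P, Commute, SemiconjBy]
    symm
    rw [mul_assoc, itP_conjP, ← mul_assoc, mul_assoc (conjP H₀), fieldP_conjP, e2,
      ← mul_assoc (conjP H₀), ← map_mul, ← mul_assoc, mul_inv_cancel_left, map_mul]
    simp only [mul_assoc]
  have hSL : ∀ (d : SLn), Matrix.SpecialLinearGroup.toGL d ∈ G → x (pr d) = pr d := fun d hd =>
    conjP_lEquiv_fix d x (hGP ⟨_, hd⟩)
  -- semilinear maps commuting with enough isometries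
  let mkφ : GL (Fin n) F → (F ≃+* F) → (Fin n → F) → (Fin n → F) :=
    fun a τ v => a.val *ᵥ (τ ∘ v)
  have hφadd : ∀ a τ u v, mkφ a τ (u + v) = mkφ a τ u + mkφ a τ v := fun a τ u v => by
    simp only [mkφ]; rw [← Matrix.mulVec_add]; congr 1; funext k; simp
  have hφsmul : ∀ a (τ : F ≃+* F) (b : F) u, mkφ a τ (b • u) = τ b • mkφ a τ u := fun a τ b u => by
    simp only [mkφ]; rw [← Matrix.mulVec_smul]; congr 1; funext k; simp
  have hφinj : ∀ a τ, Function.Injective (mkφ a τ) := fun a τ u v h => by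
    have h3 := congrArg (fun z => (a⁻¹ : GL (Fin n) F).val *ᵥ z) h
    simp only [mkφ, Matrix.mulVec_mulVec, Units.inv_mul, Matrix.one_mulVec] at h3
    exact funext fun k => τ.injective (congrFun h3 k)
  have hcomm : ∀ a τ (d : SLn), (conjP a * fieldP τ : MulAut Pn) (pr d) = pr d →
      ∃ k : F, ∀ u, mkφ a τ (d.1 *ᵥ u) = k • (d.1 *ᵥ mkφ a τ u) := by
    intro a τ d hd
    rw [MulAut.mul_apply, fieldP_apply, conjP_apply, pr_eq_iff] at hd
    obtain ⟨k, -, hk⟩ := hd
    refine ⟨k, fun u => ?_⟩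
    rw [conjSL_val, fieldSL_val] at hk
    simp only [mkφ]
    rw [show τ ∘ (d.1 *ᵥ u) = d.1.map τ *ᵥ (τ ∘ u) from
      funext fun l => RingHom.map_mulVec (τ : F →+* F) d.1 u l, Matrix.mulVec_mulVec,
      Matrix.mulVec_mulVec, ← Matrix.smul_mulVec, ← Matrix.smul_mul, ← hk, Matrix.mul_assoc,
      Units.inv_mul, Matrix.mul_one]
  have hfinish : ∀ a (τ : F ≃+* F), (∀ b, (τ : F →+* F) b = b) →
      (∃ l : F, ∀ u, mkφ a τ u = l • u) → (conjP a * fieldP τ : MulAut Pn) = 1 := by
    intro a τ hτ hl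
    obtain ⟨l, hl⟩ := hl
    obtain rfl : τ = 1 := RingEquiv.ext hτ
    rw [map_one, mul_one]
    refine conjP_of_scalar (c := l) (Matrix.ext_of_mulVec_single fun j => ?_)
    rw [Matrix.smul_mulVec, Matrix.one_mulVec, ← hl]
    rfl
  have hlift : ∀ d : SLn, ∀ e : (Fin n → F) ≃ₗ[F] (Fin n → F),
      d.1 = (Forms.lEquiv.symm e).val → ∀ u, d.1 *ᵥ u = e u := fun d e h u => by
    rw [h, Forms.lEquiv_symm_mulVec]
  have hnormσ : (∀ a, (σ : F →+* F) a = a) ∨
      ∀ c, (σ : F →+* F) c = c → ∃ μ, μ * (σ : F →+* F) μ = c := by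
    by_cases hσ1 : σ = 1
    · exact Or.inl fun a => by change σ a = a; rw [hσ1]; rfl
    · right
      intro b hb
      rcases eq_or_ne b 0 with rfl | hb0
      · exact ⟨0, by simp⟩
      · obtain ⟨ν, -, hν⟩ := exists_norm_cyclic σ hb0 hb
        refine ⟨ν, ?_⟩
        rw [orderOf_eq_prime (by rw [pow_two]; exact hσ2) hσ1, Finset.prod_range_succ,
          Finset.prod_range_one, pow_zero, pow_one] at hν
        exact hν
  let π : G →* MulAut Pn := (conjP (n := n) (F := F)).comp G.subtype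
  refine LocalBalance.graph_core_trivial x conj_injective π hGP ?_ ?_ ?_ L hL hL2 hcop
  · -- squares
    intro k hk
    obtain ⟨w, rfl⟩ := pr_surjective k
    have hk' : (conjP H₀ * fieldP σ * itP : MulAut Pn) (pr w) = pr w := by rw [hH₀P]; exact hk
    rw [MulAut.mul_apply, MulAut.mul_apply, itP_apply, fieldP_apply, conjP_apply, pr_eq_iff] at hk'
    obtain ⟨ζ, hζ, hw⟩ := hk'
    rw [conjSL_val, fieldSL_val, invTSL_val] at hw
    have hζ0 : ζ ≠ 0 := fun h0 => by
      rw [h0, zero_pow (NeZero.ne n)] at hζ; exact zero_ne_one hζ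
    have hwinv : (((w⁻¹ : SLn).1.transpose).map σ) * ((w.1.map σ)ᵀ) = 1 := by
      rw [Matrix.transpose_map, ← Matrix.transpose_mul, ← map_mul' σ,
        ← Matrix.SpecialLinearGroup.coe_mul, mul_inv_cancel, Matrix.SpecialLinearGroup.coe_one,
        map_one', Matrix.transpose_one]
    have e1 : (w.1.map σ)ᵀ * K * w.1 = ζ⁻¹ • K := by
      have e3 : ((w⁻¹ : SLn).1.transpose).map σ = ζ • (K * w.1 * (H₀ : Mn)) := by
        have := congrArg (fun M => K * M * (H₀ : Mn)) hw
        simp only [hK, Matrix.mul_assoc, Units.inv_mul, Matrix.mul_one, Units.inv_mul_cancel_left,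
          Matrix.smul_mul, Matrix.mul_smul] at this
        rw [this, hK, Matrix.mul_assoc]
      have e4 : (w.1.map σ)ᵀ * (((w⁻¹ : SLn).1.transpose).map σ) = 1 :=
        mul_eq_one_comm.mp hwinv
      rw [e3, Matrix.mul_smul] at e4
      have e5 := congrArg (fun M => M * K) e4
      simp only [Matrix.smul_mul, Matrix.mul_assoc, hK, Units.mul_inv, Matrix.mul_one,
        Matrix.one_mul] at e5
      rw [← hK] at e5
      rw [eq_inv_smul_iff₀ hζ0]
      simpa only [Matrix.mul_assoc] using e5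
    obtain ⟨lam, hlam⟩ : ∃ l, l = ζ⁻¹ := ⟨_, rfl⟩
    rw [← hlam] at e1
    have hlr : σ lam = lam := by
      obtain ⟨v, hv⟩ := hBnd (Pi.single ⟨0, by omega⟩ 1) (by simp)
      set u : Fin n → F := Pi.single ⟨0, by omega⟩ 1
      have e6 : ∀ u v, B (w.1 *ᵥ u) (w.1 *ᵥ v) = lam * B u v := fun u v => by
        rw [hBgram, e1, Matrix.smul_mulVec, dotProduct_smul, smul_eq_mul]
      have e7 := congrArg σ (e6 u v)
      rw [map_mul, hBsymm, hBsymm, e6] at e7
      have hne : ε * B v u ≠ 0 := by rw [← hBsymm]; exact (map_ne_zero σ).mpr hv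
      exact (mul_right_cancel₀ hne (by linear_combination e7)).symm
    have hl0 : lam ≠ 0 := hlam ▸ inv_ne_zero hζ0
    refine ⟨⟨scalarGL (Units.mk0 lam hl0)⁻¹ * (Matrix.SpecialLinearGroup.toGL w *
      Matrix.SpecialLinearGroup.toGL w), fun u v => ?_⟩, ?_⟩
    · have e6 : ∀ u v, B (w.1 *ᵥ u) (w.1 *ᵥ v) = lam * B u v := fun u v => by
        rw [hBgram, e1, Matrix.smul_mulVec, dotProduct_smul, smul_eq_mul]
      have hval : ∀ u, (scalarGL (Units.mk0 lam hl0)⁻¹ * (Matrix.SpecialLinearGroup.toGL w *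
          Matrix.SpecialLinearGroup.toGL w)).val *ᵥ u = lam⁻¹ • (w.1 *ᵥ (w.1 *ᵥ u)) := fun u => by
        rw [Units.val_mul, Units.val_mul,
          show (scalarGL (n := n) (Units.mk0 lam hl0)⁻¹ : Mn) = lam⁻¹ • (1 : Mn) from
            (scalar_eq_smul _).trans (by simp), Matrix.smul_mul, Matrix.one_mul, Matrix.smul_mulVec,
          ← Matrix.mulVec_mulVec]
        rfl
      rw [hval, hval, hBsmul, hBsmulL, map_inv₀, hlr, e6, e6]
      rw [inv_mul_cancel_left₀ hl0, inv_mul_cancel_left₀ hl0]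
    · simp only [π, MonoidHom.comp_apply, Subgroup.subtype_apply]
      rw [map_mul conjP, conjP_scalarGL, one_mul, map_mul conjP, conjP_toGL, ← map_mul]
  · -- involutions
    intro N hN m hm hm1
    let N₁ : Subgroup ((Fin n → F) ≃ₗ[F] (Fin n → F)) :=
      (N.map G.subtype).map Forms.lEquiv.toMonoidHom
    have hmem : ∀ e, e ∈ N₁ ↔ ∃ a ∈ N, Forms.lEquiv a.1 = e := fun e => by
      constructor
      · rintro ⟨_, ⟨a, ha, rfl⟩, rfl⟩; exact ⟨a, ha, rfl⟩
      · rintro ⟨a, ha, rfl⟩; exact ⟨_, ⟨a, ha, rfl⟩, rfl⟩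
    have hGmem : ∀ e : (Fin n → F) ≃ₗ[F] (Fin n → F), (∀ u v, B (e u) (e v) = B u v) →
        Forms.lEquiv.symm e ∈ G := fun e he u v => by
      rw [Forms.lEquiv_symm_mulVec, Forms.lEquiv_symm_mulVec, he]
    have hnorm : ∀ e : (Fin n → F) ≃ₗ[F] (Fin n → F), (∀ u v, B (e u) (e v) = B u v) →
        ∀ q ∈ N₁, e * q * e⁻¹ ∈ N₁ := by
      intro e he q hq
      obtain ⟨a, ha, rfl⟩ := (hmem q).mp hq
      refine (hmem _).mpr ⟨_, hN.conj_mem a ha ⟨_, hGmem e he⟩, ?_⟩
      simp [map_mul, map_inv]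
    have hns : ¬ Forms.IsScalar (Forms.lEquiv m.1) := by
      rintro ⟨l, hl⟩
      refine hm1 (conjP_of_scalar (c := l) (Matrix.ext_of_mulVec_single fun j => ?_))
      change m.1.val *ᵥ _ = _
      rw [← Forms.lEquiv_apply, hl, Matrix.smul_mulVec, Matrix.one_mulVec]
    have hmiso : ∀ u v, B (Forms.lEquiv m.1 u) (Forms.lEquiv m.1 v) = B u v := fun u v => m.2 u v
    have hback : ∀ d ∈ N₁, d * d = 1 → ¬ Forms.IsScalar d → ∃ a ∈ N, a * a = 1 ∧ π a ≠ 1 := by
      intro d hd hd2 hds
      obtain ⟨a, ha, rfl⟩ := (hmem d).mp hd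
      refine ⟨a, ha, Subtype.ext (Forms.lEquiv.injective (by rw [Subgroup.coe_mul, map_mul, hd2,
        Subgroup.coe_one, map_one])), fun h => hds ?_⟩
      obtain ⟨l, hl⟩ := scalar_of_conjP_eq_one h
      exact ⟨l, fun u => by rw [Forms.lEquiv_apply, show a.1.val = l • (1 : Mn) from hl, Matrix.smul_mulVec, Matrix.one_mulVec]⟩
    rcases hε with rfl | ⟨rfl, rfl⟩
    · let Hf : Forms.Herm F (Fin n → F) :=
        ⟨σ, B, hBadd, hBsmul, fun u v => by
          change σ (B u v) = B v u; rw [hBsymm, one_mul], hinv, hBnd⟩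
      obtain ⟨e, he, hee⟩ := Hf.exists_isotropic h2 hn hnormσ
      obtain ⟨d, hd, hd2, -, hds⟩ := Hf.exists_involution h2 N₁
        (Hf.exists_good h2 N₁ hnorm he hee (Hf.exists_perp' hn) ((hmem _).mpr ⟨m, hm, rfl⟩) hmiso
          hns) (Hf.exists_perp' hn)
      exact hback d hd hd2 hds
    · have hswap : ∀ u v, B u v = -B v u := fun u v => by
        have := hBsymm u v
        rw [show (1 : F ≃+* F) (B u v) = B u v from rfl] at this
        rw [this, neg_one_mul]
      let Af : Forms.Alt F (Fin n → F) := ⟨B, hBadd, hBsmul, hswap,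
        fun u => mul_left_cancel₀ h2 (by linear_combination hswap u u), hBnd⟩
      have hrodd : Odd r := (Fact.out : r.Prime).odd_of_ne_two fun h => h2 (by
        subst h; exact_mod_cast CharP.cast_eq_zero F 2)
      obtain ⟨d, hd, hd2, -, hds⟩ := Af.exists_involution r hrodd N₁ hnorm
        ((hmem _).mpr ⟨m, hm, rfl⟩) hmiso hns (Af.exists_perp' hn)
      exact hback d hd hd2 hds
  · -- the centraliser
    intro l hlodd hlfix
    obtain ⟨Θ, hΘ, -⟩ := exists_theta (n := n) (F := F) hn
    obtain ⟨a, τ, δ, -, rfl⟩ := aut_decomp_all (by omega) l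
    obtain rfl : δ = 1 := by
      obtain ⟨j, hj⟩ := hlodd
      have h3 := congrArg Prod.snd (congrArg Θ (pow_orderOf_eq_one
        (conjP a * fieldP τ * gam δ : MulAut Pn)))
      rw [map_pow, hΘ, map_one, Prod.pow_snd, Prod.snd_one, hj, pow_succ, pow_mul,
        show ∀ b : Multiplicative (ZMod 2), b ^ 2 = 1 by decide, one_pow, one_mul] at h3
      exact h3
    rw [map_one, mul_one] at hlfix ⊢
    have main : (∀ b, (τ : F →+* F) b = b) ∧ ∃ l : F, ∀ u, mkφ a τ u = l • u := by
      rcases hε with rfl | ⟨rfl, rfl⟩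
      · let Hf : Forms.Herm F (Fin n → F) :=
          ⟨σ, B, hBadd, hBsmul, fun u v => by
            change σ (B u v) = B v u; rw [hBsymm, one_mul], hinv, hBnd⟩
        obtain ⟨e, he, hee⟩ := Hf.exists_isotropic h2 hn hnormσ
        refine Hf.semilinear_trivial h2 τ (mkφ a τ)
          ⟨hφinj a τ, Finite.injective_iff_surjective.mp (hφinj a τ)⟩ (hφadd a τ) (hφsmul a τ)
          (fun u v hu hv => ?_) he hee (Hf.exists_perp' hn)
        have hdet : (Forms.lEquiv.symm (Hf.refl u * Hf.refl v)).val.det = 1 := by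
          rw [map_mul, Units.val_mul, Matrix.det_mul, Hf.det_refl hu, Hf.det_refl hv]
          ring
        let d : SLn := ⟨_, hdet⟩
        obtain ⟨k, hk⟩ := hcomm a τ d (hlfix _ (hSL d fun u' v' => by
          change B ((Forms.lEquiv.symm (Hf.refl u * Hf.refl v)).val *ᵥ u')
            ((Forms.lEquiv.symm (Hf.refl u * Hf.refl v)).val *ᵥ v') = _
          rw [Forms.lEquiv_symm_mulVec, Forms.lEquiv_symm_mulVec]
          exact (Hf.Iso.mul_mem (Hf.refl_mem u) (Hf.refl_mem v)) u' v'))
        refine ⟨k, fun w => ?_⟩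
        have h4 := hk w
        rwa [hlift d _ rfl, hlift d _ rfl] at h4
      · have hswap : ∀ u v, B u v = -B v u := fun u v => by
          have := hBsymm u v
          rw [show (1 : F ≃+* F) (B u v) = B u v from rfl] at this
          rw [this, neg_one_mul]
        let Af : Forms.Alt F (Fin n → F) := ⟨B, hBadd, hBsmul, hswap,
          fun u => mul_left_cancel₀ h2 (by linear_combination hswap u u), hBnd⟩
        obtain ⟨e, he, -, -⟩ := Af.exists_perp' hn 0 0
        refine Af.semilinear_trivial τ (mkφ a τ) (hφadd a τ) (hφsmul a τ) (hφinj a τ) he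
          fun v => ?_
        let d : SLn := ⟨_, Af.det_tv r v 1⟩
        obtain ⟨k, hk⟩ := hcomm a τ d (hlfix _ (hSL d fun u' v' => by
          change B ((Forms.lEquiv.symm (Af.tv v 1)).val *ᵥ u')
            ((Forms.lEquiv.symm (Af.tv v 1)).val *ᵥ v') = _
          rw [Forms.lEquiv_symm_mulVec, Forms.lEquiv_symm_mulVec]
          exact Af.tv_mem v 1 u' v'))
        refine ⟨k, fun w => ?_⟩
        have h4 := hk w
        rwa [hlift d _ rfl, hlift d _ rfl] at h4
    exact hfinish a τ main.1 main.2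

end Graph

/-- The local balance criterion for `PSL_n(q)`. -/
theorem balance [Fintype F] (hn : 2 ≤ n) {r : ℕ} [Fact r.Prime] [CharP F r]
    (A : Subgroup (MulAut Pn)) (hinn : ∀ k : Pn, MulAut.conj k ∈ A)
    {p : ℕ} [Fact p.Prime] (hpr : p ≠ r) (x : MulAut Pn) (hord : orderOf x = p)
    (hnot : ¬ Cfsg.IsInnerDiagonalAutPSL x) :
    Cfsg.pPrimeCore p ↥(A ⊓ Subgroup.centralizer {x}) ≠ ⊥ ↔
      ((∃ γ φ : MulAut Pn, Cfsg.IsInnerDiagonalAutPSL γ ∧ Cfsg.IsFieldAutPSL φ ∧
          x = φ.trans γ) ∧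
        Nat.Coprime p (Nat.card ↥(MonoidHom.eqLocus x.toMonoidHom (MonoidHom.id Pn)))) := by
  classical
  have : NeZero n := ⟨by omega⟩
  have hp : p.Prime := Fact.out
  obtain ⟨g, σ, ε, hε, hx⟩ := aut_decomp_all hn x
  rcases two_cases ε with rfl | rfl
  · rw [map_one, mul_one] at hx
    have hσ1 : σ ≠ 1 := fun h => hnot ((innerDiag_iff x).mpr ⟨g, by rw [hx, h, map_one, mul_one]⟩)
    have hσp : σ ^ p = 1 := by
      obtain ⟨N, -, hN⟩ := decomp_pow_field g σ p
      rw [← hx, ← hord, pow_orderOf_eq_one] at hN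
      exact hord ▸ (field_unique hn hN.symm).1
    have hσo : orderOf σ = p := orderOf_eq_prime hσp hσ1
    obtain ⟨B, hB⟩ := field_conj hn g σ (by rw [← hx, hσo, ← hord, pow_orderOf_eq_one])
    have hconj : (conjP B : MulAut Pn)⁻¹ * x * ((conjP B : MulAut Pn)⁻¹)⁻¹ = fieldP σ := by
      rw [hx, hB]; group
    constructor
    · intro hne
      refine ⟨⟨conjP g, fieldP σ, (innerDiag_iff _).mpr ⟨g, rfl⟩, ⟨σ, (stdField_iff σ _).mpr rfl⟩,
        hx⟩, ?_⟩
      by_contra hcop
      refine hne (LocalBalance.core_eq_bot A hinn x (conjP B)⁻¹ (fieldP σ) hconj fun L hL h2 hc =>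
        field_core σ hn hpr hσo ?_ L hL h2 hc)
      obtain ⟨k₀, hk₀⟩ := exists_prime_orderOf_dvd_card' p
        ((Nat.Prime.coprime_iff_not_dvd hp).not_left.mp hcop)
      refine ⟨(conjP B : MulAut Pn)⁻¹ k₀.1, ?_, ?_⟩
      · rw [← hconj, inv_inv, MulAut.mul_apply, MulAut.mul_apply, MulAut.apply_inv_self]
        exact congrArg _ k₀.2
      · rw [MulEquiv.orderOf_eq, Subgroup.orderOf_coe, hk₀]
    · rintro ⟨-, hcop⟩
      refine LocalBalance.core_ne_bot A hinn x conj_injective ?_ hcop
      have hij : (⟨0, by omega⟩ : Fin n) ≠ ⟨1, by omega⟩ := Fin.ne_of_val_ne (by simp)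
      refine ⟨conjP B (xx ⟨0, by omega⟩ ⟨1, by omega⟩ (1 : F)), ?_, ?_⟩
      · rw [hx, hB]
        simp only [MulAut.mul_apply, MulAut.inv_apply_self, fieldP_xx σ hij, map_one]
      · rw [Ne, EmbeddingLike.map_eq_one_iff, ← xx_zero (⟨0, by omega⟩ : Fin n) ⟨1, by omega⟩]
        exact fun h => one_ne_zero (xx_inj hij h)
  · have hn3 : 3 ≤ n := by
      rcases eq_or_lt_of_le hn with h | h
      · exact absurd (hε h.symm) (by decide)
      · exact h
    rw [gam_one_eq] at hx
    obtain ⟨Θ, hΘ, -⟩ := exists_theta (n := n) (F := F) hn3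
    have hp2 : p = 2 := by
      have h1 := congrArg Θ (pow_orderOf_eq_one x)
      rw [hord, map_pow, hx, ← gam_one_eq, hΘ, map_one Θ] at h1
      have h3 := congrArg Prod.snd h1
      rw [Prod.pow_snd, Prod.snd_one] at h3
      have h4 := orderOf_dvd_of_pow_eq_one h3
      rw [orderOf_ofAdd_one] at h4
      exact ((Nat.prime_dvd_prime_iff_eq Nat.prime_two hp).mp h4).symm
    subst hp2
    have hσ2 : σ * σ = 1 := by
      have h1 := congrArg Θ (pow_orderOf_eq_one x)
      rw [hord, map_pow, hx, ← gam_one_eq, hΘ, map_one Θ] at h1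
      have h3 := congrArg Prod.fst h1
      rwa [Prod.pow_fst, Prod.fst_one, pow_two] at h3
    have h2 : (2 : F) ≠ 0 := fun h => hpr (Eq.symm
      ((Nat.prime_dvd_prime_iff_eq (Fact.out : r.Prime) Nat.prime_two).mp
        ((CharP.cast_eq_zero_iff F r 2).mp (by exact_mod_cast h))))
    have hbot : Cfsg.pPrimeCore 2 ↥(A ⊓ Subgroup.centralizer {x}) = ⊥ := by
      refine LocalBalance.core_eq_bot A hinn x 1 x (by group) fun L hL hL2 hc => ?_
      subst hx
      exact graph_core (r := r) hn3 h2 g σ (by rw [← pow_two, ← hord, pow_orderOf_eq_one]) hσ2 L hL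
        hL2 hc
    refine iff_of_false (fun h => h hbot) ?_
    rintro ⟨⟨γ, φ, hγ, ⟨τ, hφ⟩, hxe⟩, -⟩
    obtain ⟨g', rfl⟩ := (innerDiag_iff γ).mp hγ
    rw [(stdField_iff τ φ).mp hφ] at hxe
    have h1 : Θ x = (τ, 1) := by
      rw [hxe, ← hΘ g' τ 1, map_one gam, mul_one]
      rfl
    rw [hx, ← gam_one_eq, hΘ] at h1
    exact absurd (congrArg Prod.snd h1)
      ofAdd_one_ne

end Cfsg.Agent.Small.PSLn
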