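import Cfsg.Agent.Lib.Small.PSLn.Graph
import Cfsg.Agent.Lib.Small.Gram.Two

/-!
# Classes of involutory graph automorphisms of `PSL_n`
-/

set_option autoImplicit false
set_option linter.unusedSectionVars false

namespace Cfsg.Agent.Small.PSLn

open Matrix Cfsg.Agent.Small Gram FormDisc

variable {n : ℕ} {F : Type*} [Field F] [Fintype F]

local notation "Pn" => Matrix.ProjectiveSpecialLinearGroup (Fin n) F

theorem gl_det (B : GL (Fin n) F) : IsUnit B.val.det :=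
  (Matrix.isUnit_iff_isUnit_det _).1 B.isUnit

theorem no_skew (h2 : (2 : F) ≠ 0) {m : ℕ} (hnm : n = 2 * m + 1) (B : GL (Fin n) F) : B.valᵀ ≠ -B.val := by
  intro h
  have e := congrArg Matrix.det h
  rw [Matrix.det_transpose, Matrix.det_neg, Fintype.card_fin, Odd.neg_one_pow ⟨m, hnm⟩] at e
  exact (gl_det B).ne_zero ((mul_eq_zero.1 (show 2 * B.val.det = 0 by linear_combination e)).resolve_left h2)

theorem skew_alt (h2 : (2 : F) ≠ 0) {B : Matrix (Fin n) (Fin n) F} (h : Bᵀ = -B) (v : Fin n → F) :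
    v ⬝ᵥ B *ᵥ v = 0 := by
  have e : v ⬝ᵥ B *ᵥ v = v ⬝ᵥ Bᵀ *ᵥ v := by
    rw [Matrix.mulVec_transpose, dotProduct_comm v (v ᵥ* B), Matrix.dotProduct_mulVec]
  rw [h, Matrix.neg_mulVec, dotProduct_neg] at e
  exact (mul_eq_zero.1 (show 2 * (v ⬝ᵥ B *ᵥ v) = 0 by linear_combination e)).resolve_left h2

theorem even_cases (h2 : (2 : F) ≠ 0) {m : ℕ} (hm : 1 ≤ m) (hnm : n = 2 * m) {a c : F}
    (hac : ∀ z₁ z₂ : F, z₁ ^ 2 + a * z₁ * z₂ + c * z₂ ^ 2 = 0 → z₁ = 0 ∧ z₂ = 0) (B : GL (Fin n) F)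
    (hB : B.valᵀ = B.val ∨ B.valᵀ = -B.val) :
    (B.valᵀ = -B.val ∧ Model B.val (Matrix.J (Fin m) F)) ∨
      (B.valᵀ = B.val ∧ (Model B.val (Jplus F m) ∨ Model B.val (Jminus F (m - 1) a c))) := by
  rcases hB with h | h
  · exact .inr ⟨h, sym_even h2 h (gl_det B) hm (by rw [Fintype.card_fin, hnm]) hac⟩
  · exact .inl ⟨h, alt_model (skew_alt h2 h) (gl_det B) (by rw [Fintype.card_fin, hnm])⟩

theorem Jplus_symm (m : ℕ) : (Jplus F m)ᵀ = Jplus F m := by
  simp [Jplus, Matrix.fromBlocks_transpose]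

theorem Jminus_symm (k : ℕ) (a c : F) : (Jminus F k a c)ᵀ = Jminus F k a c := by
  rw [Jminus, Matrix.fromBlocks_transpose, Matrix.transpose_zero, Matrix.transpose_zero, Jplus_symm]
  congr 1
  ext i j
  fin_cases i <;> fin_cases j <;> simp

theorem not_model_J (h2 : (2 : F) ≠ 0) {m : ℕ} (hm : 1 ≤ m) {ι : Type} [Fintype ι] [DecidableEq ι]
    {B : Matrix ι ι F} (hs : Bᵀ = B) : ¬ Model B (Matrix.J (Fin m) F) := fun h => by
  have e := h.transpose_eq (ε := (1 : F)) (by rw [one_smul]; exact hs)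
  rw [Matrix.J_transpose, one_smul] at e
  have e' := congrFun (congrFun e (.inr ⟨0, hm⟩)) (.inl ⟨0, hm⟩)
  rw [Matrix.neg_apply] at e'
  simp [Matrix.J] at e'
  exact h2 (by linear_combination -e')

theorem not_model_plus_minus (h2 : (2 : F) ≠ 0) {m : ℕ} (hm : 1 ≤ m) {a c : F}
    (hac : ∀ z₁ z₂ : F, z₁ ^ 2 + a * z₁ * z₂ + c * z₂ ^ 2 = 0 → z₁ = 0 ∧ z₂ = 0) :
    ¬ Model (Jplus F m) (Jminus F (m - 1) a c) := fun h => by
  obtain ⟨d, -, hd⟩ := h.disc (by rw [Fintype.card_sum, Fintype.card_fin]; ring)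
    (by rw [Fintype.card_sum, Fintype.card_sum, Fintype.card_fin, Fintype.card_fin]; omega)
    (det_minus_unit h2 _ hac)
  obtain ⟨k, rfl⟩ : ∃ k, m = k + 1 := ⟨m - 1, by omega⟩
  rw [Nat.add_sub_cancel, det_Jminus, det_Jplus, pow_succ] at hd
  refine disc_nonsquare h2 hac ⟨d, mul_left_cancel₀ (pow_ne_zero k (neg_ne_zero.2 (one_ne_zero (α := F)))) ?_⟩
  linear_combination -hd

theorem range_eq_ker (k : ℕ) :
    (powMonoidHom k : Fˣ →* Fˣ).range =
      (powMonoidHom (Nat.card Fˣ / Nat.gcd (Nat.card Fˣ) k) : Fˣ →* Fˣ).ker := by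
  have hb : Nat.card Fˣ / Nat.gcd (Nat.card Fˣ) k ∣ Nat.card Fˣ := Nat.div_dvd_of_dvd (Nat.gcd_dvd_left _ _)
  have hc := Subgroup.card_mul_index (powMonoidHom k : Fˣ →* Fˣ).range
  rw [IsCyclic.index_powMonoidHom_range] at hc
  have hr : Nat.card (powMonoidHom k : Fˣ →* Fˣ).range = Nat.card Fˣ / Nat.gcd (Nat.card Fˣ) k := by
    conv_rhs => arg 1; rw [← hc]
    rw [Nat.mul_div_cancel _ (Nat.gcd_pos_of_pos_left _ Nat.card_pos)]
  refine Subgroup.eq_of_le_of_card_ge ?_ (by rw [card_pow_ker hb, hr])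
  rintro _ ⟨u, rfl⟩
  rw [MonoidHom.mem_ker, powMonoidHom_apply, powMonoidHom_apply, ← pow_mul]
  have hd := Nat.gcd_dvd_left (Nat.card Fˣ) k
  obtain ⟨j, hj⟩ := Nat.gcd_dvd_right (Nat.card Fˣ) k
  generalize Nat.gcd (Nat.card Fˣ) k = G at hd hj ⊢
  rw [hj, mul_comm G j, mul_assoc, Nat.mul_div_cancel' hd, mul_comm, pow_mul, pow_card_eq_one', one_pow]

theorem count_of_range [NeZero n] (x : MulAut Pn) (k : ℕ)
    (hk : ((Subgroup.centralizer {x}).comap conjP).map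
        (Matrix.GeneralLinearGroup.det : GL (Fin n) F →* Fˣ) ⊔ (powMonoidHom n).range =
        (powMonoidHom k : Fˣ →* Fˣ).range ⊔ (powMonoidHom n).range) :
    Cfsg.splitClassCount (Cfsg.inndiagPSL n F) (Cfsg.Inn Pn) x = Nat.gcd n (Nat.gcd (Nat.card Fˣ) k) := by
  rw [split_count x _ hk]
  congr 1
  have hc := Subgroup.card_mul_index (powMonoidHom k : Fˣ →* Fˣ).range
  rw [IsCyclic.index_powMonoidHom_range] at hc
  conv_lhs => arg 1; rw [← hc]
  rw [Nat.mul_div_cancel_left _ Nat.card_pos]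

theorem count_trivial [NeZero n] (hn : 2 ≤ n) (B : GL (Fin n) F)
    (h : ∀ g ∈ Sim B.val, Matrix.GeneralLinearGroup.det g ∈ (powMonoidHom n : Fˣ →* Fˣ).range) :
    Cfsg.splitClassCount (Cfsg.inndiagPSL n F) (Cfsg.Inn Pn) (gr B) = Nat.gcd n (Nat.card Fˣ) := by
  rw [count_of_range (gr B) n, Nat.gcd_comm (Nat.card Fˣ), ← Nat.gcd_assoc, Nat.gcd_self]
  rw [det_comap hn, sup_idem]
  refine sup_eq_right.2 ?_
  rintro _ ⟨g, hg, rfl⟩
  exact h g hg

theorem count_symp [NeZero n] (hn : 2 ≤ n) {m : ℕ} (hnm : n = 2 * m) (B : GL (Fin n) F)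
    (h : Model B.val (Matrix.J (Fin m) F)) :
    Cfsg.splitClassCount (Cfsg.inndiagPSL n F) (Cfsg.Inn Pn) (gr B) = Nat.gcd m (Nat.card Fˣ) := by
  rw [count_of_range (gr B) m (by rw [det_comap hn, h.det_image, det_image_J]), Nat.gcd_comm (Nat.card Fˣ),
    ← Nat.gcd_assoc, Nat.gcd_eq_right (show m ∣ n from ⟨2, by rw [hnm, mul_comm]⟩)]

theorem count_orth [NeZero n] (h2 : (2 : F) ≠ 0) (hodd : Odd (Fintype.card F)) (hn : 2 ≤ n) {m : ℕ}
    (hnm : n = 2 * m) (B : GL (Fin n) F) (hs : B.valᵀ = B.val) :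
    Cfsg.splitClassCount (Cfsg.inndiagPSL n F) (Cfsg.Inn Pn) (gr B) = Nat.gcd n (Nat.card Fˣ) / 2 := by
  have himg := det_image_sym h2 hs (gl_det B) (m := m) (by omega) (by rw [Fintype.card_fin, hnm])
  have hN : Even (Nat.card Fˣ) := by
    rw [Nat.card_units, Nat.card_eq_fintype_card]
    obtain ⟨t, ht⟩ := hodd
    exact ⟨t, by omega⟩
  generalize hg : Nat.gcd (Nat.card Fˣ) m = g
  obtain ⟨b, hb⟩ : g ∣ Nat.card Fˣ := hg ▸ Nat.gcd_dvd_left _ _
  obtain ⟨a, ha⟩ : g ∣ m := hg ▸ Nat.gcd_dvd_right _ _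
  have hg0 : 0 < g := Nat.pos_of_ne_zero fun h => by rw [h, zero_mul] at hb; exact Nat.card_pos.ne' hb
  have hcop : Nat.Coprime a b := by
    have : g * Nat.gcd b a = g * 1 := by rw [← Nat.gcd_mul_left, ← hb, ← ha, hg, mul_one]
    exact (Nat.coprime_comm).1 (Nat.eq_of_mul_eq_mul_left hg0 this)
  have hgn : Nat.gcd n (Nat.card Fˣ) = g * Nat.gcd 2 b := by
    rw [hnm, ha, hb, show 2 * (g * a) = g * (2 * a) by ring, Nat.gcd_mul_left,
      Nat.Coprime.gcd_mul_right_cancel _ hcop]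
  have hbd : Nat.card Fˣ / g = b := by rw [hb, Nat.mul_div_cancel_left b hg0]
  have hR := range_eq_ker (F := F) m
  rw [hg, hbd] at hR
  rcases Nat.even_or_odd b with he | ho
  · have h1 : (-1 : Fˣ) ∈ (powMonoidHom m : Fˣ →* Fˣ).range := by
      rw [hR, MonoidHom.mem_ker, powMonoidHom_apply, he.neg_one_pow]
    rw [count_of_range (gr B) m (by rw [det_comap hn, himg, sup_eq_right.2 (Subgroup.zpowers_le.2 h1)]), hg, hgn,
      Nat.gcd_eq_left he.two_dvd, Nat.mul_div_cancel g two_pos, Nat.gcd_eq_right]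
    rw [hnm, ha]
    exact ⟨2 * a, by ring⟩
  · obtain ⟨j, hj⟩ : 2 ∣ g := by
      rw [hb, Nat.even_mul] at hN
      exact (hN.resolve_right (Nat.not_even_iff_odd.2 ho)).two_dvd
    have hR' := range_eq_ker (F := F) j
    have hgj : Nat.gcd (Nat.card Fˣ) j = j := Nat.gcd_eq_right ⟨2 * b, by rw [hb, hj]; ring⟩
    rw [hgj, show Nat.card Fˣ / j = 2 * b by
      rw [hb, hj, show 2 * j * b = j * (2 * b) by ring, Nat.mul_div_cancel_left _ (by omega)]] at hR'
    have hS : Subgroup.zpowers (-1 : Fˣ) ⊔ (powMonoidHom m : Fˣ →* Fˣ).range =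
        (powMonoidHom j : Fˣ →* Fˣ).range := by
      rw [hR, hR']
      refine Subgroup.eq_of_le_of_card_ge (sup_le (Subgroup.zpowers_le.2 ?_) fun x hx => ?_) ?_
      · rw [MonoidHom.mem_ker, powMonoidHom_apply, pow_mul, neg_one_sq, one_pow]
      · rw [MonoidHom.mem_ker, powMonoidHom_apply] at hx ⊢
        rw [mul_comm, pow_mul, hx, one_pow]
      · have hbc : Nat.card (powMonoidHom b : Fˣ →* Fˣ).ker = b := card_pow_ker ⟨g, by rw [hb, mul_comm]⟩
        rw [card_pow_ker ⟨j, by rw [hb, hj]; ring⟩]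
        obtain ⟨t, ht⟩ := Subgroup.card_dvd_of_le
          (le_sup_right : (powMonoidHom b : Fˣ →* Fˣ).ker ≤ Subgroup.zpowers (-1 : Fˣ) ⊔ _)
        rw [ht, hbc, mul_comm 2 b]
        refine Nat.mul_le_mul_left b ?_
        by_contra hlt
        have hcard : Nat.card ↥(Subgroup.zpowers (-1 : Fˣ) ⊔ (powMonoidHom b : Fˣ →* Fˣ).ker) ≤ b := by
          rw [ht, hbc]
          calc b * t ≤ b * 1 := Nat.mul_le_mul_left b (by omega)
            _ = b := mul_one b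
        have heq := Subgroup.eq_of_le_of_card_ge
          (le_sup_right : (powMonoidHom b : Fˣ →* Fˣ).ker ≤ Subgroup.zpowers (-1 : Fˣ) ⊔ _) (hcard.trans hbc.ge)
        have hmem : (-1 : Fˣ) ∈ (powMonoidHom b : Fˣ →* Fˣ).ker := by
          rw [heq]
          exact Subgroup.mem_sup_left (Subgroup.mem_zpowers _)
        rw [MonoidHom.mem_ker, powMonoidHom_apply, ho.neg_one_pow, Units.ext_iff, Units.val_neg,
          Units.val_one] at hmem
        exact h2 (by linear_combination -hmem)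
    rw [count_of_range (gr B) j (by rw [det_comap hn, himg, hS]), hgj, hgn,
      Nat.coprime_two_left.2 ho |>.gcd_eq_one, mul_one, hj, Nat.mul_div_cancel_left j two_pos, Nat.gcd_eq_right]
    rw [hnm, ha, hj]
    exact ⟨4 * a, by ring⟩

end Cfsg.Agent.Small.PSLn
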